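import Cfsg.Agent.Lib.Glauberman.Solvable
import Cfsg.Agent.Lib.CharDeep.Extend
import Cfsg.Agent.Lib.Blk83.ItoMichler
import Cfsg.Agent.S0867

/-!
# Characters of degree prime to a coprime complement

They are the products of an invariant character of the normal factor, extended canonically, with
a linear character of the complement.
-/

set_option autoImplicit false

namespace CfsgLib.Glauberman

open Cfsg CfsgLib

universe u

variable {G : Type u} [Group G] [Finite G] (K H : Subgroup G) [K.Normal]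

omit [Finite G] in
/-- A coprime supplement is a complement. -/
theorem isComplement_of_coprime_sup (hKH : K ⊔ H = ⊤) (hcop : (Nat.card K).Coprime (Nat.card H)) :
    K.IsComplement' H := by
  refine Subgroup.isComplement'_of_disjoint_and_mul_eq_univ
    (Subgroup.disjoint_of_coprime_natCard hcop) ?_
  rw [← Subgroup.normal_mul, hKH, Subgroup.coe_top]

/-- Invariant characters extend. -/
theorem exists_ext_of_invariant (hcop : (Nat.card K).Coprime K.index) [Fintype K]
    (θ : IrrCharacter K) (hinv : ∀ g, CharTwist.conjFun K (θ : K → ℂ) g = (θ : K → ℂ)) :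
    ∃ χ : IrrCharacter G, ∀ k : K, (χ : G → ℂ) k = (θ : K → ℂ) k := by
  have hdet : detOrder (θ : K → ℂ) ∣ Nat.card K := by
    obtain ⟨δ, hδ⟩ := CharDeep.Extend.exists_det_hom K (θ : K → ℂ) θ.2
    rw [detOrder, hδ, CharDeep.Lin.orderOf_coe]
    refine orderOf_dvd_of_pow_eq_one (MonoidHom.ext fun k => ?_)
    rw [MonoidHom.pow_apply, ← map_pow, pow_card_eq_one', map_one, MonoidHom.one_apply]
  have h1 : Nat.Coprime K.index (detOrder (θ : K → ℂ) * charDegree (θ : K → ℂ)) :=
    Nat.Coprime.mul_right (hcop.symm.coprime_dvd_right hdet)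
      (hcop.symm.coprime_dvd_right (Blk83.deg_dvd θ))
  obtain ⟨χ, ⟨hχ, hres, -⟩, -⟩ := Cfsg.Agent.S0867.result K (θ : K → ℂ) θ.2
    (fun g k => congrFun (hinv g) k) _ (Blk83.one_eq θ) h1
  exact ⟨⟨χ, hχ⟩, hres⟩

/-- The count of the characters of degree prime to the complement. -/
theorem card_coprime_degree (hKH : K ⊔ H = ⊤) (hcop : (Nat.card K).Coprime (Nat.card H))
    [Fintype K] :
    Nat.card {χ : IrrCharacter G // (charDegree (χ : G → ℂ)).Coprime (Nat.card H)} =
      Nat.card {θ : IrrCharacter K // ∀ g, CharTwist.conjFun K (θ : K → ℂ) g = (θ : K → ℂ)} *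
        Nat.card (H →* ℂˣ) := by
  classical
  haveI := Fintype.ofFinite G
  have hcompl := isComplement_of_coprime_sup K H hKH hcop
  have hidx : K.index = Nat.card H := hcompl.symm.index_eq_card
  have hinj : Function.Injective ((QuotientGroup.mk' K).comp H.subtype) := by
    intro a b hab
    have h1 : (a : G)⁻¹ * b ∈ K := QuotientGroup.eq.1 hab
    have h2 : (a : G)⁻¹ * b ∈ K ⊓ H := ⟨h1, H.mul_mem (H.inv_mem a.2) b.2⟩
    rw [hcompl.disjoint.eq_bot, Subgroup.mem_bot, inv_mul_eq_one] at h2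
    exact Subtype.ext h2
  have hsurj : Function.Surjective ((QuotientGroup.mk' K).comp H.subtype) := by
    intro q
    obtain ⟨g, rfl⟩ := QuotientGroup.mk_surjective q
    have hg : g ∈ K ⊔ H := by rw [hKH]; trivial
    obtain ⟨k, hk, h, hh, rfl⟩ := Subgroup.mem_sup_of_normal_left.1 hg
    refine ⟨⟨h, hh⟩, ?_⟩
    show (h : G ⧸ K) = ((k * h : G) : G ⧸ K)
    rw [QuotientGroup.mk_mul, (QuotientGroup.eq_one_iff k).2 hk, one_mul]
  let eH : H ≃* G ⧸ K := MulEquiv.ofBijective _ ⟨hinj, hsurj⟩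
  choose ext hext using fun θ : {θ : IrrCharacter K // ∀ g,
      CharTwist.conjFun K (θ : K → ℂ) g = (θ : K → ℂ)} =>
    exists_ext_of_invariant K (by rw [hidx]; exact hcop) θ.1 θ.2
  let ψ : {θ : IrrCharacter K // ∀ g, CharTwist.conjFun K (θ : K → ℂ) g = (θ : K → ℂ)} ×
      (H →* ℂˣ) → IrrCharacter G := fun x =>
    ⟨fun g => (((x.2.comp eH.symm.toMonoidHom) (g : G ⧸ K) : ℂˣ) : ℂ) * (ext x.1 : G → ℂ) g,
      Char.IsIrrCharacter.linear_mul (ext x.1).2
        ((x.2.comp eH.symm.toMonoidHom).comp (QuotientGroup.mk' K))⟩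
  have hψres : ∀ x (k : K), (ψ x : G → ℂ) k = (x.1.1 : K → ℂ) k := by
    intro x k
    show (((x.2.comp eH.symm.toMonoidHom) ((k : G) : G ⧸ K) : ℂˣ) : ℂ) * _ = _
    rw [(QuotientGroup.eq_one_iff (k : G)).2 k.2, map_one, Units.val_one, one_mul, hext]
  have hψdeg : ∀ x, charDegree (ψ x : G → ℂ) = charDegree (x.1.1 : K → ℂ) := by
    intro x
    have h := hψres x 1
    rw [OneMemClass.coe_one] at h
    rw [charDegree, charDegree, h]
  let F : {θ : IrrCharacter K // ∀ g, CharTwist.conjFun K (θ : K → ℂ) g = (θ : K → ℂ)} ×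
      (H →* ℂˣ) → {χ : IrrCharacter G // (charDegree (χ : G → ℂ)).Coprime (Nat.card H)} :=
    fun x => ⟨ψ x, by rw [hψdeg]; exact hcop.coprime_dvd_left (Blk83.deg_dvd x.1.1)⟩
  rw [← Nat.card_prod]
  refine (Nat.card_congr (Equiv.ofBijective F ⟨?_, ?_⟩)).symm
  · rintro ⟨θ, l⟩ ⟨θ', l'⟩ h
    have h0 : ψ (θ, l) = ψ (θ', l') := congrArg Subtype.val h
    have hθ : θ = θ' := by
      refine Subtype.ext (Subtype.ext (funext fun k => ?_))
      rw [← hψres (θ, l) k, h0, hψres]
    subst hθ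
    have hres : Cfsg.IsIrrCharacter K (fun k : K => (ext θ : G → ℂ) k) := by
      rw [show (fun k : K => (ext θ : G → ℂ) k) = (θ.1 : K → ℂ) from funext (hext θ)]
      exact θ.1.2
    obtain ⟨-, h2, -⟩ := CharDeep.Gal.quotient_bijection K (ext θ).2 hres
    have h3 := h2 _ _ (Char.isIrrCharacter_linear (l.comp eH.symm.toMonoidHom))
      (Char.isIrrCharacter_linear (l'.comp eH.symm.toMonoidHom))
      (congrArg (fun χ : IrrCharacter G => (χ : G → ℂ)) h0)
    refine Prod.ext rfl (MonoidHom.ext fun x => Units.ext ?_)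
    have h4 := congrFun h3 (eH x)
    simpa using h4
  · rintro ⟨χ, hχ⟩
    obtain ⟨θ, hθ, hcon⟩ := Clifford.exists_constituent_res K χ.2
    have hdvd := Blk83.dvd_of_constituent K χ ⟨θ, hθ⟩ hcon
    have hKI : K ≤ CharTwist.inertia K θ := fun x hx => CharTwist.mem_inertia.2 (funext fun m =>
      (congrArg θ (Subtype.ext rfl)).trans
        (Char.IsIrrCharacter.isClassFunction hθ m ⟨x, hx⟩))
    have ht : (CharTwist.inertia K θ).index = 1 := by
      refine Nat.eq_one_of_dvd_coprimes hχ ((dvd_mul_left _ _).trans hdvd) ?_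
      rw [← hidx]
      exact Subgroup.index_dvd_of_le hKI
    have hinv : ∀ g, CharTwist.conjFun K θ g = θ := fun g => CharTwist.mem_inertia.1 (by
      rw [Subgroup.index_eq_one.1 ht]; trivial)
    set θ' : {θ : IrrCharacter K // ∀ g, CharTwist.conjFun K (θ : K → ℂ) g = (θ : K → ℂ)} :=
      ⟨⟨θ, hθ⟩, hinv⟩
    have hres : (fun k : K => (ext θ' : G → ℂ) k) = θ := funext (hext θ')
    obtain ⟨-, -, h3⟩ := CharDeep.Gal.quotient_bijection K (ext θ').2 (by rw [hres]; exact hθ)
    obtain ⟨β, hβ, hb⟩ := h3 _ χ.2 (by rw [hres]; exact hcon)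
    have hdeg : (charDegree (⟨β, hβ⟩ : IrrCharacter (G ⧸ K)).1 : ℂ) *
        (charDegree (θ'.1 : K → ℂ) : ℂ) = (charDegree (χ : G → ℂ) : ℂ) := by
      rw [← Blk83.one_eq, ← Blk83.one_eq, ← Blk83.one_eq]
      have h1 := congrFun hb 1
      simp only [Pi.mul_apply, Function.comp_apply, map_one] at h1
      have h5 : (ext θ' : G → ℂ) 1 = θ 1 := by
        have := hext θ' 1
        rwa [OneMemClass.coe_one] at this
      rw [← h1, h5]
    have hβ1 : charDegree β = 1 := by
      refine Nat.eq_one_of_dvd_coprimes hχ ⟨_, (Nat.cast_injective (R := ℂ)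
        (by push_cast; exact hdeg)).symm⟩ ?_
      rw [← hidx]
      exact Blk83.deg_dvd (⟨β, hβ⟩ : IrrCharacter (G ⧸ K))
    obtain ⟨l, hl⟩ := Char.IsCharacter.exists_linear (Char.IsIrrCharacter.isCharacter hβ) (by
      refine (Blk83.one_eq (⟨β, hβ⟩ : IrrCharacter (G ⧸ K))).trans ?_
      simp [hβ1])
    refine ⟨(θ', l.comp eH.toMonoidHom), Subtype.ext (Subtype.ext (funext fun g => ?_))⟩
    rw [← hb]
    show (((l.comp eH.toMonoidHom).comp eH.symm.toMonoidHom) (g : G ⧸ K) : ℂ) * _ = _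
    simp [hl]

end CfsgLib.Glauberman
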