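import Cfsg.Agent.Lib.Glauberman.Solvable
import Cfsg.Agent.Lib.Blk83.ItoMichler

/-!
# The correspondence relative to an invariant normal subgroup
-/

set_option autoImplicit false

namespace CfsgLib.Glauberman

open Cfsg CfsgLib.BlockReg
open scoped ComplexConjugate

universe u v

variable {G : Type u} [Group G] {S : Type v} [Group S] (φ : S →* MulAut G)

/-- The action restricted to an invariant subgroup. -/
def restrSub (N : Subgroup G) (hN : ∀ (s : S), ∀ n ∈ N, φ s n ∈ N) : S →* MulAut N where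
  toFun s :=
    { toFun := fun n => ⟨φ s n, hN s n n.2⟩
      invFun := fun n => ⟨φ s⁻¹ n, hN s⁻¹ n n.2⟩
      left_inv := fun n => Subtype.ext (show φ s⁻¹ (φ s n) = n by
        rw [← MulAut.mul_apply, ← map_mul, inv_mul_cancel, map_one, MulAut.one_apply])
      right_inv := fun n => Subtype.ext (show φ s (φ s⁻¹ n) = n by
        rw [← MulAut.mul_apply, ← map_mul, mul_inv_cancel, map_one, MulAut.one_apply])
      map_mul' := fun a b => Subtype.ext (by simp) }
  map_one' := by ext n; simp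
  map_mul' s t := by ext n; simp

section Mult

variable [Finite G]

/-- The multiplicity of a constituent on a normal subgroup divides the degree. -/
theorem mult_dvd_degree (N : Subgroup G) [N.Normal] [Fintype N] (χ : IrrCharacter G)
    (θ : IrrCharacter N) {e : ℕ}
    (he : classInner (fun n : N => (χ : G → ℂ) n) (θ : N → ℂ) = (e : ℂ)) (he0 : e ≠ 0) :
    e ∣ charDegree (χ : G → ℂ) := by
  cases nonempty_fintype G
  have hne : classInner (fun n : N => (χ : G → ℂ) n) (θ : N → ℂ) ≠ 0 := by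
    rw [he]; exact_mod_cast he0
  have h1 := CfsgLib.Clifford.apply_one_eq N χ.2 θ.2 hne
  rw [he, ← deg_cast χ, ← deg_cast θ] at h1
  refine ⟨(CfsgLib.CharTwist.inertia N (θ : N → ℂ)).index * charDegree (θ : N → ℂ), ?_⟩
  have : ((charDegree (χ : G → ℂ) : ℂ)) =
      ((e * ((CfsgLib.CharTwist.inertia N (θ : N → ℂ)).index * charDegree (θ : N → ℂ)) : ℕ) : ℂ) := by
    rw [h1]; push_cast; ring
  exact_mod_cast this

theorem not_dvd_mult {p : ℕ} (hp : p.Prime) (hpG : ¬ p ∣ Nat.card G) (N : Subgroup G) [N.Normal]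
    [Fintype N] (χ : IrrCharacter G) (θ : IrrCharacter N) {e : ℕ}
    (he : classInner (fun n : N => (χ : G → ℂ) n) (θ : N → ℂ) = (e : ℂ)) :
    e ≠ 0 ↔ ¬ p ∣ e :=
  ⟨fun h hd => hpG ((hd.trans (mult_dvd_degree N χ θ he h)).trans (deg_dvd_card χ)),
    fun h h0 => h (h0 ▸ dvd_zero p)⟩

end Mult

section Equivariance

variable [Finite G] [Finite S] (T : Subgroup S) [T.Normal] {p : ℕ} [Fact p.Prime]

theorem corr_translate [Fintype (fixedSub (φ.comp T.subtype))] {χ : IrrCharacter G}
    {β : IrrCharacter (fixedSub (φ.comp T.subtype))} (s : S)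
    (h : Corr (φ.comp T.subtype) p χ β) :
    Corr (φ.comp T.subtype) p (irrEquiv (φ s) χ) (irrEquiv (quotHom φ T (s : S ⧸ T)) β) := by
  obtain ⟨m, hm, hpm⟩ := h
  refine ⟨m, ?_, hpm⟩
  rw [← hm, ← CfsgLib.Clifford.classInner_comp_equiv (quotHom φ T (s : S ⧸ T))
    (fun c : fixedSub (φ.comp T.subtype) => (χ : G → ℂ) c)
    (β : fixedSub (φ.comp T.subtype) → ℂ)]
  rfl

theorem corr_inv_quot [Fintype G] [Fintype (fixedSub (φ.comp T.subtype))] (hT : IsPGroup p T)
    (hpG : ¬ p ∣ Nat.card G) {χ : IrrCharacter G} (hχ : Inv φ (χ : G → ℂ))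
    {β : IrrCharacter (fixedSub (φ.comp T.subtype))} (h : Corr (φ.comp T.subtype) p χ β) :
    Inv (quotHom φ T) (β : fixedSub (φ.comp T.subtype) → ℂ) := by
  intro q c
  obtain ⟨s, rfl⟩ := QuotientGroup.mk_surjective q
  have h1 := corr_translate φ T s h
  rw [show irrEquiv (φ s) χ = χ from Subtype.ext (funext fun g => hχ s g)] at h1
  have h2 := (existsUnique_corr _ hT hpG (χ := χ) (fun t g => hχ (t : S) g)).unique h1 h
  rw [← irrEquiv_apply, h2]

theorem inv_of_corr [Fintype G] [Fintype (fixedSub (φ.comp T.subtype))] (hT : IsPGroup p T)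
    (hpG : ¬ p ∣ Nat.card G) {χ : IrrCharacter G} (hχ : Inv (φ.comp T.subtype) (χ : G → ℂ))
    {β : IrrCharacter (fixedSub (φ.comp T.subtype))}
    (hβ : Inv (quotHom φ T) (β : fixedSub (φ.comp T.subtype) → ℂ))
    (h : Corr (φ.comp T.subtype) p χ β) : Inv φ (χ : G → ℂ) := by
  intro s g
  have h1 := corr_translate φ T s h
  rw [show irrEquiv (quotHom φ T (s : S ⧸ T)) β = β from
    Subtype.ext (funext fun c => hβ _ c)] at h1
  have hTinv : Inv (φ.comp T.subtype) ((irrEquiv (φ s) χ : IrrCharacter G) : G → ℂ) := by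
    intro t x
    rw [irrEquiv_apply, irrEquiv_apply,
      ← hχ ⟨s * t * s⁻¹, Subgroup.Normal.conj_mem inferInstance (t : S) t.2 s⟩ (φ s x)]
    congr 1
    simp [← MulAut.mul_apply, ← map_mul]
  exact congrFun (congrArg Subtype.val (corr_injective _ hT hpG hTinv hχ h1 h)) g

end Equivariance

section Link

variable [Finite G] [Finite S] {p : ℕ} [Fact p.Prime] (N : Subgroup G)
  (hN : ∀ (s : S), ∀ n ∈ N, φ s n ∈ N)

/-- The fixed points in `N`, seen inside the fixed points in `G`. -/
def fixedNEquiv : fixedSub (restrSub φ N hN) ≃* N.subgroupOf (fixedSub φ) where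
  toFun x := ⟨⟨((x : N) : G), fun s => congrArg Subtype.val (x.2 s)⟩, (x : N).2⟩
  invFun y := ⟨⟨((y : fixedSub φ) : G), y.2⟩, fun s => Subtype.ext ((y : fixedSub φ).2 s)⟩
  left_inv _ := rfl
  right_inv _ := rfl
  map_mul' _ _ := rfl

/-- Lying over is preserved by the correspondence. -/
theorem over_iff [Fintype G] [N.Normal] [Fintype N] [Fintype (fixedSub φ)]
    [Fintype (fixedSub (restrSub φ N hN))] [Fintype (N.subgroupOf (fixedSub φ))]
    (hS : IsPGroup p S) (hpG : ¬ p ∣ Nat.card G) {χ : IrrCharacter G} (hχ : Inv φ (χ : G → ℂ))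
    {θ : IrrCharacter N} (hθ : Inv (restrSub φ N hN) (θ : N → ℂ))
    {β : IrrCharacter (fixedSub φ)} (hβ : Corr φ p χ β)
    {δ : IrrCharacter (fixedSub (restrSub φ N hN))} (hδ : Corr (restrSub φ N hN) p θ δ) :
    classInner (fun n : N => (χ : G → ℂ) n) (θ : N → ℂ) ≠ 0 ↔
      classInner (fun y : N.subgroupOf (fixedSub φ) => (β : fixedSub φ → ℂ) y)
        ((irrEquiv (fixedNEquiv φ N hN).symm δ : IrrCharacter (N.subgroupOf (fixedSub φ))) :
          N.subgroupOf (fixedSub φ) → ℂ) ≠ 0 := by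
  classical
  have hp : p.Prime := Fact.out
  obtain ⟨M, hM⟩ := exists_isPModular hp
  have hpN : ¬ p ∣ Nat.card N := fun h => hpG (h.trans (Subgroup.card_subgroup_dvd_card N))
  have hpC : ¬ p ∣ Nat.card (fixedSub φ) := not_dvd_card_fixed φ hpG
  set ι := fixedNEquiv φ N hN with hι
  set δ' : IrrCharacter (N.subgroupOf (fixedSub φ)) := irrEquiv ι.symm δ with hδ'
  -- the natural multiplicities
  have hchar : ∀ η : IrrCharacter N,
      ∃ k : ℕ, classInner (fun n : N => (χ : G → ℂ) n) (η : N → ℂ) = (k : ℂ) := fun η =>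
    CfsgLib.Char.IsCharacter.exists_nat_classInner
      (CfsgLib.Char.IsCharacter.restrict (CfsgLib.Char.IsIrrCharacter.isCharacter χ.2) N) η.2
  choose a ha using hchar
  have hsub : ∀ η : IrrCharacter N,
      ∃ k : ℕ, classInner (fun x : fixedSub (restrSub φ N hN) => (η : N → ℂ) x) (δ : fixedSub (restrSub φ N hN) → ℂ) = (k : ℂ) :=
    fun η => exists_nat_classInner_res (restrSub φ N hN) η δ
  choose b hb using hsub
  have hcchar : ∀ γ : IrrCharacter (fixedSub φ),
      ∃ k : ℕ, classInner (fun y : (N.subgroupOf (fixedSub φ)) => (γ : (fixedSub φ) → ℂ) y) (δ' : (N.subgroupOf (fixedSub φ)) → ℂ) = (k : ℂ) := fun γ =>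
    CfsgLib.Char.IsCharacter.exists_nat_classInner
      (CfsgLib.Char.IsCharacter.restrict (CfsgLib.Char.IsIrrCharacter.isCharacter γ.2) (N.subgroupOf (fixedSub φ))) δ'.2
  choose f hf using hcchar
  have hcres : ∀ γ : IrrCharacter (fixedSub φ),
      ∃ k : ℕ, classInner (fun c : (fixedSub φ) => (χ : G → ℂ) c) (γ : (fixedSub φ) → ℂ) = (k : ℂ) :=
    fun γ => exists_nat_classInner_res φ χ γ
  choose c hc using hcres
  -- the common value
  have hV1 : classInner (fun x : fixedSub (restrSub φ N hN) => (χ : G → ℂ) (x : N)) (δ : fixedSub (restrSub φ N hN) → ℂ) =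
      ∑ η : IrrCharacter N, (a η : ℂ) * (b η : ℂ) := by
    have hexp := CfsgLib.Char.IsCharacter.eq_sum_classInner
      (CfsgLib.Char.IsCharacter.restrict (CfsgLib.Char.IsIrrCharacter.isCharacter χ.2) N)
    have hfun : (fun x : fixedSub (restrSub φ N hN) => (χ : G → ℂ) (x : N)) =
        ∑ η : IrrCharacter N, (a η : ℂ) • (fun x : fixedSub (restrSub φ N hN) => (η : N → ℂ) x) := by
      funext x
      have := congrFun hexp (x : N)
      rw [Finset.sum_apply] at this ⊢
      rw [this]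
      exact Finset.sum_congr rfl fun η _ => by rw [Pi.smul_apply, Pi.smul_apply, ha η]
    rw [hfun, CfsgLib.Char.classInner_sum_left]
    exact Finset.sum_congr rfl fun η _ => by rw [CfsgLib.Char.classInner_smul_left, hb η]
  have hV2 : classInner (fun x : fixedSub (restrSub φ N hN) => (χ : G → ℂ) (x : N)) (δ : fixedSub (restrSub φ N hN) → ℂ) =
      ∑ γ : IrrCharacter (fixedSub φ), (c γ : ℂ) * (f γ : ℂ) := by
    have hexp := CfsgLib.Char.IsCharacter.eq_sum_classInner
      (CfsgLib.Char.IsCharacter.restrict (CfsgLib.Char.IsIrrCharacter.isCharacter χ.2) (fixedSub φ))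
    have htr : classInner (fun x : fixedSub (restrSub φ N hN) => (χ : G → ℂ) (x : N)) (δ : fixedSub (restrSub φ N hN) → ℂ) =
        classInner (fun y : (N.subgroupOf (fixedSub φ)) => (χ : G → ℂ) (y : (fixedSub φ))) (δ' : (N.subgroupOf (fixedSub φ)) → ℂ) := by
      rw [← CfsgLib.Clifford.classInner_comp_equiv ι (fun y : (N.subgroupOf (fixedSub φ)) => (χ : G → ℂ) (y : (fixedSub φ)))
        (δ' : (N.subgroupOf (fixedSub φ)) → ℂ)]
      congr 1
      all_goals funext x; simp [hδ', irrEquiv_apply]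
    rw [htr]
    have hfun : (fun y : (N.subgroupOf (fixedSub φ)) => (χ : G → ℂ) (y : (fixedSub φ))) =
        ∑ γ : IrrCharacter (fixedSub φ), (c γ : ℂ) • (fun y : (N.subgroupOf (fixedSub φ)) => (γ : (fixedSub φ) → ℂ) y) := by
      funext y
      have := congrFun hexp (y : (fixedSub φ))
      rw [Finset.sum_apply] at this ⊢
      rw [this]
      exact Finset.sum_congr rfl fun γ _ => by rw [Pi.smul_apply, Pi.smul_apply, hc γ]
    rw [hfun, CfsgLib.Char.classInner_sum_left]
    exact Finset.sum_congr rfl fun γ _ => by rw [CfsgLib.Char.classInner_smul_left, hf γ]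
  -- reduce each sum modulo `p`
  letI : MulAction S (IrrCharacter N) :=
    { smul := fun s η => irrEquiv ((restrSub φ N hN) s⁻¹) η
      one_smul := fun η => Subtype.ext (funext fun n => show (η : N → ℂ) ((restrSub φ N hN) 1⁻¹ n) = _ by simp)
      mul_smul := fun s t η => Subtype.ext (funext fun n =>
        show (η : N → ℂ) ((restrSub φ N hN) (s * t)⁻¹ n) = (η : N → ℂ) ((restrSub φ N hN) t⁻¹ ((restrSub φ N hN) s⁻¹ n)) by
          rw [mul_inv_rev, map_mul]; rfl) }
  have hab : ∀ (s : S) (η : IrrCharacter N), (a (s • η) : ℂ) * (b (s • η) : ℂ) =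
      (a η : ℂ) * (b η : ℂ) := by
    intro s η
    show (a (irrEquiv ((restrSub φ N hN) s⁻¹) η) : ℂ) * (b (irrEquiv ((restrSub φ N hN) s⁻¹) η) : ℂ) = _
    rw [← ha, ← ha, ← hb, ← hb]
    congr 1
    · rw [← CfsgLib.Clifford.classInner_comp_equiv ((restrSub φ N hN) s⁻¹) (fun n : N => (χ : G → ℂ) n)
        (η : N → ℂ)]
      congr 1
      funext n
      exact (hχ s⁻¹ n).symm
    · congr 1
      funext x
      rw [irrEquiv_apply, x.2 s⁻¹]
  have hsumN := sum_sub_sum_fixed_memIdeal hM hS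
    (fun η : IrrCharacter N => (a η : ℂ) * (b η : ℂ))
    (fun η => memRing_mul hM (memRing_natCast hM _) (memRing_natCast hM _)) hab
  have hb0 : ∀ η : IrrCharacter N, Inv (restrSub φ N hN) (η : N → ℂ) → η ≠ θ → p ∣ b η := by
    intro η hη hne
    by_contra hd
    exact hne (corr_injective (restrSub φ N hN) hS hpN hη hθ ⟨b η, hb η, hd⟩ hδ)
  have hfixed : MemLocalIdeal M
      (∑ η ∈ Finset.univ.filter (fun η : IrrCharacter N => η ∈ MulAction.fixedPoints S _),
        (a η : ℂ) * (b η : ℂ) - (a θ : ℂ) * (b θ : ℂ)) := by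
    have hθfix : θ ∈ Finset.univ.filter
        (fun η : IrrCharacter N => η ∈ MulAction.fixedPoints S _) :=
      Finset.mem_filter.2 ⟨Finset.mem_univ _, fun s => Subtype.ext (funext fun n => hθ s⁻¹ n)⟩
    rw [← Finset.add_sum_erase _ _ hθfix, add_sub_cancel_left]
    refine memIdeal_sum hM _ fun η hη => memIdeal_mul_left hM (memRing_natCast hM _) ?_
    obtain ⟨hne, hfix⟩ := Finset.mem_erase.1 hη
    refine (memIdeal_natCast_iff hM _).2 (hb0 η (fun s n => ?_) hne)
    have := congrFun (congrArg Subtype.val ((Finset.mem_filter.1 hfix).2 s⁻¹)) n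
    rw [← show (η : N → ℂ) ((restrSub φ N hN) s⁻¹⁻¹ n) = (η : N → ℂ) n from this, inv_inv]
  have hsumC : MemLocalIdeal M
      (∑ γ : IrrCharacter (fixedSub φ), (c γ : ℂ) * (f γ : ℂ) - (c β : ℂ) * (f β : ℂ)) := by
    rw [← Finset.add_sum_erase _ _ (Finset.mem_univ β), add_sub_cancel_left]
    refine memIdeal_sum hM _ fun γ hγ => memIdeal_mul_right hM ?_ (memRing_natCast hM _)
    refine (memIdeal_natCast_iff hM _).2 (by_contra fun hd => ?_)
    exact (Finset.mem_erase.1 hγ).1
      ((existsUnique_corr φ hS hpG hχ).unique ⟨c γ, hc γ, hd⟩ hβ)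
  have key : MemLocalIdeal M ((a θ : ℂ) * (b θ : ℂ) - (c β : ℂ) * (f β : ℂ)) := by
    have h := memIdeal_sub hM hsumC (memIdeal_add hM hsumN hfixed)
    rw [← hV2, ← hV1] at h
    convert h using 1
    ring
  have hbθ : ¬ p ∣ b θ := by
    obtain ⟨m, hm, hpm⟩ := hδ
    rwa [show b θ = m from by exact_mod_cast (hb θ).symm.trans hm]
  have hcβ : ¬ p ∣ c β := by
    obtain ⟨m, hm, hpm⟩ := hβ
    rwa [show c β = m from by exact_mod_cast (hc β).symm.trans hm]
  have hiff : (p ∣ a θ ↔ p ∣ f β) := by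
    rw [← memIdeal_natCast_iff hM, ← memIdeal_natCast_iff hM]
    constructor
    · intro h
      by_contra hn
      refine not_memIdeal_mul hM (memRing_natCast hM _) (memRing_natCast hM _)
        (not_memIdeal_natCast hM hcβ) hn ?_
      exact (memIdeal_iff_of_sub hM key).1 (memIdeal_mul_right hM h (memRing_natCast hM _))
    · intro h
      by_contra hn
      refine not_memIdeal_mul hM (memRing_natCast hM _) (memRing_natCast hM _)
        hn (not_memIdeal_natCast hM hbθ) ?_
      exact (memIdeal_iff_of_sub hM key).2 (memIdeal_mul_left hM (memRing_natCast hM _) h)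
  rw [ha θ, hf β, Nat.cast_ne_zero, Nat.cast_ne_zero, not_dvd_mult hp hpG N χ θ (ha θ),
    not_dvd_mult hp hpC (N.subgroupOf (fixedSub φ)) β δ' (hf β), hiff]

end Link

/-- An invariant character of an invariant normal subgroup lies under an invariant character. -/
theorem exists_inv_over : ∀ (n : ℕ) {G : Type u} [Group G] [Finite G] {S : Type v} [Group S]
    [Finite S] (φ : S →* MulAut G) (N : Subgroup G) [N.Normal] [Fintype N]
    (hN : ∀ (s : S), ∀ x ∈ N, φ s x ∈ N), Nat.card S = n → Group.IsSolvable S →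
    (Nat.card G).Coprime (Nat.card S) → ∀ θ : IrrCharacter N,
    Inv (restrSub φ N hN) (θ : N → ℂ) →
    ∃ χ : IrrCharacter G, classInner (fun x : N => (χ : G → ℂ) x) (θ : N → ℂ) ≠ 0 ∧
      Inv φ (χ : G → ℂ) := by
  intro n
  induction n using Nat.strong_induction_on with
  | _ n ih =>
  intro G _ _ S _ _ φ N _ _ hN hn hs hcop θ hθ
  classical
  cases nonempty_fintype G
  rcases subsingleton_or_nontrivial S with h1 | h1
  · obtain ⟨χ, hχ⟩ := CfsgLib.Blk83.exists_over N θ
    exact ⟨χ, hχ, fun s g => by rw [Subsingleton.elim s 1, map_one]; rfl⟩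
  · obtain ⟨p, T, hp, hTn, hT, hTne⟩ := exists_normal_pSubgroup S hs
    haveI : Fact p.Prime := ⟨hp⟩
    obtain ⟨k, hk⟩ := IsPGroup.iff_card.1 hT
    have hT1 : Nat.card T ≠ 1 := fun h => hTne (Subgroup.eq_bot_of_card_eq _ h)
    have hk0 : k ≠ 0 := fun h => hT1 (by rw [hk, h, pow_zero])
    have hTS : Nat.card T ∣ Nat.card S := Subgroup.card_subgroup_dvd_card T
    have hpG : ¬ p ∣ Nat.card G := fun h => hp.not_dvd_one (hcop ▸
      Nat.dvd_gcd h (((dvd_pow_self p hk0).trans (dvd_of_eq hk.symm)).trans hTS))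
    have hpN : ¬ p ∣ Nat.card N := fun h => hpG (h.trans (Subgroup.card_subgroup_dvd_card N))
    have hlt : Nat.card (S ⧸ T) < n := by
      have h2 := Subgroup.card_eq_card_quotient_mul_card_subgroup T
      rw [← hn, h2]
      have : 1 < Nat.card T := by
        have := Nat.card_pos (α := T); omega
      exact lt_mul_right Nat.card_pos this
    set φT := φ.comp T.subtype with hφT
    have hNT : ∀ (t : T), ∀ x ∈ N, φT t x ∈ N := fun t x hx => hN (t : S) x hx
    letI := Fintype.ofFinite (fixedSub φT)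
    letI := Fintype.ofFinite (fixedSub (restrSub φT N hNT))
    letI := Fintype.ofFinite (fixedSub ((restrSub φ N hN).comp T.subtype))
    letI := Fintype.ofFinite (N.subgroupOf (fixedSub φT))
    obtain ⟨δ, hδ, -⟩ := existsUnique_corr (restrSub φT N hNT) hT hpN (χ := θ)
      (fun t x => hθ (t : S) x)
    let δ₂ : IrrCharacter (fixedSub ((restrSub φ N hN).comp T.subtype)) := δ
    have hδq : Inv (quotHom (restrSub φ N hN) T)
        (δ₂ : fixedSub ((restrSub φ N hN).comp T.subtype) → ℂ) :=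
      corr_inv_quot (restrSub φ N hN) T hT hpN hθ (β := δ₂) hδ
    set N' := N.subgroupOf (fixedSub φT) with hN'
    have hN'inv : ∀ (q : S ⧸ T), ∀ y ∈ N', quotHom φ T q y ∈ N' := by
      intro q y hy
      obtain ⟨s, rfl⟩ := QuotientGroup.mk_surjective q
      rw [hN', Subgroup.mem_subgroupOf, quotHom_mk]
      exact hN s _ hy
    set δ' : IrrCharacter N' := irrEquiv (fixedNEquiv φT N hNT).symm δ with hδ'
    obtain ⟨γ, hγ, hγinv⟩ := ih _ hlt (quotHom φ T) N' hN'inv rfl
      (solvable_of_surjective (QuotientGroup.mk'_surjective T))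
      ((hcop.coprime_dvd_left (Subgroup.card_subgroup_dvd_card _)).coprime_dvd_right
        (Subgroup.card_quotient_dvd_card T)) δ' (fun q y => by
        obtain ⟨s, rfl⟩ := QuotientGroup.mk_surjective q
        exact hδq (s : S ⧸ T) ((fixedNEquiv φT N hNT).symm y))
    obtain ⟨χ, hχ, hcorr⟩ := corr_surjective φT hT hpG γ
    exact ⟨χ, (over_iff φT N hNT hT hpG hχ (fun t x => hθ (t : S) x) hcorr hδ).2 hγ,
      inv_of_corr φ T hT hpG hχ hγinv hcorr⟩

end CfsgLib.Glauberman
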