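import Cfsg.Agent.Lib.Glauberman.LayerCorr
import Cfsg.Agent.Lib.Glauberman.Relative
import Cfsg.Agent.Lib.CharDeep.Clifford
import Cfsg.Agent.Lib.Char.CentralOver
import Mathlib.GroupTheory.Perm.Cycle.Type

/-!
# Lying over, and automorphisms acting trivially on a layer
-/

set_option autoImplicit false

namespace CfsgLib.Glauberman

open Cfsg CfsgLib CfsgLib.BlockReg
open scoped ComplexConjugate

universe u

variable {G : Type u} [Group G]

/-- Lying over is transitive. -/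
theorem inner_ne_zero_trans {H K : Type u} [Group H] [Group K] [Finite H] [Finite K] [Fintype H]
    [Fintype K] (i : K →* H) {L : Type u} [Group L] [Fintype L] (j : L →* K)
    {η : H → ℂ} (hη : Cfsg.IsCharacter H η) {κ : K → ℂ} (hκ : Cfsg.IsIrrCharacter K κ)
    {θ : L → ℂ} (hθ : Cfsg.IsIrrCharacter L θ) (h1 : classInner (η ∘ i) κ ≠ 0)
    (h2 : classInner (κ ∘ j) θ ≠ 0) : classInner (η ∘ i ∘ j) θ ≠ 0 := by
  classical
  obtain ⟨m, hm⟩ := Char.IsCharacter.exists_nat_combination (Char.IsCharacter.comp hη i)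
  have hmκ : m ⟨κ, hκ⟩ ≠ 0 := fun h => h1 (by
    show classInner (fun x => η (i x)) κ = 0
    rw [hm, Char.classInner_sum_smul_irr (fun γ => (m γ : ℂ)) ⟨κ, hκ⟩, h, Nat.cast_zero])
  have hinner : ∀ γ : IrrCharacter K, ∃ k : ℕ,
      classInner ((γ : K → ℂ) ∘ j) θ = (k : ℂ) := fun γ =>
    Char.IsCharacter.exists_nat_classInner
      (Char.IsCharacter.comp (Char.IsIrrCharacter.isCharacter γ.2) j) hθ
  choose k hk using hinner
  have hsum : classInner (η ∘ i ∘ j) θ = ((∑ γ, m γ * k γ : ℕ) : ℂ) := by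
    have hfun : η ∘ i ∘ j = ∑ γ : IrrCharacter K, (m γ : ℂ) • ((γ : K → ℂ) ∘ j) := by
      funext l
      have := congrFun hm (j l)
      simp only [Finset.sum_apply, Pi.smul_apply, Function.comp_apply] at this ⊢
      exact this
    rw [hfun, Char.classInner_sum_left, Nat.cast_sum]
    exact Finset.sum_congr rfl fun γ _ => by rw [Char.classInner_smul_left, hk, Nat.cast_mul]
  rw [hsum]
  intro hz
  rw [Nat.cast_eq_zero, Finset.sum_eq_zero_iff] at hz
  rcases Nat.mul_eq_zero.1 (hz ⟨κ, hκ⟩ (Finset.mem_univ _)) with h | h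
  · exact hmκ h
  · exact h2 (by rw [hk ⟨κ, hκ⟩, h, Nat.cast_zero])

variable (N : Subgroup G) [Fintype N] (θ : N → ℂ) {S : Type u} [Group S] (φ : S →* MulAut G)

/-- `s` acts trivially on the layer over `θ`. -/
def Triv (s : S) : Prop :=
  (∀ g : G, g⁻¹ * φ s g ∈ N) ∧
    ∀ (H : Subgroup G) (hNH : N ≤ H) (η : IrrCharacter H), Over N hNH θ η →
      ∀ h h' : H, (h' : G) = φ s h → (η : H → ℂ) h' = (η : H → ℂ) h

theorem Triv.fixed [Finite G] {s : S} (h : Triv N θ φ s) {χ : IrrCharacter G}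
    (hχ : OverTop N θ χ) (g : G) : (χ : G → ℂ) (φ s g) = (χ : G → ℂ) g :=
  h.2 ⊤ le_top (irrEquiv Subgroup.topEquiv χ) hχ ⟨g, trivial⟩ ⟨φ s g, trivial⟩ rfl

/-- An element acting trivially on `G/N` of prime power order modulo trivially acting elements,
prime to the index, acts trivially. -/
theorem triv_of_pow [Finite G] [N.Normal] {p j : ℕ} [Fact p.Prime] (hp : ¬ p ∣ N.index)
    (hθirr : Cfsg.IsIrrCharacter N θ) (hθinv : ∀ g, CharTwist.conjFun N θ g = θ) {t : S}
    (hG : ∀ g : G, g⁻¹ * φ t g ∈ N) (hθt : ∀ (n : N) (n' : N), (n' : G) = φ t n → θ n' = θ n)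
    (hpow : Triv N θ φ (t ^ p ^ j)) : Triv N θ φ t := by
  classical
  refine ⟨hG, fun H hNH η hη h h' he => ?_⟩
  haveI := Fintype.ofFinite G
  haveI := Fintype.ofFinite H
  set M : Subgroup G := N ⊔ Subgroup.zpowers (h : G) with hM
  have hNM : N ≤ M := le_sup_left
  have hMH : M ≤ H := sup_le hNH (Subgroup.zpowers_le.2 h.2)
  have hhM : (h : G) ∈ M := le_sup_right (a := N) (Subgroup.mem_zpowers (h : G))
  haveI := Fintype.ofFinite M
  set ψ : Subgroup.zpowers t →* MulAut G := φ.comp (Subgroup.zpowers t).subtype with hψ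
  have hcos : ∀ (u : Subgroup.zpowers t) (g : G), g⁻¹ * ψ u g ∈ N := by
    let K : Subgroup S :=
      { carrier := {u | ∀ g : G, g⁻¹ * φ u g ∈ N}
        one_mem' := fun g => by simp
        mul_mem' := fun {a b} ha hb g => by
          have := mul_mem (hb g) (ha (φ b g))
          rw [map_mul]
          show g⁻¹ * φ a (φ b g) ∈ N
          simpa [mul_assoc] using this
        inv_mem' := fun {a} ha g => by
          have := inv_mem (ha (φ a⁻¹ g))
          rw [← MulAut.mul_apply, ← map_mul, mul_inv_cancel, map_one, MulAut.one_apply, mul_inv_rev,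
            inv_inv] at this
          exact this }
    intro u g
    exact (Subgroup.zpowers_le.2 (show t ∈ K from hG)) u.2 g
  have hMinv : ∀ (u : Subgroup.zpowers t), ∀ x ∈ M, ψ u x ∈ M := fun u x hx => by
    have := mul_mem hx (hNM (hcos u x))
    rwa [mul_inv_cancel_left] at this
  set ψM := restrSub ψ M hMinv with hψM
  set N' := N.subgroupOf M with hN'
  let e : N' ≃* N := Subgroup.subgroupOfEquivOfLe hNM
  haveI := Fintype.ofFinite N'
  have hθ' : Cfsg.IsIrrCharacter N' (θ ∘ e) := CharTwist.isIrrCharacter_comp_equiv hθirr e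
  have hθ'inv : ∀ (g : M) (n : N'),
      (θ ∘ e) ⟨g * n * g⁻¹, Subgroup.Normal.conj_mem inferInstance (n : M) n.2 g⟩ = (θ ∘ e) n :=
    fun g n => (congrArg θ (Subtype.ext rfl)).trans (congrFun (hθinv (g : G)) (e n))
  have hgen : ∀ q : M ⧸ N', q ∈ Subgroup.zpowers ((⟨h, hhM⟩ : M) : M ⧸ N') := by
    intro q
    obtain ⟨x, rfl⟩ := QuotientGroup.mk_surjective q
    obtain ⟨n, hn, y, hy, hxy⟩ := Subgroup.mem_sup_of_normal_left.1 x.2
    obtain ⟨k, rfl⟩ := Subgroup.mem_zpowers_iff.1 hy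
    refine Subgroup.mem_zpowers_iff.2 ⟨k, ?_⟩
    rw [← QuotientGroup.mk_zpow, QuotientGroup.eq]
    show (((⟨(h : G), hhM⟩ : M) ^ k)⁻¹ * x : M) ∈ N'
    rw [hN', Subgroup.mem_subgroupOf]
    simp only [Subgroup.coe_mul, Subgroup.coe_inv, SubgroupClass.coe_zpow, ← hxy]
    have := (inferInstance : N.Normal).conj_mem n hn (((h : G) ^ k)⁻¹)
    simpa [mul_assoc] using this
  have hcyc : IsCyclic (M ⧸ N') := ⟨⟨_, hgen⟩⟩
  obtain ⟨η₀, hη₀, hη₀N⟩ := CharDeep.Extend.extends_of_cyclic N' (θ ∘ e) hθ' hθ'inv hcyc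
  -- the set of characters of `M` over `θ`
  let Y := {κ : IrrCharacter M // classInner (fun n : N' => (κ : M → ℂ) n) (θ ∘ e) ≠ 0}
  have hres : ∀ (f : M → ℂ), (∀ n : N', f n = (θ ∘ e) n) →
      (fun n : N' => f n) = θ ∘ e := fun f hf => funext hf
  have hcomm : ∀ a b : M ⧸ N', a * b = b * a := by
    haveI := hcyc
    letI := IsCyclic.commGroup (α := M ⧸ N')
    exact fun a b => mul_comm a b
  haveI := Fintype.ofFinite (M ⧸ N')
  have hbase : ∀ (b : M → ℂ), Cfsg.IsIrrCharacter M b → (∀ n : N', b n = (θ ∘ e) n) →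
      ∀ κ : Y, ∃ β : IrrCharacter (M ⧸ N'),
        (κ.1 : M → ℂ) = fun x : M => (β : M ⧸ N' → ℂ) (x : M ⧸ N') * b x := by
    intro b hb hbN κ
    obtain ⟨-, -, h3⟩ := CharDeep.Gal.quotient_bijection N' hb (by rw [hres b hbN]; exact hθ')
    obtain ⟨β, hβ, he⟩ := h3 _ κ.1.2 (by rw [hres b hbN]; exact κ.2)
    exact ⟨⟨β, hβ⟩, he.symm⟩
  -- their number is the index
  have hcard : Nat.card Y ∣ N.index := by
    obtain ⟨h1, h2, -⟩ := CharDeep.Gal.quotient_bijection N' hη₀ (by rw [hres η₀ hη₀N]; exact hθ')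
    let f : IrrCharacter (M ⧸ N') → Y := fun β =>
      ⟨⟨_, (h1 β β.2).1⟩, by rw [← hres η₀ hη₀N]; exact (h1 β β.2).2⟩
    have hf : Function.Bijective f := ⟨fun β β' hh =>
      Subtype.ext (h2 β β' β.2 β'.2 (congrArg (fun κ : Y => (κ.1 : M → ℂ)) hh)), fun κ => by
        obtain ⟨β, hβ⟩ := hbase η₀ hη₀ hη₀N κ
        exact ⟨β, Subtype.ext (Subtype.ext hβ.symm)⟩⟩
    have hconj : Function.Bijective (ConjClasses.mk : M ⧸ N' → _) :=
      ⟨fun a b hab => by
        obtain ⟨c, hc⟩ := isConj_iff.1 (ConjClasses.mk_eq_mk_iff_isConj.1 hab)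
        rwa [hcomm c a, mul_inv_cancel_right] at hc, fun K => ConjClasses.exists_rep K⟩
    rw [← Nat.card_congr (Equiv.ofBijective f hf), Char.card_irrCharacter,
      ← Nat.card_congr (Equiv.ofBijective _ hconj)]
    exact Subgroup.relIndex_dvd_index_of_normal N M
  -- the permutation induced by `t`
  have hY : ∀ (u : Subgroup.zpowers t) (κ : Y), (∀ n n' : N, (n' : G) = ψ u n → θ n' = θ n) →
      classInner (fun n : N' => ((irrEquiv (ψM u) κ.1 : IrrCharacter M) : M → ℂ) n) (θ ∘ e) ≠ 0 := by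
    intro u κ hu
    have hmem : ∀ n : N', ψM u (n : M) ∈ N' := fun n => by
      have := mul_mem (show ((n : M) : G) ∈ N from n.2) (hcos u (n : M))
      rwa [mul_inv_cancel_left] at this
    let eu : N' ≃* N' := MulEquiv.ofBijective
      ((((ψM u).toMonoidHom.comp N'.subtype).codRestrict N' hmem : N' →* N'))
      (Finite.injective_iff_bijective.1 fun a b hab =>
        Subtype.ext ((ψM u).injective (congrArg Subtype.val hab)))
    have he' : θ ∘ e = (θ ∘ e) ∘ eu := funext fun n => (hu (e n) (e (eu n)) rfl).symm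
    have h0 := κ.2
    rw [← Clifford.classInner_comp_equiv eu] at h0
    rw [← he'] at h0
    exact h0
  have htmem : t ∈ Subgroup.zpowers t := Subgroup.mem_zpowers t
  let σf : Y → Y := fun κ =>
    ⟨irrEquiv (ψM ⟨t, htmem⟩) κ.1, hY ⟨t, htmem⟩ κ (fun n n' hn => hθt n n' hn)⟩
  have hσinj : Function.Injective σf := fun a b hab =>
    Subtype.ext ((irrEquiv _).injective (congrArg Subtype.val hab))
  let σ : Equiv.Perm Y := Equiv.ofBijective σf (Finite.injective_iff_bijective.1 hσinj)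
  have hσpow : ∀ (k : ℕ) (κ : Y) (x : M), (((σ ^ k) κ).1 : M → ℂ) x =
      (κ.1 : M → ℂ) (ψM (⟨t, htmem⟩ ^ k) x) := by
    intro k
    induction k with
    | zero => intro κ x; simp
    | succ k ih =>
      intro κ x
      rw [pow_succ' σ, Equiv.Perm.mul_apply, pow_succ, map_mul, MulAut.mul_apply, ← ih κ]
      rfl
  have hσ1 : σ ^ p ^ j = 1 := by
    refine Equiv.ext fun κ => Subtype.ext (Subtype.ext (funext fun x => ?_))
    rw [hσpow]
    have hover : Over N hNM θ κ.1 := by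
      show classInner _ _ ≠ 0
      rw [← Clifford.classInner_comp_equiv e]
      exact κ.2
    exact hpow.2 M hNM κ.1 hover x _ (by simp [hψM, restrSub, hψ])
  have hfixall : ∀ κ : Y, σ κ = κ := by
    haveI := Fintype.ofFinite Y
    obtain ⟨κ₁, hκ₁⟩ := Equiv.Perm.exists_fixed_point_of_prime (α := Y) (σ := σ)
      (p := p) (n := j) (fun hd => hp (((Nat.card_eq_fintype_card (α := Y)).symm ▸ hd).trans hcard))
      hσ1
    have hκ₁N : ∀ n : N', (κ₁.1 : M → ℂ) n = (θ ∘ e) n := by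
      obtain ⟨β, hβ⟩ := hbase η₀ hη₀ hη₀N κ₁
      intro n
      rw [hβ]
      dsimp only
      rw [(QuotientGroup.eq_one_iff (n : M)).2 n.2, hη₀N,
        (CharOver.abelian_irr hcomm β.2).1, one_mul]
    intro κ
    obtain ⟨β, hβ⟩ := hbase _ κ₁.1.2 hκ₁N κ
    refine Subtype.ext (Subtype.ext (funext fun x => ?_))
    show (κ.1 : M → ℂ) (ψM ⟨t, htmem⟩ x) = _
    rw [hβ]
    have h1 := congrFun (congrArg (fun y : Y => (y.1 : M → ℂ)) hκ₁) x
    have h2 : (ψM ⟨t, htmem⟩ x : M ⧸ N') = (x : M ⧸ N') := by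
      rw [eq_comm, QuotientGroup.eq, hN', Subgroup.mem_subgroupOf]
      exact hcos ⟨t, htmem⟩ (x : G)
    show (β : M ⧸ N' → ℂ) _ * _ = _
    rw [h2, show (κ₁.1 : M → ℂ) (ψM ⟨t, htmem⟩ x) = (κ₁.1 : M → ℂ) x from h1]
  -- expand `η` on `M`
  obtain ⟨m, hm⟩ := Char.IsCharacter.exists_nat_combination
    (Char.IsCharacter.comp (Char.IsIrrCharacter.isCharacter η.2) (Subgroup.inclusion hMH))
  have hover : ∀ κ : IrrCharacter M, m κ ≠ 0 →
      classInner (fun n : N' => (κ : M → ℂ) n) (θ ∘ e) ≠ 0 := by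
    intro κ hκ
    obtain ⟨ψ₁, hψ₁, hne⟩ := Clifford.exists_constituent_res N' κ.2
    -- the constituents of `η` on `N` are all `θ`
    have hres' := Clifford.res_eq_smul_of_fixed N H hNH hθirr (fun g _ => hθinv g) η.2 hη
    have hψ₁θ : ψ₁ = θ ∘ e := by
      by_contra hne'
      have h0 : classInner ((η : H → ℂ) ∘ Subgroup.inclusion hMH ∘ N'.subtype) ψ₁ ≠ 0 := by
        refine inner_ne_zero_trans (Subgroup.inclusion hMH) N'.subtype
          (Char.IsIrrCharacter.isCharacter η.2) κ.2 hψ₁ ?_ hne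
        show classInner (fun x => (η : H → ℂ) (Subgroup.inclusion hMH x)) _ ≠ 0
        rw [hm, Char.classInner_sum_smul_irr (fun γ => (m γ : ℂ)) κ]
        exact_mod_cast hκ
      apply h0
      rw [show (η : H → ℂ) ∘ Subgroup.inclusion hMH ∘ N'.subtype =
          classInner (fun n : N => (η : H → ℂ) ⟨n, hNH n.2⟩) θ • (θ ∘ e) from
        funext fun n => (congrArg (η : H → ℂ) (Subtype.ext rfl)).trans (congrFun hres' (e n)),
          Char.classInner_smul_left,
        Char.classInner_irr_of_ne hθ' hψ₁ (Ne.symm hne'), mul_zero]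
    exact hψ₁θ ▸ hne
  have hexp : ∀ x : M, (η : H → ℂ) (Subgroup.inclusion hMH x) =
      ∑ κ : IrrCharacter M, (m κ : ℂ) * (κ : M → ℂ) x := fun x => by
    have := congrFun hm x
    simpa [Finset.sum_apply] using this
  have hx' : h' = Subgroup.inclusion hMH (ψM ⟨t, htmem⟩ ⟨h, hhM⟩) := Subtype.ext he
  rw [hx']
  show _ = (η : H → ℂ) (Subgroup.inclusion hMH ⟨h, hhM⟩)
  rw [hexp, hexp]
  refine Finset.sum_congr rfl fun κ _ => ?_
  by_cases hκ : m κ = 0
  · simp [hκ]
  · congr 1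
    exact congrFun (congrArg (fun y : Y => (y.1 : M → ℂ)) (hfixall ⟨κ, hover κ hκ⟩)) ⟨h, hhM⟩

end CfsgLib.Glauberman
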