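import Cfsg.Agent.Lib.Glauberman.Transfer
import Mathlib.GroupTheory.Solvable
import Mathlib.GroupTheory.QuotientGroup.Basic

/-!
# Invariant characters and invariant classes under a solvable coprime action
-/

set_option autoImplicit false

namespace CfsgLib.Glauberman

open Cfsg
open scoped commutatorElement

universe u v

/-- A class fixed by the action. -/
def InvClass {G : Type u} [Group G] {S : Type v} [Group S] (φ : S →* MulAut G)
    (K : ConjClasses G) : Prop :=
  ∀ (s : S) (g : G), ConjClasses.mk g = K → ConjClasses.mk (φ s g) = K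

/-- A nontrivial finite solvable group has a nontrivial normal `p`-subgroup. -/
theorem exists_normal_pSubgroup (S : Type v) [Group S] [Finite S] [Nontrivial S]
    (hs : Group.IsSolvable S) :
    ∃ (p : ℕ) (T : Subgroup S), p.Prime ∧ T.Normal ∧ IsPGroup p T ∧ T ≠ ⊥ := by
  classical
  obtain ⟨N, hN⟩ : ∃ n, derivedSeries S n = ⊥ := hs.solvable
  have hex : ∃ n, derivedSeries S n = ⊥ := ⟨N, hN⟩
  have hk0 : Nat.find hex ≠ 0 := fun h => by
    have := Nat.find_spec hex
    rw [h, derivedSeries_zero] at this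
    exact top_ne_bot this
  obtain ⟨k, hk⟩ := Nat.exists_eq_succ_of_ne_zero hk0
  set A : Subgroup S := derivedSeries S k with hA
  have hAne : A ≠ ⊥ := Nat.find_min hex (by omega)
  have hcomm : ∀ a ∈ A, ∀ b ∈ A, a * b = b * a := by
    intro a ha b hb
    have h := Nat.find_spec hex
    rw [hk, derivedSeries_succ] at h
    have h1 : ⁅a, b⁆ ∈ (⊥ : Subgroup S) := h ▸ Subgroup.commutator_mem_commutator ha hb
    exact commutatorElement_eq_one_iff_mul_comm.1 (Subgroup.mem_bot.1 h1)
  have hc1 : Nat.card A ≠ 1 := fun h => hAne (Subgroup.eq_bot_of_card_eq _ h)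
  obtain ⟨p, hp, hpA⟩ := Nat.exists_prime_and_dvd hc1
  haveI : Fact p.Prime := ⟨hp⟩
  let T : Subgroup S :=
    { carrier := {a | a ∈ A ∧ a ^ p = 1}
      mul_mem' := fun {a b} ha hb => ⟨mul_mem ha.1 hb.1, by
        rw [(show Commute a b from hcomm a ha.1 b hb.1).mul_pow, ha.2, hb.2, one_mul]⟩
      one_mem' := ⟨one_mem _, one_pow _⟩
      inv_mem' := fun {a} ha => ⟨inv_mem ha.1, by rw [inv_pow, ha.2, inv_one]⟩ }
  refine ⟨p, T, hp, ⟨fun a ha g => ⟨(derivedSeries_normal S k).conj_mem a ha.1 g, ?_⟩⟩, ?_, ?_⟩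
  · rw [conj_pow, ha.2, mul_one, mul_inv_cancel]
  · intro a
    exact ⟨1, Subtype.ext (by simpa using a.2.2)⟩
  · intro hT
    obtain ⟨x, hx⟩ := exists_prime_orderOf_dvd_card' p hpA
    have hxT : (x : S) ∈ T := ⟨x.2, by
      have := pow_orderOf_eq_one x
      rw [hx] at this
      exact_mod_cast congrArg Subtype.val this⟩
    rw [hT, Subgroup.mem_bot] at hxT
    have hx1 : x = 1 := Subtype.ext hxT
    rw [hx1, orderOf_one] at hx
    exact hp.ne_one hx.symm

section Step

variable {G : Type u} [Group G] [Finite G] {S : Type v} [Group S] (φ : S →* MulAut G)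
  (T : Subgroup S) [T.Normal]

/-- The action restricted to the fixed points of a normal subgroup. -/
def restrictHom : S →* MulAut (fixedSub (φ.comp T.subtype)) where
  toFun s :=
    { toFun := fun c => ⟨φ s c, fun t => by
        have hm : s⁻¹ * (t : S) * s ∈ T := by
          simpa using Subgroup.Normal.conj_mem inferInstance (t : S) t.2 s⁻¹
        have h1 : φ (s⁻¹ * (t : S) * s) (c : G) = c := c.2 ⟨_, hm⟩
        show φ (t : S) (φ s c) = φ s c
        conv_rhs => rw [← h1]
        simp only [← MulAut.mul_apply, ← map_mul]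
        congr 2
        group⟩
      invFun := fun c => ⟨φ s⁻¹ c, fun t => by
        have h1 : φ (s * t * s⁻¹) (c : G) = c :=
          c.2 ⟨_, Subgroup.Normal.conj_mem inferInstance (t : S) t.2 s⟩
        show φ (t : S) (φ s⁻¹ c) = φ s⁻¹ c
        conv_rhs => rw [← h1]
        simp only [← MulAut.mul_apply, ← map_mul]
        congr 2
        group⟩
      left_inv := fun c => Subtype.ext (show φ s⁻¹ (φ s c) = c by
        rw [← MulAut.mul_apply, ← map_mul, inv_mul_cancel, map_one, MulAut.one_apply])
      right_inv := fun c => Subtype.ext (show φ s (φ s⁻¹ c) = c by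
        rw [← MulAut.mul_apply, ← map_mul, mul_inv_cancel, map_one, MulAut.one_apply])
      map_mul' := fun a b => Subtype.ext (by simp) }
  map_one' := by ext c; simp
  map_mul' s t := by ext c; simp

/-- The action of the quotient on the fixed points. -/
def quotHom : S ⧸ T →* MulAut (fixedSub (φ.comp T.subtype)) :=
  QuotientGroup.lift T (restrictHom φ T) fun t ht => by
    ext c
    exact c.2 ⟨t, ht⟩

theorem quotHom_mk (s : S) (c : fixedSub (φ.comp T.subtype)) :
    ((quotHom φ T (s : S ⧸ T) c : fixedSub (φ.comp T.subtype)) : G) = φ s c := rfl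

variable [Finite S] {p : ℕ} [Fact p.Prime]

theorem card_inv_step (hT : IsPGroup p T) (hpG : ¬ p ∣ Nat.card G) :
    Nat.card {χ : IrrCharacter G // Inv φ (χ : G → ℂ)} =
      Nat.card {β : IrrCharacter (fixedSub (φ.comp T.subtype)) //
        Inv (quotHom φ T) (β : fixedSub (φ.comp T.subtype) → ℂ)} := by
  classical
  haveI := Fintype.ofFinite G
  haveI := Fintype.ofFinite (fixedSub (φ.comp T.subtype))
  set φT := φ.comp T.subtype with hφT
  -- translating a correspondence by an element of `S`
  have hmove : ∀ (s : S) (χ : IrrCharacter G) (β : IrrCharacter (fixedSub φT)),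
      Corr φT p χ β → Corr φT p (irrEquiv (φ s) χ) (irrEquiv (quotHom φ T (s : S ⧸ T)) β) := by
    rintro s χ β ⟨m, hm, hpm⟩
    refine ⟨m, ?_, hpm⟩
    rw [← hm, ← CfsgLib.Clifford.classInner_comp_equiv (quotHom φ T (s : S ⧸ T))
      (fun c : fixedSub φT => (χ : G → ℂ) c) (β : fixedSub φT → ℂ)]
    rfl
  have hTinv : ∀ (s : S) {χ : IrrCharacter G}, Inv φT (χ : G → ℂ) →
      Inv φT ((irrEquiv (φ s) χ : IrrCharacter G) : G → ℂ) := by
    intro s χ hχ t g
    rw [irrEquiv_apply, irrEquiv_apply]
    have h1 := hχ ⟨s * t * s⁻¹, Subgroup.Normal.conj_mem inferInstance (t : S) t.2 s⟩ (φ s g)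
    rw [← h1]
    congr 1
    simp [φT, ← MulAut.mul_apply, ← map_mul]
  have hinvT : ∀ {χ : IrrCharacter G}, Inv φ (χ : G → ℂ) → Inv φT (χ : G → ℂ) :=
    fun h t g => h (t : S) g
  have hfwd : ∀ {χ : IrrCharacter G} (hχ : Inv φ (χ : G → ℂ)),
      Inv (quotHom φ T) (((existsUnique_corr φT hT hpG (hinvT hχ)).exists.choose :
        IrrCharacter (fixedSub φT)) : fixedSub φT → ℂ) := by
    intro χ hχ q c
    obtain ⟨s, rfl⟩ := QuotientGroup.mk_surjective q
    set β := (existsUnique_corr φT hT hpG (hinvT hχ)).exists.choose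
    have hβ := (existsUnique_corr φT hT hpG (hinvT hχ)).exists.choose_spec
    have h1 := hmove s χ β hβ
    have h2 : irrEquiv (φ s) χ = χ := Subtype.ext (funext fun g => hχ s g)
    rw [h2] at h1
    have h3 := (existsUnique_corr φT hT hpG (hinvT hχ)).unique h1 hβ
    rw [← irrEquiv_apply, h3]
  refine Nat.card_congr (Equiv.ofBijective
    (fun χ => ⟨_, hfwd χ.2⟩) ⟨fun χ χ' h => ?_, fun β => ?_⟩)
  · have h1 := (existsUnique_corr φT hT hpG (hinvT χ.2)).exists.choose_spec
    have h2 := (existsUnique_corr φT hT hpG (hinvT χ'.2)).exists.choose_spec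
    rw [show (existsUnique_corr φT hT hpG (hinvT χ'.2)).exists.choose = _ from
      (congrArg Subtype.val h).symm] at h2
    exact Subtype.ext (corr_injective φT hT hpG (hinvT χ.2) (hinvT χ'.2) h1 h2)
  · obtain ⟨χ, hχ, hc⟩ := corr_surjective φT hT hpG β.1
    have hS : Inv φ (χ : G → ℂ) := by
      intro s g
      have h1 := hmove s χ β.1 hc
      have h2 : irrEquiv (quotHom φ T (s : S ⧸ T)) β.1 = β.1 :=
        Subtype.ext (funext fun c => β.2 _ c)
      rw [h2] at h1
      have h3 := corr_injective φT hT hpG (hTinv s hχ) hχ h1 hc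
      exact (congrFun (congrArg Subtype.val h3) g)
    refine ⟨⟨χ, hS⟩, Subtype.ext ?_⟩
    exact (existsUnique_corr φT hT hpG (hinvT hS)).unique
      (existsUnique_corr φT hT hpG (hinvT hS)).exists.choose_spec hc

theorem card_invClass_step (hT : IsPGroup p T) (hpG : ¬ p ∣ Nat.card G) :
    Nat.card {K : ConjClasses G // InvClass φ K} =
      Nat.card {K : ConjClasses (fixedSub (φ.comp T.subtype)) // InvClass (quotHom φ T) K} := by
  set φT := φ.comp T.subtype with hφT
  let m : {K : ConjClasses (fixedSub φT) // InvClass (quotHom φ T) K} →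
      {K : ConjClasses G // InvClass φ K} := fun K =>
    ⟨ConjClasses.map (fixedSub φT).subtype K.1, by
      obtain ⟨c, hc⟩ := ConjClasses.exists_rep K.1
      intro s g hg
      have h1 : IsConj g (c : G) := by
        rw [← ConjClasses.mk_eq_mk_iff_isConj, hg, ← hc]
        rfl
      have h2 : ConjClasses.mk (quotHom φ T (s : S ⧸ T) c) = K.1 := K.2 _ c hc
      rw [← h2]
      show ConjClasses.mk (φ s g) = ConjClasses.mk (φ s (c : G))
      exact ConjClasses.mk_eq_mk_iff_isConj.2 ((φ s).toMonoidHom.map_isConj h1)⟩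
  refine (Nat.card_congr (Equiv.ofBijective m ⟨fun K K' h => ?_, fun K => ?_⟩)).symm
  · obtain ⟨c, hc⟩ := ConjClasses.exists_rep K.1
    obtain ⟨c', hc'⟩ := ConjClasses.exists_rep K'.1
    have h1 : ConjClasses.map (fixedSub φT).subtype K.1 =
        ConjClasses.map (fixedSub φT).subtype K'.1 := congrArg Subtype.val h
    rw [← hc, ← hc'] at h1
    refine Subtype.ext ?_
    rw [← hc, ← hc']
    exact ConjClasses.mk_eq_mk_iff_isConj.2
      (isConj_of_isConj φT hT hpG (ConjClasses.mk_eq_mk_iff_isConj.1 h1))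
  · obtain ⟨g, hg⟩ := ConjClasses.exists_rep K.1
    obtain ⟨c, hc, hgc⟩ := exists_fixed_isConj φT hT hpG (g := g) fun t =>
      ConjClasses.mk_eq_mk_iff_isConj.1 ((K.2 (t : S) g hg).trans hg.symm)
    have hcK : ConjClasses.mk c = K.1 := by
      rw [← hg]; exact ConjClasses.mk_eq_mk_iff_isConj.2 hgc.symm
    refine ⟨⟨ConjClasses.mk ⟨c, hc⟩, ?_⟩, Subtype.ext hcK⟩
    intro q d hd
    obtain ⟨s, rfl⟩ := QuotientGroup.mk_surjective q
    refine ConjClasses.mk_eq_mk_iff_isConj.2 (isConj_of_isConj φT hT hpG ?_)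
    rw [quotHom_mk]
    have h1 : IsConj ((d : G)) c :=
      (fixedSub φT).subtype.map_isConj (ConjClasses.mk_eq_mk_iff_isConj.1 hd)
    refine ((φ s).toMonoidHom.map_isConj h1).trans ?_
    exact ConjClasses.mk_eq_mk_iff_isConj.1 ((K.2 s c hcK).trans hcK.symm)

end Step

/-- Invariant characters are as many as invariant classes, for a solvable coprime action. -/
theorem card_inv_eq_card_invClass : ∀ (n : ℕ) {G : Type u} [Group G] [Finite G] {S : Type v}
    [Group S] [Finite S] (φ : S →* MulAut G), Nat.card S = n → Group.IsSolvable S →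
    (Nat.card G).Coprime (Nat.card S) →
    Nat.card {χ : IrrCharacter G // Inv φ (χ : G → ℂ)} =
      Nat.card {K : ConjClasses G // InvClass φ K} := by
  intro n
  induction n using Nat.strong_induction_on with
  | _ n ih =>
  intro G _ _ S _ _ φ hn hs hcop
  rcases subsingleton_or_nontrivial S with h1 | h1
  · have hI : ∀ χ : IrrCharacter G, Inv φ (χ : G → ℂ) := fun χ s g => by
      rw [Subsingleton.elim s 1, map_one]; rfl
    have hK : ∀ K : ConjClasses G, InvClass φ K := fun K s g h => by
      rw [Subsingleton.elim s 1, map_one]; exact h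
    rw [Nat.card_congr (Equiv.subtypeUnivEquiv hI), Nat.card_congr (Equiv.subtypeUnivEquiv hK)]
    exact CfsgLib.Char.card_irrCharacter
  · obtain ⟨p, T, hp, hTn, hT, hTne⟩ := exists_normal_pSubgroup S hs
    haveI : Fact p.Prime := ⟨hp⟩
    obtain ⟨k, hk⟩ := IsPGroup.iff_card.1 hT
    have hT1 : Nat.card T ≠ 1 := fun h => hTne (Subgroup.eq_bot_of_card_eq _ h)
    have hk0 : k ≠ 0 := fun h => hT1 (by rw [hk, h, pow_zero])
    have hTS : Nat.card T ∣ Nat.card S := Subgroup.card_subgroup_dvd_card T
    have hpG : ¬ p ∣ Nat.card G := fun h => hp.not_dvd_one (hcop ▸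
      Nat.dvd_gcd h (((dvd_pow_self p hk0).trans (dvd_of_eq hk.symm)).trans hTS))
    rw [card_inv_step φ T hT hpG, card_invClass_step φ T hT hpG]
    have hlt : Nat.card (S ⧸ T) < n := by
      have h2 := Subgroup.card_eq_card_quotient_mul_card_subgroup T
      rw [← hn, h2]
      have : 1 < Nat.card T := by
        have := Nat.card_pos (α := T); omega
      exact lt_mul_right Nat.card_pos this
    exact ih _ hlt (quotHom φ T) rfl
      (solvable_of_surjective (QuotientGroup.mk'_surjective T))
      ((hcop.coprime_dvd_left (Subgroup.card_subgroup_dvd_card _)).coprime_dvd_right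
        (Subgroup.card_quotient_dvd_card T))

/-- The fixed points of the quotient on the fixed points of `T` are the fixed points of `S`. -/
def fixedQuotEquiv {G : Type u} [Group G] {S : Type v} [Group S] (φ : S →* MulAut G)
    (T : Subgroup S) [T.Normal] : fixedSub φ ≃* fixedSub (quotHom φ T) where
  toFun x := ⟨⟨x, fun t => x.2 (t : S)⟩, fun q => by
    obtain ⟨s, rfl⟩ := QuotientGroup.mk_surjective q
    exact Subtype.ext (x.2 s)⟩
  invFun y := ⟨((y : fixedSub (φ.comp T.subtype)) : G), fun s =>
    congrArg Subtype.val (y.2 (s : S ⧸ T))⟩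
  left_inv _ := rfl
  right_inv _ := rfl
  map_mul' _ _ := rfl

/-- Invariant characters are as many as characters of the fixed points. -/
theorem card_inv_eq_fixed : ∀ (n : ℕ) {G : Type u} [Group G] [Finite G] {S : Type v}
    [Group S] [Finite S] (φ : S →* MulAut G), Nat.card S = n → Group.IsSolvable S →
    (Nat.card G).Coprime (Nat.card S) →
    Nat.card {χ : IrrCharacter G // Inv φ (χ : G → ℂ)} = Nat.card (IrrCharacter (fixedSub φ)) := by
  intro n
  induction n using Nat.strong_induction_on with
  | _ n ih =>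
  intro G _ _ S _ _ φ hn hs hcop
  rcases subsingleton_or_nontrivial S with h1 | h1
  · have hI : ∀ χ : IrrCharacter G, Inv φ (χ : G → ℂ) := fun χ s g => by
      rw [Subsingleton.elim s 1, map_one]; rfl
    rw [Nat.card_congr (Equiv.subtypeUnivEquiv hI)]
    exact Nat.card_congr (irrEquiv
      { toFun := fun x : fixedSub φ => (x : G)
        invFun := fun g => ⟨g, fun s => by rw [Subsingleton.elim s 1, map_one]; rfl⟩
        left_inv := fun _ => rfl
        right_inv := fun _ => rfl
        map_mul' := fun _ _ => rfl })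
  · obtain ⟨p, T, hp, hTn, hT, hTne⟩ := exists_normal_pSubgroup S hs
    haveI : Fact p.Prime := ⟨hp⟩
    obtain ⟨k, hk⟩ := IsPGroup.iff_card.1 hT
    have hT1 : Nat.card T ≠ 1 := fun h => hTne (Subgroup.eq_bot_of_card_eq _ h)
    have hk0 : k ≠ 0 := fun h => hT1 (by rw [hk, h, pow_zero])
    have hTS : Nat.card T ∣ Nat.card S := Subgroup.card_subgroup_dvd_card T
    have hpG : ¬ p ∣ Nat.card G := fun h => hp.not_dvd_one (hcop ▸
      Nat.dvd_gcd h (((dvd_pow_self p hk0).trans (dvd_of_eq hk.symm)).trans hTS))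
    have hlt : Nat.card (S ⧸ T) < n := by
      have h2 := Subgroup.card_eq_card_quotient_mul_card_subgroup T
      rw [← hn, h2]
      have : 1 < Nat.card T := by
        have := Nat.card_pos (α := T); omega
      exact lt_mul_right Nat.card_pos this
    rw [card_inv_step φ T hT hpG, ih _ hlt (quotHom φ T) rfl
      (solvable_of_surjective (QuotientGroup.mk'_surjective T))
      ((hcop.coprime_dvd_left (Subgroup.card_subgroup_dvd_card _)).coprime_dvd_right
        (Subgroup.card_quotient_dvd_card T))]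
    exact Nat.card_congr (irrEquiv (fixedQuotEquiv φ T))

end CfsgLib.Glauberman
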