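import Cfsg.Agent.Lib.BlockReg.LocalRing
import Cfsg.Agent.Lib.BlockReg.Integral
import Cfsg.Agent.Lib.Char.CentralOver
import Cfsg.Agent.Lib.Char.Orth
import Mathlib.Algebra.CharP.Lemmas

/-!
# Congruences for integer values of characters of commutative groups
-/

set_option autoImplicit false

namespace CfsgLib.Glauberman

open Cfsg CfsgLib.BlockReg

universe u

variable {p : ℕ} {M : Ideal Cfsg.AlgInt}

/-- A `p`-power root of unity is `1` modulo the ideal. -/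
theorem memIdeal_sub_one_of_pow_prime_pow [Fact p.Prime] (hM : IsPModular p M) {z : ℂ} {j : ℕ}
    (hz : z ^ p ^ j = 1) : MemLocalIdeal M (z - 1) := by
  haveI := isPrime_localIdeal hM
  haveI : Nontrivial (localSubring hM ⧸ localIdeal hM) :=
    Ideal.Quotient.nontrivial_iff.2 (isPrime_localIdeal hM).ne_top
  haveI : CharP (localSubring hM ⧸ localIdeal hM) p := by
    refine (CharP.charP_iff_prime_eq_zero hM.1).2 ?_
    rw [← map_natCast (Ideal.Quotient.mk (localIdeal hM)), Ideal.Quotient.eq_zero_iff_mem]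
    show MemLocalIdeal M _
    rw [show (((p : localSubring hM)) : ℂ) = (p : ℂ) from map_natCast (localSubring hM).subtype p]
    exact (memIdeal_natCast_iff hM p).2 dvd_rfl
  have hR : MemLocalRing M z :=
    memRing_of_pow_eq_one hM (pow_pos (Fact.out : p.Prime).pos j) hz
  let w : localSubring hM := ⟨z, hR⟩
  have hw : w ^ p ^ j = 1 := Subtype.ext (by simpa [w] using hz)
  have h1 : (Ideal.Quotient.mk (localIdeal hM) (w - 1)) ^ p ^ j = 0 := by
    rw [map_sub, map_one, sub_pow_char_pow, one_pow, ← map_pow, hw, map_one, sub_self]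
  have h2 := (pow_eq_zero_iff (pow_ne_zero j (Fact.out : p.Prime).ne_zero)).1 h1
  exact Ideal.Quotient.eq_zero_iff_mem.1 h2

/-- A power-sum identity up to multiples of `4`. -/
theorem exists_power_sum_four {ι : Type*} (t : Finset ι) (μ : ι → ℂ)
    (hμ : ∀ i, IsIntegral ℤ (μ i)) :
    ∃ e z : ℂ, IsIntegral ℤ e ∧ IsIntegral ℤ z ∧
      (∑ i ∈ t, μ i) ^ 2 = ∑ i ∈ t, μ i ^ 2 + 2 * e ∧
      ∑ i ∈ t, μ i ^ 4 =
        (∑ i ∈ t, μ i) ^ 4 - 4 * (∑ i ∈ t, μ i) ^ 2 * e + 2 * e ^ 2 + 4 * z := by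
  classical
  induction t using Finset.induction_on with
  | empty => exact ⟨0, 0, isIntegral_zero, isIntegral_zero, by simp, by simp⟩
  | insert a t ha ih =>
    obtain ⟨e, z, he, hz, h2, h4⟩ := ih
    have hsum : IsIntegral ℤ (∑ i ∈ t, μ i) := IsIntegral.sum _ fun i _ => hμ i
    refine ⟨e + μ a * ∑ i ∈ t, μ i, z + μ a * (∑ i ∈ t, μ i) * e + μ a ^ 2 * e,
      he.add ((hμ a).mul hsum),
      (hz.add (((hμ a).mul hsum).mul he)).add (((hμ a).pow 2).mul he), ?_, ?_⟩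
    · rw [Finset.sum_insert ha, Finset.sum_insert ha]
      linear_combination h2
    · rw [Finset.sum_insert ha, Finset.sum_insert ha]
      linear_combination h4

variable {S : Type u} [Group S] [Finite S]

/-- A character of a commutative group is a sum of homomorphisms with natural coefficients. -/
theorem exists_linear_decomp [Fintype S] (hS : ∀ a b : S, a * b = b * a) {A : S → ℂ}
    (hA : Cfsg.IsCharacter S A) :
    ∃ m : IrrCharacter S → ℕ, (∀ x, A x = ∑ l, (m l : ℂ) * (l : S → ℂ) x) ∧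
      (∀ l : IrrCharacter S, (l : S → ℂ) 1 = 1 ∧
        ∀ a b, (l : S → ℂ) (a * b) = (l : S → ℂ) a * (l : S → ℂ) b) := by
  obtain ⟨m, hm⟩ := CfsgLib.Char.IsCharacter.exists_nat_combination hA
  refine ⟨m, fun x => by rw [hm]; simp, fun l => ?_⟩
  obtain ⟨h1, h2, -⟩ := CfsgLib.CharOver.abelian_irr hS l.2
  exact ⟨h1, h2⟩

/-- Integer values are congruent modulo `p` along a `p`-element. -/
theorem dvd_value_sub [Fintype S] [Fact p.Prime] (hS : ∀ a b : S, a * b = b * a) {A : S → ℂ}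
    (hA : Cfsg.IsCharacter S A) {x y : S} {j : ℕ} (hy : y ^ p ^ j = 1) {a b : ℤ}
    (ha : A (x * y) = (a : ℂ)) (hb : A x = (b : ℂ)) : (p : ℤ) ∣ a - b := by
  obtain ⟨m, hm, hl⟩ := exists_linear_decomp hS hA
  obtain ⟨M, hM⟩ := exists_isPModular (Fact.out : p.Prime)
  refine (memIdeal_intCast_iff hM _).1 ?_
  rw [Int.cast_sub, ← ha, ← hb, hm, hm, ← Finset.sum_sub_distrib]
  refine memIdeal_sum hM _ fun l _ => ?_
  obtain ⟨h1, h2⟩ := hl l
  have hpow : ∀ n : ℕ, (l : S → ℂ) (y ^ n) = (l : S → ℂ) y ^ n := by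
    intro n
    induction n with
    | zero => simpa using h1
    | succ n ih => rw [pow_succ, h2, ih, pow_succ]
  have hy1 : ((l : S → ℂ) y) ^ p ^ j = 1 := by rw [← hpow, hy, h1]
  rw [h2, show (m l : ℂ) * ((l : S → ℂ) x * (l : S → ℂ) y) - (m l : ℂ) * (l : S → ℂ) x =
    (m l : ℂ) * (l : S → ℂ) x * ((l : S → ℂ) y - 1) by ring]
  refine memIdeal_mul_left hM (memRing_mul hM (memRing_natCast hM _) ?_)
    (memIdeal_sub_one_of_pow_prime_pow hM hy1)
  obtain ⟨n, ρ, -, hρ⟩ := id l.2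
  rw [← hρ]
  exact memRing_algInt hM (CfsgLib.Char.isIntegral_character ρ x)

/-- The congruence `A (u ^ 4) ≡ A (u ^ 2)` modulo `4` for integer values. -/
theorem four_dvd_value_sub {A : S → ℂ} (hA : Cfsg.IsCharacter S A) (u : S) {a b c : ℤ}
    (ha : A u = (a : ℂ)) (hb : A (u ^ 2) = (b : ℂ)) (hc : A (u ^ 4) = (c : ℂ)) :
    (4 : ℤ) ∣ c - b := by
  obtain ⟨n, ρ, rfl⟩ := hA
  obtain ⟨μ, hμ, -, -, hpow⟩ := CfsgLib.Char.exists_eigenvalues ρ u
  have hint : ∀ i, IsIntegral ℤ (μ i) := fun i =>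
    IsIntegral.of_pow (orderOf_pos u) (by rw [hμ i]; exact isIntegral_one)
  obtain ⟨e, z, he, hz, h2, h4⟩ := exists_power_sum_four Finset.univ μ hint
  have h1 := hpow 1
  simp only [pow_one] at h1
  rw [← h1, ← hpow 2, ha, hb] at h2
  rw [← h1, ← hpow 4, ha, hc] at h4
  have heq : e = (((a ^ 2 - b : ℤ) : ℚ) / 2 : ℚ) := by
    push_cast
    linear_combination (-(1 / 2 : ℂ)) * h2
  obtain ⟨e', he'⟩ := CfsgLib.Char.exists_int_of_isIntegral_ratCast (heq ▸ he)
  have hee : e = (e' : ℂ) := by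
    rw [heq, ← he']
    norm_num
  have hzeq : z = (((c - a ^ 4 + 4 * a ^ 2 * e' - 2 * e' ^ 2 : ℤ) : ℚ) / 4 : ℚ) := by
    rw [hee] at h4
    push_cast
    linear_combination (-(1 / 4 : ℂ)) * h4
  obtain ⟨z', hz'⟩ := CfsgLib.Char.exists_int_of_isIntegral_ratCast (hzeq ▸ hz)
  have hc' : c = a ^ 4 - 4 * a ^ 2 * e' + 2 * e' ^ 2 + 4 * z' := by
    have h : ((c - a ^ 4 + 4 * a ^ 2 * e' - 2 * e' ^ 2 : ℤ) : ℚ) = ((4 * z' : ℤ) : ℚ) := by
      push_cast at hz' ⊢
      linarith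
    have h' := Int.cast_injective (α := ℚ) h
    linarith
  have hb' : b = a ^ 2 - 2 * e' := by
    rw [hee] at h2
    have h : ((a ^ 2 : ℤ) : ℂ) = ((b + 2 * e' : ℤ) : ℂ) := by
      push_cast
      linear_combination h2
    have h' := Int.cast_injective (α := ℂ) h
    linarith
  have h4' : (4 : ℤ) ∣ a ^ 4 - a ^ 2 + 2 * e' ^ 2 + 2 * e' := by
    have key : ∀ r s : ZMod 4, r ^ 4 - r ^ 2 + 2 * s ^ 2 + 2 * s = 0 := by decide
    refine (ZMod.intCast_zmod_eq_zero_iff_dvd _ 4).1 ?_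
    push_cast
    exact key (a : ZMod 4) (e' : ZMod 4)
  obtain ⟨k, hk⟩ := h4'
  exact ⟨k - a ^ 2 * e' + z', by rw [hc', hb']; linarith⟩

end CfsgLib.Glauberman
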