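import Cfsg.Agent.Lib.Solvable.SchurZassenhaus
import Mathlib.GroupTheory.SchurZassenhaus
import Mathlib.GroupTheory.QuotientGroup.Basic

/-!
# A coprime complement is conjugate into any supplement of the normal subgroup
-/

set_option autoImplicit false

namespace CfsgLib.Glauberman

open Pointwise

universe u

/-- If `W = AB` with coprime orders and `HA = W`, a conjugate of `B` by `A` lies in `H`. -/
theorem exists_conj_mem_of_sup_eq_top {K : Type u} [Group K] [Finite K] (A B H : Subgroup K)
    [A.Normal] (hAB : A ⊔ B = ⊤) (hcop : (Nat.card A).Coprime (Nat.card B))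
    (hsolv : Group.IsSolvable A ∨ Group.IsSolvable B) (hH : H ⊔ A = ⊤) :
    ∃ a ∈ A, ∀ b ∈ B, a * b * a⁻¹ ∈ H := by
  classical
  have hcompl : A.IsComplement' B := by
    refine Subgroup.isComplement'_of_disjoint_and_mul_eq_univ
      (Subgroup.disjoint_of_coprime_natCard hcop) ?_
    rw [← Subgroup.normal_mul, hAB, Subgroup.coe_top]
  have hidx : A.index = Nat.card B := hcompl.symm.index_eq_card
  set A' : Subgroup H := A.subgroupOf H with hA'
  have hA'idx : A'.index = Nat.card B := by
    rw [← hidx]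
    show A.relIndex H = A.index
    rw [← Subgroup.relIndex_sup_right H A, hH, Subgroup.relIndex_top_right]
  have hA'card : Nat.card A' ∣ Nat.card A := by
    rw [← Subgroup.card_map_of_injective (K := A') H.subtype_injective]
    exact Subgroup.card_dvd_of_le (by
      rw [hA', Subgroup.subgroupOf_map_subtype]; exact inf_le_left)
  obtain ⟨B₁, hB₁⟩ := Subgroup.exists_right_complement'_of_coprime (N := A')
    (hA'idx ▸ hcop.coprime_dvd_left hA'card)
  have hcard : Nat.card (B₁.map H.subtype) = Nat.card B := by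
    rw [Subgroup.card_map_of_injective H.subtype_injective, ← hB₁.symm.index_eq_card, hA'idx]
  obtain ⟨a, ha, hconj⟩ := CfsgLib.Solvable.exists_conj_eq_of_coprime
    (N := A) (B := B) (B' := B₁.map H.subtype) Subgroup.le_normalizer_of_normal
    (by rw [hAB]; exact le_top) hcard hcop hsolv
  refine ⟨a, ha, fun b hb => ?_⟩
  have : MulAut.conj a • b ∈ MulAut.conj a • B := Subgroup.smul_mem_pointwise_smul _ _ _ hb
  rw [hconj] at this
  obtain ⟨h, -, he⟩ := this
  rw [MulAut.smul_def, MulAut.conj_apply] at he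
  rw [← he]
  exact h.2

/-- The same modulo a normal subgroup contained in `H`. -/
theorem exists_conj_mem_mod {W : Type u} [Group W] [Finite W] (K A B H : Subgroup W) [K.Normal]
    [A.Normal] (hKH : K ≤ H) (hAB : A ⊔ B = ⊤)
    (hcop : (Nat.card (A.map (QuotientGroup.mk' K))).Coprime
      (Nat.card (B.map (QuotientGroup.mk' K))))
    (hsolv : Group.IsSolvable (A.map (QuotientGroup.mk' K)) ∨
      Group.IsSolvable (B.map (QuotientGroup.mk' K)))
    (hH : H ⊔ A = ⊤) : ∃ a ∈ A, ∀ b ∈ B, a * b * a⁻¹ ∈ H := by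
  set π := QuotientGroup.mk' K with hπ
  have hs : Function.Surjective π := QuotientGroup.mk'_surjective K
  haveI : (A.map π).Normal := Subgroup.Normal.map inferInstance π hs
  have htop : ∀ X Y : Subgroup W, X ⊔ Y = ⊤ → X.map π ⊔ Y.map π = ⊤ := fun X Y h => by
    rw [← Subgroup.map_sup, h, Subgroup.map_top_of_surjective π hs]
  obtain ⟨_, ⟨a, ha, rfl⟩, hconj⟩ := exists_conj_mem_of_sup_eq_top (A.map π) (B.map π) (H.map π)
    (htop A B hAB) hcop hsolv (htop H A hH)
  refine ⟨a, ha, fun b hb => ?_⟩
  obtain ⟨h, hh, he⟩ := hconj (π b) (Subgroup.mem_map_of_mem π hb)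
  rw [← map_inv, ← map_mul, ← map_mul] at he
  have hk : h⁻¹ * (a * b * a⁻¹) ∈ K := QuotientGroup.eq.1 he
  have := mul_mem hh (hKH hk)
  rwa [mul_inv_cancel_left] at this

end CfsgLib.Glauberman
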