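import Cfsg.Agent.Lib.Glauberman.PGroup
import Cfsg.Agent.Lib.Char.Orth

/-!
# The Glauberman correspondence: multiplicities
-/

set_option autoImplicit false

namespace CfsgLib.Glauberman

open Cfsg CfsgLib.BlockReg
open scoped ComplexConjugate

universe u v

variable {G : Type u} [Group G] [Finite G] {S : Type v} [Group S]
  (φ : S →* MulAut G) (p : ℕ)

/-- `β` is a constituent of the restriction of `χ` with multiplicity prime to `p`. -/
def Corr [Fintype (fixedSub φ)] (χ : IrrCharacter G) (β : IrrCharacter (fixedSub φ)) : Prop :=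
  ∃ m : ℕ, classInner (fun c : fixedSub φ => (χ : G → ℂ) c) (β : fixedSub φ → ℂ) = (m : ℂ) ∧ ¬ p ∣ m

variable [Finite S] {p} {M : Ideal Cfsg.AlgInt}

/-- The multiplicities modulo `p`. -/
theorem multiplicity_mod [Fintype G] [Fintype (fixedSub φ)] [Fact p.Prime] (hM : IsPModular p M)
    (hS : IsPGroup p S) (hpG : ¬ p ∣ Nat.card G) {χ : IrrCharacter G} (hχ : Inv φ (χ : G → ℂ))
    {β : IrrCharacter (fixedSub φ)} (hβ : ¬ MemLocalIdeal M (lamChar φ χ β)) :
    ∃ ε : ℤ, (ε = 1 ∨ ε = -1) ∧ ∀ (β' : IrrCharacter (fixedSub φ)) (m : ℕ),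
      classInner (fun c : fixedSub φ => (χ : G → ℂ) c) (β' : fixedSub φ → ℂ) = (m : ℂ) →
        (β' = β → (p : ℤ) ∣ (m : ℤ) - ε) ∧ (β' ≠ β → p ∣ m) := by
  classical
  obtain ⟨β₀, -, huniq, hcongr⟩ := exists_congr φ hM hS hpG hχ
  obtain rfl := huniq β hβ
  set a : ℤ := (charDegree (χ : G → ℂ) : ℤ) with ha
  set b : ℤ := (charDegree (β : fixedSub φ → ℂ) : ℤ) with hb
  have hac : (a : ℂ) = (χ : G → ℂ) 1 := by rw [ha]; push_cast; exact deg_cast χ
  have hbc : (b : ℂ) = (β : fixedSub φ → ℂ) 1 := by rw [hb]; push_cast; exact deg_cast β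
  have h1 := hcongr 1
  rw [OneMemClass.coe_one, ← hac, ← hbc] at h1
  have hdvd : (p : ℤ) ∣ (a - b) * (a + b) := by
    refine (memIdeal_intCast_iff hM _).1 ?_
    push_cast
    convert h1 using 1
    ring
  obtain ⟨ε, hε, hab⟩ : ∃ ε : ℤ, (ε = 1 ∨ ε = -1) ∧ (p : ℤ) ∣ b - ε * a := by
    rcases (Nat.prime_iff_prime_int.1 (Fact.out : p.Prime)).dvd_or_dvd hdvd with h | h
    · exact ⟨1, Or.inl rfl, by rw [one_mul, ← dvd_neg]; simpa using h⟩
    · exact ⟨-1, Or.inr rfl, by rw [neg_one_mul, sub_neg_eq_add, add_comm]; exact h⟩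
  refine ⟨ε, hε, ?_⟩
  have hpa : ¬ MemLocalIdeal M (a : ℂ) := by
    rw [ha, Int.cast_natCast]; exact not_memIdeal_natCast hM (not_dvd_deg hpG χ)
  have hab' : MemLocalIdeal M ((b : ℂ) - (ε : ℂ) * (a : ℂ)) := by
    have := (memIdeal_intCast_iff hM _).2 hab
    push_cast at this
    exact this
  have hcl : ∀ c : fixedSub φ,
      MemLocalIdeal M ((χ : G → ℂ) c - (ε : ℂ) * (β : fixedSub φ → ℂ) c) := by
    intro c
    by_contra hne
    have hd := memRing_sub hM (memRing_char hM χ (c : G))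
      (memRing_mul hM (memRing_intCast hM ε) (memRing_char hM β c))
    refine not_memIdeal_mul hM (memRing_intCast hM a) hd hpa hne ?_
    have hsum := memIdeal_add hM (hcongr c)
      (memIdeal_mul_right hM hab' (memRing_char hM β c))
    convert hsum using 1
    rw [← hac, ← hbc]
    ring
  intro β' m hm
  have hpC := not_dvd_card_fixed φ hpG
  have hz : MemLocalIdeal M ((m : ℂ) - (ε : ℂ) * if β' = β then 1 else 0) := by
    have : (if β' = β then (1 : ℂ) else 0) =
        classInner (β : fixedSub φ → ℂ) (β' : fixedSub φ → ℂ) := by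
      rw [CfsgLib.Char.classInner_irrCharacter]
      simp only [eq_comm]
    rw [this, ← hm]
    simp only [classInner]
    rw [mul_left_comm, ← mul_sub, Finset.mul_sum, ← Finset.sum_sub_distrib]
    refine memIdeal_mul_left hM (memRing_inv_natCast hM hpC) (memIdeal_sum hM _ fun c _ => ?_)
    rw [← mul_assoc, ← sub_mul, ← char_inv]
    exact memIdeal_mul_right hM (hcl c) (memRing_char hM β' _)
  constructor
  · rintro rfl
    rw [if_pos rfl, mul_one] at hz
    refine (memIdeal_intCast_iff hM _).1 ?_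
    push_cast
    exact hz
  · intro hne
    rw [if_neg hne, mul_zero, sub_zero] at hz
    exact (memIdeal_natCast_iff hM m).1 hz

theorem exists_nat_classInner_res [Fintype (fixedSub φ)] (χ : IrrCharacter G)
    (β : IrrCharacter (fixedSub φ)) :
    ∃ m : ℕ, classInner (fun c : fixedSub φ => (χ : G → ℂ) c) (β : fixedSub φ → ℂ) = (m : ℂ) :=
  CfsgLib.Char.IsCharacter.exists_nat_classInner
    (CfsgLib.Char.IsCharacter.restrict (CfsgLib.Char.IsIrrCharacter.isCharacter χ.2) (fixedSub φ)) β.2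

theorem corr_iff [Fintype G] [Fintype (fixedSub φ)] [Fact p.Prime] (hM : IsPModular p M)
    (hS : IsPGroup p S) (hpG : ¬ p ∣ Nat.card G) {χ : IrrCharacter G} (hχ : Inv φ (χ : G → ℂ))
    (β : IrrCharacter (fixedSub φ)) :
    Corr φ p χ β ↔ ¬ MemLocalIdeal M (lamChar φ χ β) := by
  obtain ⟨β₀, hβ₀, huniq, -⟩ := exists_congr φ hM hS hpG hχ
  obtain ⟨ε, hε, hmod⟩ := multiplicity_mod φ hM hS hpG hχ hβ₀
  constructor
  · rintro ⟨m, hm, hpm⟩
    by_cases h : β = β₀
    · exact h ▸ hβ₀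
    · exact absurd ((hmod β m hm).2 h) hpm
  · intro h
    obtain rfl := huniq β h
    obtain ⟨m, hm⟩ := exists_nat_classInner_res φ χ β
    refine ⟨m, hm, fun hd => ?_⟩
    have h1 := (hmod β m hm).1 rfl
    have h2 : (p : ℤ) ∣ (m : ℤ) := Int.natCast_dvd_natCast.2 hd
    have h3 : (p : ℤ) ∣ ε := by simpa using dvd_sub h2 h1
    have h4 : (p : ℤ) ∣ 1 := by rcases hε with rfl | rfl <;> simpa using h3
    exact (Fact.out : p.Prime).not_dvd_one (Int.natCast_dvd_natCast.1 (by simpa using h4))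

theorem existsUnique_corr [Fintype G] [Fintype (fixedSub φ)] [Fact p.Prime]
    (hS : IsPGroup p S) (hpG : ¬ p ∣ Nat.card G) {χ : IrrCharacter G} (hχ : Inv φ (χ : G → ℂ)) :
    ∃! β, Corr φ p χ β := by
  obtain ⟨M, hM⟩ := exists_isPModular (Fact.out : p.Prime)
  obtain ⟨β₀, hβ₀, huniq, -⟩ := exists_congr φ hM hS hpG hχ
  exact ⟨β₀, (corr_iff φ hM hS hpG hχ β₀).2 hβ₀,
    fun β hβ => huniq β ((corr_iff φ hM hS hpG hχ β).1 hβ)⟩

theorem corr_multiplicity [Fintype G] [Fintype (fixedSub φ)] [Fact p.Prime]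
    (hS : IsPGroup p S) (hpG : ¬ p ∣ Nat.card G) {χ : IrrCharacter G} (hχ : Inv φ (χ : G → ℂ))
    {β : IrrCharacter (fixedSub φ)} {m : ℕ}
    (hm : classInner (fun c : fixedSub φ => (χ : G → ℂ) c) (β : fixedSub φ → ℂ) = (m : ℂ))
    (hpm : ¬ p ∣ m) : ((m : ℤ) ≡ 1 [ZMOD p] ∨ (m : ℤ) ≡ -1 [ZMOD p]) := by
  obtain ⟨M, hM⟩ := exists_isPModular (Fact.out : p.Prime)
  obtain ⟨β₀, hβ₀, -, -⟩ := exists_congr φ hM hS hpG hχ
  obtain ⟨ε, hε, hmod⟩ := multiplicity_mod φ hM hS hpG hχ hβ₀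
  by_cases h : β = β₀
  · have h1 := Int.ModEq.symm (Int.modEq_iff_dvd.2 ((hmod β m hm).1 h))
    rcases hε with rfl | rfl
    · exact Or.inl h1
    · exact Or.inr h1
  · exact absurd ((hmod β m hm).2 h) hpm

theorem corr_injective [Fintype G] [Fintype (fixedSub φ)] [Fact p.Prime]
    (hS : IsPGroup p S) (hpG : ¬ p ∣ Nat.card G) {χ χ' : IrrCharacter G}
    (hχ : Inv φ (χ : G → ℂ)) (hχ' : Inv φ (χ' : G → ℂ)) {β : IrrCharacter (fixedSub φ)}
    (h : Corr φ p χ β) (h' : Corr φ p χ' β) : χ = χ' := by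
  obtain ⟨M, hM⟩ := exists_isPModular (Fact.out : p.Prime)
  rw [corr_iff φ hM hS hpG hχ] at h
  rw [corr_iff φ hM hS hpG hχ'] at h'
  by_contra hne
  exact not_memIdeal_mul hM (lamChar_memRing φ hM hpG χ β) (lamChar_memRing φ hM hpG χ' β) h h'
    ((lamChar_mul φ hM hS hpG hχ hχ' β).2 hne)

theorem corr_surjective [Fintype G] [Fintype (fixedSub φ)] [Fact p.Prime]
    (hS : IsPGroup p S) (hpG : ¬ p ∣ Nat.card G) (β : IrrCharacter (fixedSub φ)) :
    ∃ χ : IrrCharacter G, Inv φ (χ : G → ℂ) ∧ Corr φ p χ β := by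
  classical
  obtain ⟨M, hM⟩ := exists_isPModular (Fact.out : p.Prime)
  by_contra hcon
  push Not at hcon
  refine not_memIdeal_one hM ?_
  have hsum := sum_invariant_lamChar φ hM hS hpG β
  have h0 := memIdeal_sum hM
    (Finset.univ.filter (fun χ : IrrCharacter G => Inv φ (χ : G → ℂ)))
    (f := fun χ => lamChar φ χ β) fun χ hχ => by
      by_contra h
      have hχ' := (Finset.mem_filter.1 hχ).2
      exact hcon χ hχ' ((corr_iff φ hM hS hpG hχ' β).2 h)
  simpa using memIdeal_add hM hsum h0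

/-- The number of invariant characters is the number of characters of the fixed points. -/
theorem card_inv [Fintype G] [Fintype (fixedSub φ)] [Fact p.Prime]
    (hS : IsPGroup p S) (hpG : ¬ p ∣ Nat.card G) :
    Nat.card {χ : IrrCharacter G // Inv φ (χ : G → ℂ)} = Nat.card (IrrCharacter (fixedSub φ)) := by
  refine Nat.card_congr (Equiv.ofBijective
    (fun χ => (existsUnique_corr φ hS hpG χ.2).exists.choose) ⟨fun χ χ' h => ?_, fun β => ?_⟩)
  · have h1 := (existsUnique_corr φ hS hpG χ.2).exists.choose_spec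
    have h2 := (existsUnique_corr φ hS hpG χ'.2).exists.choose_spec
    rw [show (existsUnique_corr φ hS hpG χ'.2).exists.choose = _ from h.symm] at h2
    exact Subtype.ext (corr_injective φ hS hpG χ.2 χ'.2 h1 h2)
  · obtain ⟨χ, hχ, hc⟩ := corr_surjective φ hS hpG β
    refine ⟨⟨χ, hχ⟩, ?_⟩
    exact (existsUnique_corr φ hS hpG hχ).unique
      (existsUnique_corr φ hS hpG hχ).exists.choose_spec hc

end CfsgLib.Glauberman
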