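import Cfsg.Agent.Lib.CharDeep.Extend
import Cfsg.Agent.Lib.BlockReg.Foundation
import Cfsg.Agent.Lib.BlockReg.LocalRing
import Cfsg.Agent.Lib.Char.Induced
import Cfsg.Agent.Lib.Char.Clifford

/-!
# Coset sums of characters over an invariant character of a normal subgroup

Characters over an invariant `θ` factor through the cover as the projective extension of `θ`
times a character of the quotient; this makes the coset sums of products of such characters
algebraic integers.
-/

set_option autoImplicit false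

namespace CfsgLib.Glauberman

open Cfsg CfsgLib CfsgLib.BlockReg
open scoped ComplexConjugate

universe u

section Schur

variable {N : Type u} [Group N] [Fintype N] {d : ℕ}

/-- Schur orthogonality, contracted with two endomorphisms. -/
theorem sum_trace_mul_trace (ρ : Representation ℂ N (Fin d → ℂ)) [ρ.IsIrreducible]
    (A B : Module.End ℂ (Fin d → ℂ)) :
    ∑ n : N, LinearMap.trace ℂ (Fin d → ℂ) (A * ρ n) * LinearMap.trace ℂ (Fin d → ℂ) (ρ n⁻¹ * B) =
      (Nat.card N : ℂ) / d * LinearMap.trace ℂ (Fin d → ℂ) (A * B) := by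
  classical
  have hd : (d : ℂ) ≠ 0 := by
    have := Char.finrank_pos_of_isIrreducible ρ
    rw [Module.finrank_fin_fun] at this
    exact_mod_cast this.ne'
  let toM : Module.End ℂ (Fin d → ℂ) →ₐ[ℂ] Matrix (Fin d) (Fin d) ℂ :=
    (LinearMap.toMatrixAlgEquiv' (R := ℂ) (n := Fin d)).toAlgHom
  have htr : ∀ X : Module.End ℂ (Fin d → ℂ),
      LinearMap.trace ℂ (Fin d → ℂ) X = Matrix.trace (toM X) := by
    intro X
    rw [LinearMap.trace_eq_matrix_trace ℂ (Pi.basisFun ℂ (Fin d)), LinearMap.toMatrix_eq_toMatrix']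
    rfl
  have hentry : ∀ i j k l : Fin d,
      ∑ n : N, toM (ρ n) j i * toM (ρ n⁻¹) k l =
        if i = k ∧ j = l then (Nat.card N : ℂ) / d else 0 := by
    intro i j k l
    set E : Module.End ℂ (Fin d → ℂ) :=
      (LinearMap.toMatrixAlgEquiv' (R := ℂ) (n := Fin d)).symm (Matrix.single i k 1) with hE
    have hcomm : ∀ m : N, (∑ n : N, ρ n * E * ρ n⁻¹) * ρ m = ρ m * ∑ n : N, ρ n * E * ρ n⁻¹ := by
      intro m
      rw [Finset.sum_mul, Finset.mul_sum]
      refine Fintype.sum_equiv (Equiv.mulLeft m⁻¹) _ _ fun n => ?_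
      simp only [Equiv.coe_mulLeft]
      rw [← mul_assoc, ← mul_assoc, ← map_mul, mul_inv_cancel_left, mul_inv_rev, inv_inv,
        map_mul, ← mul_assoc]
    obtain ⟨c, hc⟩ := Char.exists_scalar_of_commute ρ _ hcomm
    have htE : LinearMap.trace ℂ (Fin d → ℂ) E = if i = k then 1 else 0 := by
      rw [htr]
      show Matrix.trace ((LinearMap.toMatrixAlgEquiv' (R := ℂ) (n := Fin d)) E) = _
      rw [hE, AlgEquiv.apply_symm_apply]
      split_ifs with h
      · subst h; simp [Matrix.trace_single_eq_same]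
      · simp [Matrix.trace_single_eq_of_ne i k (1 : ℂ) h]
    have hsum : c * d = (Nat.card N : ℂ) * if i = k then 1 else 0 := by
      have h1 := congrArg (LinearMap.trace ℂ (Fin d → ℂ)) hc
      rw [map_sum, map_smul, LinearMap.trace_one, Module.finrank_fin_fun, smul_eq_mul] at h1
      rw [← h1, Finset.sum_congr rfl (g := fun _ => LinearMap.trace ℂ (Fin d → ℂ) E) (fun n _ => by
        rw [LinearMap.trace_mul_comm, ← mul_assoc, ← map_mul, inv_mul_cancel, map_one, one_mul]),
        Finset.sum_const, nsmul_eq_mul, Finset.card_univ, htE, Nat.card_eq_fintype_card]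
    have h2 := congrArg (fun X => toM X j l) hc
    simp only [map_sum, map_mul, Matrix.sum_apply, map_smul, map_one, Matrix.smul_apply,
      smul_eq_mul] at h2
    have hterm : ∀ n : N,
        (toM (ρ n) * toM E * toM (ρ n⁻¹)) j l = toM (ρ n) j i * toM (ρ n⁻¹) k l := by
      intro n
      have : toM E = Matrix.single i k 1 := by
        show (LinearMap.toMatrixAlgEquiv' (R := ℂ) (n := Fin d)) E = _
        rw [hE, AlgEquiv.apply_symm_apply]
      rw [this, Matrix.mul_apply, Finset.sum_eq_single k]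
      · rw [Matrix.mul_single_apply_same, mul_one]
      · intro b _ hb
        rw [Matrix.mul_single_apply_of_ne _ _ _ _ _ hb, zero_mul]
      · simp
    simp only [hterm] at h2
    rw [h2, Matrix.one_apply]
    by_cases h : i = k
    · rw [if_pos h, mul_one] at hsum
      by_cases h' : j = l
      · rw [if_pos h', if_pos ⟨h, h'⟩, mul_one, ← hsum, mul_div_cancel_right₀ _ hd]
      · rw [if_neg h', if_neg (show ¬ (i = k ∧ j = l) from fun hh => h' hh.2), mul_zero]
    · rw [if_neg h, mul_zero] at hsum
      rw [if_neg (show ¬ (i = k ∧ j = l) from fun hh => h hh.1), (mul_eq_zero.1 hsum).resolve_right hd, zero_mul]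
  have hA : ∀ X Y : Module.End ℂ (Fin d → ℂ), LinearMap.trace ℂ (Fin d → ℂ) (X * Y) =
      ∑ q : Fin d × Fin d, toM X q.1 q.2 * toM Y q.2 q.1 := by
    intro X Y
    rw [htr, map_mul, Fintype.sum_prod_type]
    simp [Matrix.trace, Matrix.mul_apply]
  simp only [hA]
  calc ∑ n : N, (∑ q : Fin d × Fin d, toM A q.1 q.2 * toM (ρ n) q.2 q.1) *
        ∑ r : Fin d × Fin d, toM (ρ n⁻¹) r.1 r.2 * toM B r.2 r.1
      = ∑ q : Fin d × Fin d, ∑ r : Fin d × Fin d, toM A q.1 q.2 * toM B r.2 r.1 *
          ∑ n : N, toM (ρ n) q.2 q.1 * toM (ρ n⁻¹) r.1 r.2 := by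
        simp only [Finset.sum_mul_sum]
        rw [Finset.sum_comm]
        refine Finset.sum_congr rfl fun q _ => ?_
        rw [Finset.sum_comm]
        refine Finset.sum_congr rfl fun r _ => ?_
        rw [Finset.mul_sum]
        exact Finset.sum_congr rfl fun n _ => by ring
    _ = ∑ q : Fin d × Fin d, (Nat.card N : ℂ) / d * (toM A q.1 q.2 * toM B q.2 q.1) := by
        refine Finset.sum_congr rfl fun q _ => ?_
        rw [Finset.sum_eq_single q]
        · rw [hentry, if_pos ⟨rfl, rfl⟩]; ring
        · intro r _ hr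
          rw [hentry, if_neg (show ¬ (q.1 = r.1 ∧ q.2 = r.2) from
            fun hh => hr (Prod.ext hh.1 hh.2).symm), mul_zero]
        · simp
    _ = _ := by rw [Finset.mul_sum]

end Schur

variable {G : Type u} [Group G] [Finite G] (N : Subgroup G) [hN : N.Normal] {d : ℕ}
  (ρ : Representation ℂ N (Fin d → ℂ)) [hρ : ρ.IsIrreducible]

omit hρ in
/-- The character of the projective extension. -/
theorem rep_char_incl_mul (x : CharDeep.Cover.grp N ρ) (n : N) :
    (CharDeep.Cover.rep N ρ).character (x * CharDeep.Cover.incl N ρ n) =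
      LinearMap.trace ℂ (Fin d → ℂ) (CharDeep.Cover.rep N ρ x * ρ n) := by
  show LinearMap.trace ℂ (Fin d → ℂ) (CharDeep.Cover.rep N ρ _) = _
  rw [map_mul, CharDeep.Cover.rep_incl]

/-- The coset identity of the projective extension. -/
theorem coset_identity [Fintype N] (x y : CharDeep.Cover.grp N ρ) :
    ∑ n : N, (CharDeep.Cover.rep N ρ).character (x * CharDeep.Cover.incl N ρ n) *
        (CharDeep.Cover.rep N ρ).character ((CharDeep.Cover.incl N ρ n)⁻¹ * y) =
      (Nat.card N : ℂ) / d * (CharDeep.Cover.rep N ρ).character (x * y) := by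
  have h : ∀ n : N, (CharDeep.Cover.rep N ρ).character ((CharDeep.Cover.incl N ρ n)⁻¹ * y) =
      LinearMap.trace ℂ (Fin d → ℂ) (ρ n⁻¹ * CharDeep.Cover.rep N ρ y) := by
    intro n
    show LinearMap.trace ℂ (Fin d → ℂ) (CharDeep.Cover.rep N ρ _) = _
    rw [map_mul, ← map_inv, CharDeep.Cover.rep_incl]
  simp only [h, rep_char_incl_mul]
  rw [sum_trace_mul_trace]
  show _ = _ * LinearMap.trace ℂ (Fin d → ℂ) (CharDeep.Cover.rep N ρ _)
  rw [map_mul (CharDeep.Cover.rep N ρ)]

/-- The special case giving a constant. -/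
theorem coset_identity_inv [Fintype N] (x : CharDeep.Cover.grp N ρ) :
    ∑ n : N, (CharDeep.Cover.rep N ρ).character (x * CharDeep.Cover.incl N ρ n) *
        (CharDeep.Cover.rep N ρ).character ((CharDeep.Cover.incl N ρ n)⁻¹ * x⁻¹) =
      (Nat.card N : ℂ) := by
  rw [coset_identity, mul_inv_cancel, Representation.char_one, Module.finrank_fin_fun,
    div_mul_cancel₀]
  exact_mod_cast (CharDeep.Cover.pos_dim N ρ).ne'

/-- A character over `θ` of an intermediate subgroup factors in the cover. -/
theorem exists_factor [Fintype N]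
    (hinv : ∀ (g : G) (n : N), ρ.character ⟨g * n * g⁻¹, hN.conj_mem n n.2 g⟩ = ρ.character n)
    (H : Subgroup G) [Fintype H] (hNH : N ≤ H) (η : IrrCharacter H)
    (hη : classInner (fun n : N => (η : H → ℂ) ⟨(n : G), hNH n.2⟩) ρ.character ≠ 0) :
    ∃ (a : CharDeep.Cover.grp N ρ → ℂ) (e : ℕ), (∀ x, IsIntegral ℤ (a x)) ∧
      (∀ x n, a (x * CharDeep.Cover.incl N ρ n) = a x) ∧
      (∀ x n, a ((CharDeep.Cover.incl N ρ n)⁻¹ * x) = a x) ∧
      (∀ x, ∀ hx : CharDeep.Cover.proj N ρ x ∈ H, (η : H → ℂ) ⟨CharDeep.Cover.proj N ρ x, hx⟩ =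
        (CharDeep.Cover.rep N ρ).character x * a x) ∧
      (η : H → ℂ) 1 = (e : ℂ) * (d : ℂ) ∧ e ∣ N.relIndex H := by
  classical
  haveI := CharDeep.Cover.finite_grp N ρ
  set K : Subgroup (CharDeep.Cover.grp N ρ) := H.comap (CharDeep.Cover.proj N ρ) with hK
  haveI := Fintype.ofFinite K
  have hmemK : ∀ x, x ∈ K ↔ CharDeep.Cover.proj N ρ x ∈ H := fun x => Iff.rfl
  let ι : N →* K := (CharDeep.Cover.incl N ρ).codRestrict K fun n => hNH n.2
  have hιinj : Function.Injective ι := fun a b h =>
    CharDeep.Cover.incl_injective N ρ (congrArg Subtype.val h)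
  set M : Subgroup K := ι.range with hM
  haveI : M.Normal := ⟨by
    rintro _ ⟨n, rfl⟩ x
    exact ⟨_, Subtype.ext (CharDeep.Cover.conj_incl N ρ x n).symm⟩⟩
  haveI := Fintype.ofFinite M
  let eM : N ≃* M := MonoidHom.ofInjective hιinj
  let R : K → ℂ := fun x => (CharDeep.Cover.rep N ρ).character x
  have hRirr : Cfsg.IsIrrCharacter K R := by
    let σ : Representation ℂ K (Fin d → ℂ) := (CharDeep.Cover.rep N ρ).comp K.subtype
    have := CharDeep.Cover.nontrivial_space N ρ
    haveI : σ.IsIrreducible :=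
      CharKernel.isIrreducible_of_forall _ fun W hW =>
        CharKernel.eq_bot_or_eq_top ρ W fun n v hv => by
          rw [← CharDeep.Cover.rep_incl N ρ n]
          exact hW (ι n) v hv
    exact Char.isIrrCharacter_character σ
  have hRM : Cfsg.IsIrrCharacter M (fun m : M => R m) := by
    have h := CharTwist.isIrrCharacter_comp_equiv (Char.isIrrCharacter_character ρ) eM.symm
    convert h using 1
    funext m
    conv_lhs => rw [← eM.apply_symm_apply m]
    rfl
  let q : K →* H := ((CharDeep.Cover.proj N ρ).comp K.subtype).codRestrict H fun x => x.2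
  have hq : Function.Surjective q := by
    intro h
    obtain ⟨x, hx⟩ := CharDeep.Cover.proj_surjective N ρ hinv (h : G)
    exact ⟨⟨x, (hmemK x).2 (hx.symm ▸ h.2)⟩, Subtype.ext hx⟩
  have hχ' : Cfsg.IsIrrCharacter K ((η : H → ℂ) ∘ q) := CharTwist.isIrrCharacter_comp η.2 q hq
  obtain ⟨-, -, h3⟩ := CharDeep.Gal.quotient_bijection M hRirr hRM
  obtain ⟨β, hβ, hb⟩ := h3 _ hχ' (by
    rw [← CfsgLib.Clifford.classInner_comp_equiv eM]
    exact hη)
  obtain ⟨m, σ, -, hσc⟩ := id hβ
  let a : CharDeep.Cover.grp N ρ → ℂ := fun x =>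
    if hx : x ∈ K then β (QuotientGroup.mk' M ⟨x, hx⟩) else 0
  have hmem : ∀ x n, x * CharDeep.Cover.incl N ρ n ∈ K ↔ x ∈ K := fun x n =>
    ⟨fun h => by simpa using mul_mem h (inv_mem (show CharDeep.Cover.incl N ρ n ∈ K from hNH n.2)),
      fun h => mul_mem h (hNH n.2)⟩
  have hright : ∀ x n, a (x * CharDeep.Cover.incl N ρ n) = a x := by
    intro x n
    by_cases hx : x ∈ K
    · simp only [a, dif_pos hx, dif_pos ((hmem x n).2 hx)]
      congr 1
      refine QuotientGroup.eq.2 ⟨n⁻¹, Subtype.ext ?_⟩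
      show CharDeep.Cover.incl N ρ n⁻¹ = _
      simp
    · simp only [a, dif_neg hx, dif_neg (fun h => hx ((hmem x n).1 h))]
  have hleft : ∀ x n, a ((CharDeep.Cover.incl N ρ n)⁻¹ * x) = a x := by
    intro x n
    have h := CharDeep.Cover.conj_incl N ρ x⁻¹ n⁻¹
    rw [inv_inv] at h
    have h2 : (CharDeep.Cover.incl N ρ n)⁻¹ * x =
        x * (x⁻¹ * CharDeep.Cover.incl N ρ n⁻¹ * x) := by
      rw [map_inv]; group
    rw [h2, h, hright]
  refine ⟨a, m, fun x => ?_, hright, hleft, fun x hx => ?_, ?_, ?_⟩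
  · simp only [a]
    split_ifs with hx
    · rw [← hσc]; exact Char.isIntegral_character σ _
    · exact isIntegral_zero
  · have h := congrFun hb ⟨x, (hmemK x).2 hx⟩
    simp only [Pi.mul_apply, Function.comp_apply] at h
    simp only [a, dif_pos ((hmemK x).2 hx)]
    rw [mul_comm, show (CharDeep.Cover.rep N ρ).character x = R ⟨x, (hmemK x).2 hx⟩ from rfl, h]
    rfl
  · have h := congrFun hb 1
    simp only [Pi.mul_apply, Function.comp_apply, map_one] at h
    rw [← h, ← hσc, Representation.char_one, Module.finrank_fin_fun]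
    show (m : ℂ) * (CharDeep.Cover.rep N ρ).character (1 : CharDeep.Cover.grp N ρ) = _
    rw [Representation.char_one, Module.finrank_fin_fun]
  · -- the ratio of degrees divides the index
    let e : N.subgroupOf H ≃* N := Subgroup.subgroupOfEquivOfLe hNH
    haveI := Fintype.ofFinite (N.subgroupOf H)
    have hθ' : Cfsg.IsIrrCharacter (N.subgroupOf H) (ρ.character ∘ e) :=
      CharTwist.isIrrCharacter_comp_equiv (Char.isIrrCharacter_character ρ) e
    obtain ⟨b, d', hd', hb', hbdvd⟩ := CharDeep.Extend.degree_dvd (N.subgroupOf H)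
      (ρ.character ∘ e) hθ'
      (fun h n => by
        have := hinv (h : G) (e n)
        exact this)
      (η : H → ℂ) η.2 (by
        rw [← CfsgLib.Clifford.classInner_comp_equiv e.symm]
        convert hη using 2
        all_goals funext n
        all_goals first
          | rfl
          | exact congrArg ρ.character (e.apply_symm_apply n))
    have hd : d' = d := by
      have h : (d' : ℂ) = (d : ℂ) := by
        rw [← hd']
        simp [Representation.char_one, Module.finrank_fin_fun]
      exact_mod_cast h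
    subst hd
    have hm : m = b := by
      have h1 := congrFun hb 1
      simp only [Pi.mul_apply, Function.comp_apply, map_one] at h1
      rw [hb', ← hσc, Representation.char_one, Module.finrank_fin_fun,
        show R (1 : K) = (d' : ℂ) by
          show (CharDeep.Cover.rep N ρ).character (1 : CharDeep.Cover.grp N ρ) = _
          rw [Representation.char_one, Module.finrank_fin_fun]] at h1
      have h2 : m * d' = b * d' := by exact_mod_cast h1
      exact Nat.eq_of_mul_eq_mul_right (CharDeep.Cover.pos_dim N ρ) h2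
    rw [hm]
    exact hbdvd

end CfsgLib.Glauberman
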