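import Cfsg.Agent.Lib.Glauberman.CyclicSetting
import Cfsg.Agent.Lib.Glauberman.Solvable
import Cfsg.Agent.Lib.Char.Equiv
import Cfsg.Agent.S0867

/-!
# The correspondence for a cyclic group of operators, by values of canonical extensions
-/

set_option autoImplicit false

namespace CfsgLib.Glauberman

open Cfsg
open scoped ComplexConjugate

universe u

variable {Γ : Type u} [Group Γ]

/-- `χh` is an extension of `χ` with determinantal order prime to the order of `S`. -/
def IsCanonExt (G S : Subgroup Γ) (χ : IrrCharacter G) (χh : IrrCharacter Γ) : Prop :=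
  (∀ g : G, (χh : Γ → ℂ) g = (χ : G → ℂ) g) ∧
    (detOrder (χh : Γ → ℂ)).Coprime (Nat.card S)

namespace CyclicSetting

variable {G S C : Subgroup Γ} (D : CyclicSetting G S C) [Fintype Γ] [Fintype G]

/-- The projection onto `S`. -/
noncomputable def toS : Γ →* S :=
  haveI := D.normal
  D.isComplement.QuotientMulEquiv.toMonoidHom.comp (QuotientGroup.mk' G)

omit [Fintype G] in
theorem toS_mul (g : G) (t : S) : D.toS ((g : Γ) * t) = t := by
  haveI := D.normal
  have h1 : QuotientGroup.mk' G ((g : Γ) * t) = QuotientGroup.mk' G (t : Γ) := by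
    rw [map_mul, show QuotientGroup.mk' G (g : Γ) = 1 from
      (QuotientGroup.eq_one_iff (g : Γ)).2 g.2, one_mul]
  show D.isComplement.QuotientMulEquiv (QuotientGroup.mk' G ((g : Γ) * t)) = t
  rw [h1, ← MulEquiv.eq_symm_apply]
  rfl

omit [Fintype G] in
include D in
theorem bijective_mul : Function.Bijective fun x : G × S => (x.1 : Γ) * x.2 :=
  D.isComplement.symm

include D in
theorem coset_orth (χ χ' : IrrCharacter G) (χh χh' : IrrCharacter Γ)
    (hext : ∀ g : G, (χh : Γ → ℂ) g = (χ : G → ℂ) g)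
    (hext' : ∀ g : G, (χh' : Γ → ℂ) g = (χ' : G → ℂ) g) (s₀ : S) :
    (χ ≠ χ' → ∑ g : G, (χh : Γ → ℂ) (g * s₀) * conj ((χh' : Γ → ℂ) (g * s₀)) = 0) ∧
    (χh = χh' → ∑ g : G, (χh : Γ → ℂ) (g * s₀) * conj ((χh' : Γ → ℂ) (g * s₀)) = Nat.card G) := by
  classical
  haveI := Fintype.ofFinite S
  set h : Γ → ℂ := fun x => (χh : Γ → ℂ) x * conj ((χh' : Γ → ℂ) x) with hh
  set A : S → ℂ := fun t => ∑ g : G, h (g * t) with hA
  have hcommS : ∀ a b : S, a * b = b * a := fun a b => Subtype.ext (D.comm_S a.2 b.2)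
  have hAc : Cfsg.IsClassFunction S A := fun a b => by
    rw [hcommS b a, mul_inv_cancel_right]
  have hexp := CfsgLib.Char.IsClassFunction.eq_sum_classInner hAc
  -- the linear characters of `S` inflated to `Γ`
  let L : IrrCharacter S → Γ → ℂ := fun μ x =>
    (χh' : Γ → ℂ) x * (μ : S → ℂ) (D.toS x)
  have hLnorm : ∀ (μ : IrrCharacter S) (t : S),
      (μ : S → ℂ) t * conj ((μ : S → ℂ) t) = 1 := by
    intro μ t
    obtain ⟨h1, hm, hc⟩ := CfsgLib.CharOver.abelian_irr hcommS μ.2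
    rw [(hc t).1, ← hm, mul_inv_cancel, h1]
  have hLirr : ∀ μ : IrrCharacter S, IsIrrCharacter Γ (L μ) := by
    intro μ
    refine CfsgLib.Char.IsCharacter.isIrrCharacter_of_classInner_self
      (CfsgLib.Char.IsCharacter.mul (CfsgLib.Char.IsIrrCharacter.isCharacter χh'.2)
        (CfsgLib.Char.IsCharacter.comp (CfsgLib.Char.IsIrrCharacter.isCharacter μ.2) D.toS)) ?_
    rw [← CfsgLib.Char.classInner_irr_self χh'.2, classInner, classInner]
    refine congrArg _ (Finset.sum_congr rfl fun x _ => ?_)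
    simp only [L, map_mul]
    linear_combination (χh' : Γ → ℂ) x * conj ((χh' : Γ → ℂ) x) * hLnorm μ (D.toS x)
  have hcoef : ∀ μ : IrrCharacter S,
      classInner A (μ : S → ℂ) = (Nat.card G : ℂ) * classInner (χh : Γ → ℂ) (L μ) := by
    intro μ
    have hsum : ∑ x : Γ, (χh : Γ → ℂ) x * conj (L μ x) = ∑ t : S, A t * conj ((μ : S → ℂ) t) := by
      rw [← (Equiv.ofBijective _ D.bijective_mul).sum_comp, Fintype.sum_prod_type, Finset.sum_comm]
      refine Finset.sum_congr rfl fun t _ => ?_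
      rw [hA, Finset.sum_mul]
      refine Finset.sum_congr rfl fun g _ => ?_
      simp only [Equiv.ofBijective_apply, L, h, D.toS_mul, map_mul]
      ring
    simp only [classInner, hsum, D.card_eq]
    push_cast
    have hS0 : (Nat.card S : ℂ) ≠ 0 := by exact_mod_cast Nat.card_pos.ne'
    have hG0 : (Nat.card G : ℂ) ≠ 0 := by exact_mod_cast Nat.card_pos.ne'
    field_simp
  constructor
  · intro hne
    have : A = 0 := by
      rw [hexp]
      refine Finset.sum_eq_zero fun μ _ => ?_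
      rw [hcoef, CfsgLib.Char.classInner_irr_of_ne χh.2 (hLirr μ), mul_zero, zero_smul]
      intro heq
      apply hne
      refine Subtype.ext (funext fun g => ?_)
      have h1 := congrFun heq g
      have h2 : D.toS (g : Γ) = 1 := by simpa using D.toS_mul g 1
      simp only [L, h2, (CfsgLib.CharOver.abelian_irr hcommS μ.2).1, mul_one] at h1
      rw [← hext, ← hext', h1]
    exact congrFun this s₀
  · intro heq
    have hδ : ∀ μ : IrrCharacter S,
        classInner (χh : Γ → ℂ) (L μ) = if (χh : Γ → ℂ) = L μ then 1 else 0 := by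
      intro μ
      split_ifs with e
      · rw [← e]; exact CfsgLib.Char.classInner_irr_self χh.2
      · exact CfsgLib.Char.classInner_irr_of_ne χh.2 (hLirr μ) e
    have hA1 : A 1 = Nat.card G := by
      have h0 := CfsgLib.Char.classInner_irr_self χ.2
      rw [classInner] at h0
      have : A 1 = ∑ g : G, (χ : G → ℂ) g * conj ((χ : G → ℂ) g) := by
        subst heq
        simp only [hA, h, OneMemClass.coe_one, mul_one, hext]
      rw [this, ← mul_one (Nat.card G : ℂ), ← h0, mul_inv_cancel_left₀]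
      exact_mod_cast Nat.card_pos.ne'
    have hone : (χh : Γ → ℂ) = L CfsgLib.Char.principalIrr := by
      subst heq
      funext x
      simp [L]
    have hcount : (Finset.univ.filter (fun μ => (χh : Γ → ℂ) = L μ)).card = 1 := by
      have h0 := congrFun hexp 1
      rw [hA1, Finset.sum_apply] at h0
      simp only [Pi.smul_apply, smul_eq_mul, hcoef, hδ,
        fun μ : IrrCharacter S => (CfsgLib.CharOver.abelian_irr hcommS μ.2).1, mul_one] at h0
      rw [← Finset.mul_sum, Finset.sum_boole] at h0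
      have hG0 : (Nat.card G : ℂ) ≠ 0 := by exact_mod_cast Nat.card_pos.ne'
      exact_mod_cast (mul_eq_left₀ hG0).1 h0.symm
    obtain ⟨μ₀, hμ₀⟩ := Finset.card_eq_one.1 hcount
    have hiff : ∀ μ : IrrCharacter S,
        (χh : Γ → ℂ) = L μ ↔ μ = CfsgLib.Char.principalIrr := by
      have hp : CfsgLib.Char.principalIrr ∈
          Finset.univ.filter (fun μ => (χh : Γ → ℂ) = L μ) :=
        Finset.mem_filter.2 ⟨Finset.mem_univ _, hone⟩
      rw [hμ₀, Finset.mem_singleton] at hp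
      intro μ
      refine ⟨fun e => ?_, fun e => e ▸ hone⟩
      have : μ ∈ Finset.univ.filter (fun μ => (χh : Γ → ℂ) = L μ) :=
        Finset.mem_filter.2 ⟨Finset.mem_univ μ, e⟩
      rw [hμ₀, Finset.mem_singleton] at this
      rw [this, hp]
    show A s₀ = _
    rw [hexp, Finset.sum_apply, Finset.sum_eq_single CfsgLib.Char.principalIrr]
    · rw [Pi.smul_apply, hcoef, hδ, if_pos hone]
      simp
    · intro μ _ hμ
      rw [Pi.smul_apply, hcoef, hδ, if_neg (fun e => hμ ((hiff μ).1 e))]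
      simp
    · simp

include D in
/-- The canonical extension is fixed by Galois conjugations fixing the `|G|`-th roots of unity. -/
theorem galois_invariant {χ : IrrCharacter G} {χh : IrrCharacter Γ} (hcan : IsCanonExt G S χ χh)
    {k : ℕ} (hk : k.Coprime (Nat.card Γ)) (hk1 : k ≡ 1 [MOD Nat.card G]) (x : Γ) :
    (χh : Γ → ℂ) (x ^ k) = (χh : Γ → ℂ) x := by
  classical
  haveI := D.normal
  obtain ⟨hext, hdet⟩ := hcan
  have hres : IsIrrCharacter G (fun g : G => (χh : Γ → ℂ) g) := by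
    rw [show (fun g : G => (χh : Γ → ℂ) g) = (χ : G → ℂ) from funext hext]; exact χ.2
  have hpow : ∀ g : G, (g : Γ) ^ k = g := fun g => by
    rw [pow_eq_pow_of_modEq (orderOf_dvd_of_mem g.2) hk1, pow_one]
  obtain ⟨l, hlG, hl⟩ := CfsgLib.CharDeep.Gal.exists_linear_of_res_eq G χh.2
    (CfsgLib.CharGalois.powIrr hk χh).2 hres
    (fun g => by rw [CfsgLib.CharGalois.powIrr_apply, hpow g])
  obtain ⟨d, ρ, hρ, hρc⟩ := id χh.2
  let δ : Γ →* ℂˣ := MonoidHom.toHomUnits ((LinearMap.det).comp ρ)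
  have hdc : Cfsg.detChar (χh : Γ → ℂ) = fun y => (δ y : ℂ) := by
    rw [← hρc, CfsgLib.CharDeep.Cover.detChar_eq]; rfl
  unfold Cfsg.detOrder at hdet
  rw [hdc, CfsgLib.CharDeep.Lin.orderOf_coe] at hdet
  have hδS : ∀ t ∈ S, LinearMap.det (ρ t) = 1 := by
    intro t ht
    have h1 : δ t ^ orderOf δ = 1 := by
      rw [← MonoidHom.pow_apply, pow_orderOf_eq_one]; rfl
    have h2 : δ t ^ Nat.card S = 1 := by
      rw [← map_pow, orderOf_dvd_iff_pow_eq_one.1 (orderOf_dvd_of_mem ht), map_one]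
    have h3 : δ t = 1 := by
      have := pow_gcd_eq_one.2 ⟨h1, h2⟩
      rwa [hdet.gcd_eq_one, pow_one] at this
    exact congrArg Units.val h3
  have hdG : d ∣ Nat.card G := by
    have h1 : Cfsg.charDegree (χ : G → ℂ) = d := by
      have h2 : (χ : G → ℂ) 1 = d := by
        rw [← hext 1, OneMemClass.coe_one, ← hρc, Representation.char_one,
          Module.finrank_fin_fun]
      simp [Cfsg.charDegree, h2]
    exact h1 ▸ CfsgLib.BlockReg.deg_dvd_card χ
  let σ₁ : Representation ℂ S (Fin d → ℂ) :=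
    { toFun := fun t => ρ ((t : Γ) ^ k)
      map_one' := by simp
      map_mul' := fun a b => by
        rw [Subgroup.coe_mul, (D.comm_S a.2 b.2).mul_pow, map_mul] }
  let σ₂ : Representation ℂ S (Fin d → ℂ) :=
    { toFun := fun t => (l (t : Γ) : ℂ) • ρ (t : Γ)
      map_one' := by simp
      map_mul' := fun a b => by rw [Subgroup.coe_mul, map_mul, map_mul, Units.val_mul, smul_mul_smul_comm] }
  have hchar : σ₂.character = σ₁.character := by
    funext t
    have h1 := congrFun hl (t : Γ)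
    rw [CfsgLib.CharGalois.powIrr_apply] at h1
    rw [← hρc] at h1
    simp only [Representation.character, σ₁, σ₂, MonoidHom.coe_mk, OneHom.coe_mk] at h1 ⊢
    rw [map_smul, smul_eq_mul, h1]
  obtain ⟨e⟩ := CfsgLib.Char.nonempty_equiv_of_character_eq σ₂ σ₁ hchar
  have hlS : ∀ t ∈ S, l t = 1 := by
    intro t ht
    have h1 : LinearMap.det (σ₂ ⟨t, ht⟩) = LinearMap.det (σ₁ ⟨t, ht⟩) := by
      rw [← LinearMap.det_conj (σ₂ ⟨t, ht⟩) e.toLinearEquiv]
      congr 1
      refine LinearMap.ext fun v => ?_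
      have h2 := LinearMap.congr_fun (e.toIntertwiningMap.isIntertwining' ⟨t, ht⟩)
        (e.toLinearEquiv.symm v)
      simp only [LinearMap.coe_comp, Function.comp_apply, LinearEquiv.coe_coe] at h2 ⊢
      rw [show σ₁ ⟨t, ht⟩ v = σ₁ ⟨t, ht⟩ (e.toLinearEquiv (e.toLinearEquiv.symm v)) by rw [LinearEquiv.apply_symm_apply]]
      exact h2
    simp only [σ₁, σ₂, MonoidHom.coe_mk, OneHom.coe_mk, LinearMap.det_smul,
      Module.finrank_fin_fun, hδS t ht, hδS (t ^ k) (pow_mem ht k), mul_one] at h1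
    have h3 : l t ^ d = 1 := Units.ext (by simpa using h1)
    have h4 : l t ^ Nat.card S = 1 := by
      rw [← map_pow, orderOf_dvd_iff_pow_eq_one.1 (orderOf_dvd_of_mem ht), map_one]
    have := pow_gcd_eq_one.2 ⟨h3, h4⟩
    rwa [(D.cop.coprime_dvd_left hdG).gcd_eq_one, pow_one] at this
  obtain ⟨⟨g, t⟩, hx⟩ := D.bijective_mul.2 x
  have hlx : l x = 1 := by
    rw [← hx, map_mul, hlG, hlS t t.2, mul_one]
  have := congrFun hl x
  rwa [CfsgLib.CharGalois.powIrr_apply, hlx, Units.val_one, one_mul] at this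

include D in
theorem exists_canonExt {χ : IrrCharacter G}
    (hinv : Inv (conjHom G S D.norm) (χ : G → ℂ)) : ∃ χh, IsCanonExt G S χ χh := by
  classical
  haveI := D.normal
  have hinv' : ∀ (x : Γ) (g : G),
      (χ : G → ℂ) ⟨x * g * x⁻¹, D.normal.conj_mem (g : Γ) g.2 x⟩ = (χ : G → ℂ) g := by
    intro x g
    obtain ⟨⟨a, t⟩, hx⟩ := D.bijective_mul.2 x
    have : (⟨x * g * x⁻¹, D.normal.conj_mem (g : Γ) g.2 x⟩ : G) =
        a * conjHom G S D.norm t g * a⁻¹ := by
      refine Subtype.ext ?_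
      simp only [Subgroup.coe_mul, Subgroup.coe_inv, conjHom_apply, ← hx]
      group
    rw [this, CfsgLib.Char.IsIrrCharacter.isClassFunction χ.2, hinv t g]
  have hd := CfsgLib.BlockReg.deg_dvd_card χ
  have ho : detOrder (χ : G → ℂ) ∣ Nat.card G := by
    obtain ⟨d, ρ, hρ, hρc⟩ := id χ.2
    let δ : G →* ℂˣ := MonoidHom.toHomUnits ((LinearMap.det).comp ρ)
    have hdc : Cfsg.detChar (χ : G → ℂ) = fun y => (δ y : ℂ) := by
      rw [← hρc, CfsgLib.CharDeep.Cover.detChar_eq]; rfl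
    rw [detOrder, hdc, CfsgLib.CharDeep.Lin.orderOf_coe]
    refine orderOf_dvd_of_pow_eq_one (MonoidHom.ext fun y => ?_)
    rw [MonoidHom.pow_apply, ← map_pow, pow_card_eq_one', map_one]
    rfl
  obtain ⟨η, ⟨hη, hηG, hηo⟩, -⟩ := Cfsg.Agent.S0867.result G (χ : G → ℂ) χ.2 hinv'
    (charDegree (χ : G → ℂ)) (CfsgLib.BlockReg.deg_cast χ).symm (by
      rw [D.index_eq]
      exact Nat.Coprime.mul_right (D.cop.symm.coprime_dvd_right ho)
        (D.cop.symm.coprime_dvd_right hd))
  refine ⟨⟨η, hη⟩, hηG, ?_⟩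
  show (detOrder η).Coprime _
  rw [hηo]
  exact D.cop.coprime_dvd_left ho

include D in
omit [Fintype G] in
theorem exists_generator : ∃ s : Γ, Subgroup.zpowers s = S := by
  obtain ⟨s, hs⟩ := (Subgroup.isCyclic_iff_exists_zpowers_eq_top S).1 D.cyc
  exact ⟨s, hs⟩

include D in
omit [Fintype G] in
theorem exists_pow_of_generators {s s' : Γ} (hs : Subgroup.zpowers s = S)
    (hs' : Subgroup.zpowers s' = S) : ∃ j : ℕ, j.Coprime (Nat.card S) ∧ s ^ j = s' := by
  have hmem : s' ∈ Subgroup.zpowers s := by rw [hs, ← hs']; exact Subgroup.mem_zpowers s'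
  obtain ⟨j, rfl⟩ := (Submonoid.mem_powers_iff _ _).1
    ((isOfFinOrder_of_finite s).mem_powers_iff_mem_zpowers.2 hmem)
  refine ⟨j, ?_, rfl⟩
  have h1 : orderOf (s ^ j) = Nat.card S := by rw [← hs', Nat.card_zpowers]
  have h2 : orderOf s = Nat.card S := by rw [← hs, Nat.card_zpowers]
  rw [orderOf_pow, h2] at h1
  have h3 : Nat.card S * (Nat.card S).gcd j = Nat.card S := by
    conv_lhs => arg 1; rw [← h1]
    exact Nat.div_mul_cancel (Nat.gcd_dvd_left _ _)
  exact (Nat.coprime_comm.1 ((Nat.mul_eq_left Nat.card_pos.ne').1 h3))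

include D in
/-- Values at `c s` do not depend on the generator `s`. -/
theorem value_gen {χ : IrrCharacter G} {χh : IrrCharacter Γ} (hcan : IsCanonExt G S χ χh)
    {s : Γ} (hs : s ∈ S) {j : ℕ} (hj : j.Coprime (Nat.card S)) {c : Γ} (hc : c ∈ C) :
    (χh : Γ → ℂ) (c * s ^ j) = (χh : Γ → ℂ) (c * s) := by
  obtain ⟨k, hk1, hk2⟩ := Nat.chineseRemainder D.cop 1 j
  have hkΓ : k.Coprime (Nat.card Γ) := by
    rw [D.card_eq]
    refine Nat.Coprime.mul_right ?_ ?_
    · unfold Nat.Coprime; rw [hk2.gcd_eq]; exact hj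
    · unfold Nat.Coprime; rw [hk1.gcd_eq]; exact Nat.gcd_one_left _
  rw [← D.galois_invariant hcan hkΓ hk1 (c * s), (D.comm hc hs).mul_pow,
    pow_eq_pow_of_modEq (orderOf_dvd_of_mem (D.le_fixed hc)) hk1, pow_one,
    pow_eq_pow_of_modEq (orderOf_dvd_of_mem hs) hk2]

/-- The sign relation between a canonical extension and a character of the fixed points. -/
def SignRel (S : Subgroup Γ) (χh : IrrCharacter Γ) (β : IrrCharacter C) (ε : ℤ) : Prop :=
  (ε = 1 ∨ ε = -1) ∧
    ∀ c : C, ∀ s : Γ, Subgroup.zpowers s = S →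
      (χh : Γ → ℂ) ((c : Γ) * s) = (ε : ℂ) * (β : C → ℂ) c

variable [Fintype C]

include D in
theorem inner_coset (χ χ' : IrrCharacter G) (χh χh' : IrrCharacter Γ)
    (hext : ∀ g : G, (χh : Γ → ℂ) g = (χ : G → ℂ) g)
    (hext' : ∀ g : G, (χh' : Γ → ℂ) g = (χ' : G → ℂ) g) {s : Γ}
    (hs : s ∈ S ∧ ∀ h ∈ G, Commute h s → h ∈ C) :
    (χ ≠ χ' →
      classInner (fun c : C => (χh : Γ → ℂ) (c * s)) (fun c : C => (χh' : Γ → ℂ) (c * s)) = 0) ∧
    (χh = χh' →
      classInner (fun c : C => (χh : Γ → ℂ) (c * s)) (fun c : C => (χh' : Γ → ℂ) (c * s)) = 1) := by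
  have hsS : s ∈ S := hs.1
  have h := D.coset_sum hs (F := fun x => (χh : Γ → ℂ) x * conj ((χh' : Γ → ℂ) x)) fun x y => by
    rw [CfsgLib.Char.IsIrrCharacter.isClassFunction χh.2,
      CfsgLib.Char.IsIrrCharacter.isClassFunction χh'.2]
  obtain ⟨h0, h1⟩ := D.coset_orth χ χ' χh χh' hext hext' ⟨s, hsS⟩
  have hC0 : (Nat.card C : ℂ) ≠ 0 := by exact_mod_cast Nat.card_pos.ne'
  have hG0 : (Nat.card G : ℂ) ≠ 0 := by exact_mod_cast Nat.card_pos.ne'
  constructor
  · intro hne
    rw [h0 hne, mul_zero] at h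
    rw [classInner, (mul_eq_zero.1 h.symm).resolve_left hG0, mul_zero]
  · intro heq
    rw [h1 heq, mul_comm] at h
    rw [classInner, ← mul_left_cancel₀ hG0 h, inv_mul_cancel₀ hC0]

include D in
/-- The value function on `C s`, for `s` with fixed points `C`, is a signed irreducible
character occurring in the restriction. -/
theorem exists_sign_at {χ : IrrCharacter G} {χh : IrrCharacter Γ} (hcan : IsCanonExt G S χ χh)
    {s : Γ} (hs : s ∈ S ∧ ∀ h ∈ G, Commute h s → h ∈ C) :
    ∃ (β : IrrCharacter C) (ε : ℤ), (ε = 1 ∨ ε = -1) ∧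
      (∀ c : C, (χh : Γ → ℂ) ((c : Γ) * s) = (ε : ℂ) * (β : C → ℂ) c) ∧
      classInner (fun c : C => (χ : G → ℂ) ⟨c, D.le_fixed c.2⟩) (β : C → ℂ) ≠ 0 := by
  classical
  have hsS : s ∈ S := hs.1
  let hom : C × S →* Γ := C.subtype.noncommCoprod S.subtype fun c t => D.comm c.2 t.2
  have hcomm : ∀ a b : S, a * b = b * a := fun a b => Subtype.ext (D.comm_S a.2 b.2)
  let A : IrrCharacter C → S → ℂ := fun β x =>
    classInner (fun c : C => (χh : Γ → ℂ) (c * x)) (β : C → ℂ)
  have hA : ∀ β, Cfsg.IsCharacter S (A β) := fun β =>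
    isCharacter_slice hcomm (ψ := fun y => (χh : Γ → ℂ) (hom y))
      (CfsgLib.Char.IsCharacter.comp (CfsgLib.Char.IsIrrCharacter.isCharacter χh.2) hom) β
  have hint : ∀ β, ∃ z : ℤ, A β ⟨s, hsS⟩ = (z : ℂ) := by
    intro β
    have hrat : ∃ q : ℚ, A β ⟨s, hsS⟩ = (q : ℂ) := by
      refine (CfsgLib.CharPower.exists_rat_iff (hA β) ⟨s, hsS⟩ Nat.card_pos
        pow_card_eq_one').2 fun m hm => ?_
      simp only [A, SubgroupClass.coe_pow]
      congr 1
      funext c
      exact D.value_gen hcan hsS hm c.2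
    obtain ⟨q, hq⟩ := hrat
    obtain ⟨n, ρ, hρ⟩ := hA β
    have hi : IsIntegral ℤ ((q : ℂ)) := by
      rw [← hq, ← hρ]; exact CfsgLib.Char.isIntegral_character ρ _
    obtain ⟨z, hz⟩ := CfsgLib.Char.exists_int_of_isIntegral_ratCast hi
    exact ⟨z, by rw [hq, ← hz]; norm_num⟩
  choose z hz using hint
  set f : C → ℂ := fun c => (χh : Γ → ℂ) (c * s) with hf
  have hfc : Cfsg.IsClassFunction C f := by
    intro a b
    have hb := D.comm b.2 hsS
    have h1 : ((b * a * b⁻¹ : C) : Γ) * s = (b : Γ) * ((a : Γ) * s) * (b : Γ)⁻¹ := by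
      simp only [Subgroup.coe_mul, Subgroup.coe_inv, mul_assoc, hb.inv_left.eq]
    simp only [f, h1]
    exact CfsgLib.Char.IsIrrCharacter.isClassFunction χh.2 _ _
  have hexp : f = ∑ β : IrrCharacter C, (z β : ℂ) • (β : C → ℂ) := by
    conv_lhs => rw [CfsgLib.Char.IsClassFunction.eq_sum_classInner hfc]
    refine Finset.sum_congr rfl fun β _ => ?_
    rw [← hz β]
  have hsq : ∑ β, z β * z β = 1 := by
    have h1 : classInner f f = 1 := (D.inner_coset χ χ χh χh hcan.1 hcan.1 hs).2 rfl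
    rw [hexp, CfsgLib.Char.classInner_sum_smul_sum_smul] at h1
    simp only [map_intCast] at h1
    exact_mod_cast h1
  obtain ⟨β, hβ⟩ : ∃ β, z β ≠ 0 := by
    by_contra hcon
    push Not at hcon
    simp [hcon] at hsq
  have hothers : ∀ γ, γ ≠ β → z γ = 0 := by
    intro γ hne
    have h1 : ∑ x ∈ ({β, γ} : Finset (IrrCharacter C)), z x * z x ≤ 1 :=
      hsq ▸ Finset.sum_le_univ_sum_of_nonneg (fun x => mul_self_nonneg _)
    rw [Finset.sum_pair (Ne.symm hne)] at h1
    have h2 : 0 < z β * z β := mul_self_pos.2 hβ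
    have h3 := mul_self_nonneg (z γ)
    exact mul_self_eq_zero.1 (by omega)
  have hε : z β = 1 ∨ z β = -1 := by
    have h1 : z β * z β = 1 := by
      rw [Finset.sum_eq_single β (fun γ _ h => by rw [hothers γ h, mul_zero]) (by simp)] at hsq
      exact hsq
    exact mul_self_eq_one_iff.1 h1
  have hfβ : ∀ c : C, f c = (z β : ℂ) * (β : C → ℂ) c := by
    intro c
    rw [hexp, Finset.sum_apply, Finset.sum_eq_single β
      (fun γ _ h => by simp [hothers γ h]) (by simp)]
    rfl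
  refine ⟨β, z β, hε, hfβ, ?_⟩
  intro h0
  have h1 : A β 1 = 0 := by
    rw [← h0]
    simp only [A, OneMemClass.coe_one, mul_one]
    congr 1
    funext c
    exact hcan.1 ⟨c, D.le_fixed c.2⟩
  obtain ⟨n, ρ, hρ⟩ := hA β
  have h2 : n = 0 := by
    have := congrFun hρ 1
    rw [h1, Representation.char_one, Module.finrank_fin_fun] at this
    exact_mod_cast this
  have h3 : A β ⟨s, hsS⟩ = 0 := by
    subst h2
    rw [← hρ, Representation.character,
      show ρ ⟨s, hsS⟩ = 0 from LinearMap.ext fun v => Subsingleton.elim _ _, map_zero]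
  rw [hz β] at h3
  exact hβ (by exact_mod_cast h3)

include D in
/-- The value function on `C s` is a signed irreducible character occurring in the restriction. -/
theorem exists_signRel {χ : IrrCharacter G} {χh : IrrCharacter Γ} (hcan : IsCanonExt G S χ χh) :
    ∃ (β : IrrCharacter C) (ε : ℤ), SignRel S χh β ε ∧
      classInner (fun c : C => (χ : G → ℂ) ⟨c, D.le_fixed c.2⟩) (β : C → ℂ) ≠ 0 := by
  obtain ⟨s, hs⟩ := D.exists_generator
  obtain ⟨β, ε, hε, hv, hne⟩ := D.exists_sign_at hcan (D.fix_of_gen hs)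
  refine ⟨β, ε, ⟨hε, fun c t ht => ?_⟩, hne⟩
  obtain ⟨j, hj, rfl⟩ := D.exists_pow_of_generators hs ht
  rw [D.value_gen hcan (D.fix_of_gen hs).1 hj c.2]
  exact hv c

include D in
theorem signRel_unique {χ : IrrCharacter G} {χh : IrrCharacter Γ} (hcan : IsCanonExt G S χ χh)
    {β β' : IrrCharacter C} {ε ε' : ℤ} (h : SignRel S χh β ε) (h' : SignRel S χh β' ε') :
    β = β' ∧ ε = ε' := by
  classical
  obtain ⟨s, hs⟩ := D.exists_generator
  have e1 : (fun c : C => (χh : Γ → ℂ) (c * s)) = (ε : ℂ) • (β : C → ℂ) :=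
    funext fun c => h.2 c s hs
  have e2 : (fun c : C => (χh : Γ → ℂ) (c * s)) = (ε' : ℂ) • (β' : C → ℂ) :=
    funext fun c => h'.2 c s hs
  have h1 := (D.inner_coset χ χ χh χh hcan.1 hcan.1 (D.fix_of_gen hs)).2 rfl
  conv_lhs at h1 => arg 1; rw [e1]
  conv_lhs at h1 => arg 2; rw [e2]
  rw [CfsgLib.Char.classInner_smul_left, CfsgLib.Char.classInner_smul_right,
    CfsgLib.Char.classInner_irrCharacter] at h1
  by_cases hb : β = β'
  · refine ⟨hb, ?_⟩
    rw [if_pos hb] at h1
    simp only [map_intCast, mul_one] at h1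
    have h2 : ε * ε' = 1 := by exact_mod_cast h1
    rcases h.1 with rfl | rfl <;> rcases h'.1 with rfl | rfl <;> omega
  · simp [hb] at h1

include D in
theorem signRel_injective {χ χ' : IrrCharacter G} {χh χh' : IrrCharacter Γ}
    (hcan : IsCanonExt G S χ χh) (hcan' : IsCanonExt G S χ' χh') {β : IrrCharacter C} {ε ε' : ℤ}
    (h : SignRel S χh β ε) (h' : SignRel S χh' β ε') : χ = χ' := by
  classical
  obtain ⟨s, hs⟩ := D.exists_generator
  by_contra hne
  have h1 := (D.inner_coset χ χ' χh χh' hcan.1 hcan'.1 (D.fix_of_gen hs)).1 hne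
  rw [show (fun c : C => (χh : Γ → ℂ) (c * s)) = (ε : ℂ) • (β : C → ℂ) from
      funext fun c => h.2 c s hs,
    show (fun c : C => (χh' : Γ → ℂ) (c * s)) = (ε' : ℂ) • (β : C → ℂ) from
      funext fun c => h'.2 c s hs,
    CfsgLib.Char.classInner_smul_left, CfsgLib.Char.classInner_smul_right,
    CfsgLib.Char.classInner_irrCharacter, if_pos rfl] at h1
  rcases h.1 with rfl | rfl <;> rcases h'.1 with rfl | rfl <;> simp at h1

include D in
theorem signRel_surjective (β : IrrCharacter C) :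
    ∃ (χ : IrrCharacter G) (χh : IrrCharacter Γ) (ε : ℤ),
      Inv (conjHom G S D.norm) (χ : G → ℂ) ∧ IsCanonExt G S χ χh ∧ SignRel S χh β ε := by
  classical
  have key : ∀ χ : {χ : IrrCharacter G // Inv (conjHom G S D.norm) (χ : G → ℂ)},
      ∃ (β : IrrCharacter C) (χh : IrrCharacter Γ) (ε : ℤ),
        IsCanonExt G S χ.1 χh ∧ SignRel S χh β ε := by
    intro χ
    obtain ⟨χh, hcan⟩ := D.exists_canonExt χ.2
    obtain ⟨β, ε, h, -⟩ := D.exists_signRel hcan
    exact ⟨β, χh, ε, hcan, h⟩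
  choose B χh ε hcan hrel using key
  have hinj : Function.Injective B := fun χ χ' he =>
    Subtype.ext (D.signRel_injective (hcan χ) (hcan χ') (hrel χ) (he ▸ hrel χ'))
  have hcard : Nat.card {χ : IrrCharacter G // Inv (conjHom G S D.norm) (χ : G → ℂ)} =
      Nat.card (IrrCharacter C) := by
    rw [card_inv_eq_fixed _ (conjHom G S D.norm) rfl D.isSolvable D.cop]
    exact Nat.card_congr (irrEquiv (fixedEquiv G S D.norm C D.eqC))
  obtain ⟨χ, hχ⟩ := ((Nat.bijective_iff_injective_and_card B).2 ⟨hinj, hcard⟩).2 β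
  exact ⟨χ.1, χh χ, ε χ, χ.2, hcan χ, hχ ▸ hrel χ⟩

end CyclicSetting

end CfsgLib.Glauberman
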