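import Cfsg.Agent.Lib.Char.GaloisConj
import Cfsg.Agent.Lib.Char.CentralOver
import Cfsg.Agent.Lib.Char.Virtual
import Mathlib.GroupTheory.Complement
import Mathlib.Data.Nat.ChineseRemainder
import Cfsg.Prelude.Def_Characters

/-!
# A cyclic group of operators of order prime to the group: setting and coset averaging
-/

set_option autoImplicit false

namespace CfsgLib.Glauberman

open Cfsg
open scoped ComplexConjugate

universe u v

variable {Γ : Type u} [Group Γ]

/-- A coprime cyclic group `S` of operators on `G`, inside `Γ = GS`, with fixed points `C`. -/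
structure CyclicSetting (G S C : Subgroup Γ) : Prop where
  norm : ∀ s ∈ S, ∀ g ∈ G, s * g * s⁻¹ ∈ G
  cop : (Nat.card G).Coprime (Nat.card S)
  top : G ⊔ S = ⊤
  cyc : IsCyclic S
  eqC : C = G ⊓ Subgroup.centralizer (S : Set Γ)

namespace CyclicSetting

variable {G S C : Subgroup Γ} (D : CyclicSetting G S C)

include D

theorem le_fixed : C ≤ G := by
  rw [D.eqC]; exact inf_le_left

theorem comm {c x : Γ} (hc : c ∈ C) (hx : x ∈ S) : Commute c x := by
  rw [D.eqC] at hc
  exact (Subgroup.mem_centralizer_iff.1 hc.2 x hx).symm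

theorem comm_S {x y : Γ} (hx : x ∈ S) (hy : y ∈ S) : Commute x y := by
  haveI := D.cyc
  letI := IsCyclic.commGroup (α := S)
  exact congrArg Subtype.val (mul_comm (⟨x, hx⟩ : S) ⟨y, hy⟩)

theorem isSolvable : Group.IsSolvable S := by
  haveI := D.cyc
  letI := IsCyclic.commGroup (α := S)
  infer_instance

theorem normal : G.Normal := by
  rw [← Subgroup.normalizer_eq_top_iff, eq_top_iff, ← D.top]
  refine sup_le Subgroup.le_normalizer fun s hs => ?_
  rw [Subgroup.mem_normalizer_iff]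
  intro g
  refine ⟨fun hg => D.norm s hs g hg, fun hg => ?_⟩
  have h := D.norm s⁻¹ (inv_mem hs) _ hg
  simpa [mul_assoc] using h

theorem isComplement [Finite Γ] : S.IsComplement' G := by
  haveI := D.normal
  refine Subgroup.isComplement'_of_disjoint_and_mul_eq_univ
    (Subgroup.disjoint_of_coprime_natCard D.cop.symm) ?_
  rw [← Subgroup.mul_normal, sup_comm, D.top, Subgroup.coe_top]

theorem index_eq [Finite Γ] : G.index = Nat.card S :=
  D.isComplement.index_eq_card

theorem card_eq [Finite Γ] : Nat.card Γ = Nat.card S * Nat.card G :=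
  D.isComplement.card_mul.symm

omit D in
theorem pow_eq_pow_of_modEq {H : Type v} [Group H] {x : H} {a b n : ℕ} (hn : orderOf x ∣ n)
    (h : a ≡ b [MOD n]) : x ^ a = x ^ b :=
  pow_eq_pow_iff_modEq.2 (h.of_dvd hn)

omit D in
theorem orderOf_dvd_of_mem {H : Subgroup Γ} {x : Γ} (hx : x ∈ H) : orderOf x ∣ Nat.card H := by
  have := orderOf_dvd_natCard (⟨x, hx⟩ : H)
  rwa [Subgroup.orderOf_mk] at this

/-- An exponent congruent to `0` on `G` and to `1` on `S`. -/
theorem exists_proj_exp : ∃ k : ℕ, (∀ g ∈ G, g ^ k = (1 : Γ)) ∧ ∀ s ∈ S, s ^ k = s := by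
  obtain ⟨k, h1, h2⟩ := Nat.chineseRemainder D.cop 0 1
  refine ⟨k, fun g hg => ?_, fun s hs => ?_⟩
  · rw [pow_eq_pow_of_modEq (orderOf_dvd_of_mem hg) h1, pow_zero]
  · rw [pow_eq_pow_of_modEq (orderOf_dvd_of_mem hs) h2, pow_one]

/-- A generator of `S` has fixed points `C`. -/
theorem fix_of_gen {s : Γ} (hs : Subgroup.zpowers s = S) :
    s ∈ S ∧ ∀ h ∈ G, Commute h s → h ∈ C := by
  refine ⟨hs ▸ Subgroup.mem_zpowers s, fun h hh hhs => ?_⟩
  rw [D.eqC, Subgroup.mem_inf, Subgroup.mem_centralizer_iff]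
  refine ⟨hh, fun x hx => ?_⟩
  rw [SetLike.mem_coe, ← hs, Subgroup.mem_zpowers_iff] at hx
  obtain ⟨j, rfl⟩ := hx
  exact ((hhs.zpow_right j).eq).symm

/-- Elements conjugating one coset representative `c s` into another centralise `S`. -/
theorem mem_of_conj_eq {s : Γ} (hs : s ∈ S ∧ ∀ h ∈ G, Commute h s → h ∈ C) {c c' h : Γ} (hc : c ∈ C)
    (hc' : c' ∈ C) (hh : h ∈ G) (he : h * (c * s) * h⁻¹ = c' * s) :
    h ∈ C ∧ h * c * h⁻¹ = c' := by
  obtain ⟨k, hk1, hk2⟩ := D.exists_proj_exp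
  have hsS : s ∈ S := hs.1
  have e : ∀ d ∈ C, (d * s) ^ k = s := fun d hd => by
    rw [(D.comm hd hsS).mul_pow, hk1 d (D.le_fixed hd), hk2 s hsS, one_mul]
  have h1 : h * s * h⁻¹ = s := by
    have := congrArg (· ^ k) he
    simp only [conj_pow, e c hc, e c' hc'] at this
    exact this
  have hhs : Commute h s := mul_inv_eq_iff_eq_mul.1 h1
  refine ⟨hs.2 h hh hhs, ?_⟩
  have h2 : h * (c * s) * h⁻¹ = h * c * h⁻¹ * (h * s * h⁻¹) := by group
  rw [h2, h1] at he
  exact mul_right_cancel he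

/-- Averaging a class function over a coset `G s` reduces to `C s`. -/
theorem coset_sum [Fintype Γ] [Fintype G] [Fintype C] {s : Γ}
    (hs : s ∈ S ∧ ∀ h ∈ G, Commute h s → h ∈ C)
    {F : Γ → ℂ} (hF : ∀ x y, F (y * x * y⁻¹) = F x) :
    (Nat.card C : ℂ) * ∑ g : G, F (g * s) = (Nat.card G : ℂ) * ∑ c : C, F (c * s) := by
  classical
  have hsS : s ∈ S := hs.1
  let Φ : G × C → G := fun q => ⟨(q.1 : Γ) * q.2 * (s * (q.1 : Γ)⁻¹ * s⁻¹),
    mul_mem (mul_mem q.1.2 (D.le_fixed q.2.2)) (D.norm s hsS _ (inv_mem q.1.2))⟩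
  have hΦ : ∀ q : G × C, (Φ q : Γ) * s = q.1 * ((q.2 : Γ) * s) * (q.1 : Γ)⁻¹ := fun q => by
    simp only [Φ]; group
  have key : ∀ q p : G × C, Φ p = Φ q →
      ((p.1 : Γ))⁻¹ * q.1 ∈ C ∧
        ((p.1 : Γ))⁻¹ * q.1 * q.2 * ((p.1 : Γ)⁻¹ * q.1)⁻¹ = p.2 := by
    intro q p hp
    refine D.mem_of_conj_eq hs q.2.2 p.2.2 (mul_mem (inv_mem p.1.2) q.1.2) ?_
    have h1 := hΦ p
    rw [hp, hΦ q] at h1
    calc (p.1 : Γ)⁻¹ * q.1 * ((q.2 : Γ) * s) * ((p.1 : Γ)⁻¹ * q.1)⁻¹
        = (p.1 : Γ)⁻¹ * (q.1 * ((q.2 : Γ) * s) * (q.1 : Γ)⁻¹) * p.1 := by group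
      _ = (p.2 : Γ) * s := by rw [h1]; group
  have hfib : ∀ q : G × C, Nat.card {p : G × C // Φ p = Φ q} = Nat.card C := by
    intro q
    refine Nat.card_congr
      { toFun := fun p => ⟨_, (key q p.1 p.2).1⟩
        invFun := fun h => ⟨(⟨(q.1 : Γ) * (h : Γ)⁻¹, mul_mem q.1.2 (inv_mem (D.le_fixed h.2))⟩,
          ⟨(h : Γ) * q.2 * (h : Γ)⁻¹, mul_mem (mul_mem h.2 q.2.2) (inv_mem h.2)⟩), ?_⟩
        left_inv := fun p => ?_
        right_inv := fun h => ?_ }
    · apply Subtype.ext
      apply mul_right_cancel (b := s)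
      rw [hΦ, hΦ]
      have hhs := D.comm h.2 hsS
      calc (q.1 : Γ) * (h : Γ)⁻¹ * ((h : Γ) * q.2 * (h : Γ)⁻¹ * s) *
            ((q.1 : Γ) * (h : Γ)⁻¹)⁻¹
          = (q.1 : Γ) * ((q.2 : Γ) * ((h : Γ)⁻¹ * (s * (h : Γ)))) * (q.1 : Γ)⁻¹ := by group
        _ = (q.1 : Γ) * ((q.2 : Γ) * s) * (q.1 : Γ)⁻¹ := by
            rw [← hhs.eq, inv_mul_cancel_left]
    · have h2 := (key q p.1 p.2).2
      refine Subtype.ext (Prod.ext (Subtype.ext ?_) (Subtype.ext h2))
      simp
    · exact Subtype.ext (by simp)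
  have hfib' : ∀ q : G × C,
      (Finset.univ.filter (fun p => Φ p = Φ q)).card = Nat.card C := fun q => by
    rw [← hfib q, Nat.card_eq_fintype_card, Fintype.card_subtype]
  have himg : Finset.univ.image Φ = Finset.univ := by
    have h1 : (Finset.univ : Finset (G × C)).card =
        ∑ x ∈ Finset.univ.image Φ, (Finset.univ.filter (fun p => Φ p = x)).card :=
      Finset.card_eq_sum_card_fiberwise (fun p _ => Finset.mem_image_of_mem Φ (Finset.mem_univ p))
    rw [Finset.sum_congr rfl (g := fun _ => Nat.card C) (fun x hx => by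
      obtain ⟨q, -, rfl⟩ := Finset.mem_image.1 hx
      exact hfib' q), Finset.sum_const, smul_eq_mul, Finset.card_univ, Fintype.card_prod,
      Nat.card_eq_fintype_card] at h1
    exact Finset.eq_univ_of_card _ (Nat.eq_of_mul_eq_mul_right Fintype.card_pos h1).symm
  have hsum : ∑ q : G × C, F ((Φ q : Γ) * s) = (Nat.card C : ℂ) * ∑ g : G, F (g * s) := by
    rw [← Finset.sum_fiberwise_of_maps_to (t := Finset.univ.image Φ)
      (fun p _ => Finset.mem_image_of_mem Φ (Finset.mem_univ p)), Finset.mul_sum, himg]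
    refine Finset.sum_congr rfl fun x hx => ?_
    rw [← himg] at hx
    obtain ⟨q, -, rfl⟩ := Finset.mem_image.1 hx
    rw [Finset.sum_congr rfl (g := fun _ => F ((Φ q : Γ) * s))
      (fun p hp => by rw [(Finset.mem_filter.1 hp).2]), Finset.sum_const, hfib', nsmul_eq_mul]
  rw [← hsum, Fintype.sum_prod_type]
  simp only [hΦ, hF]
  rw [Finset.sum_const, nsmul_eq_mul, Finset.card_univ, Nat.card_eq_fintype_card]

end CyclicSetting

section Slice

variable {C : Type u} [Group C] [Finite C] [Fintype C] {S : Type v} [Group S] [Finite S]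

/-- Slicing a character of `C × S`, for commutative `S`, by an irreducible character of `C`. -/
theorem isCharacter_slice (hS : ∀ a b : S, a * b = b * a) {ψ : C × S → ℂ}
    (hψ : Cfsg.IsCharacter (C × S) ψ) (β : IrrCharacter C) :
    Cfsg.IsCharacter S (fun x => classInner (fun c => ψ (c, x)) (β : C → ℂ)) := by
  classical
  haveI := Fintype.ofFinite S
  obtain ⟨m, hm⟩ := CfsgLib.Char.IsCharacter.exists_nat_combination hψ
  have hz : ∀ x : S, ((1, x) : C × S) ∈ Subgroup.center (C × S) := fun x =>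
    Subgroup.mem_center_iff.2 fun y => by ext <;> simp [hS]
  -- each irreducible character slices to a multiple of a linear one
  have hone : ∀ ξ : IrrCharacter (C × S),
      Cfsg.IsCharacter S
        (fun x => classInner (fun c => (ξ : C × S → ℂ) (c, x)) (β : C → ℂ)) := by
    intro ξ
    set d := (ξ : C × S → ℂ) 1 with hd
    have hd0 : d ≠ 0 := CfsgLib.Char.IsIrrCharacter.apply_one_ne_zero ξ.2
    have hmul : ∀ (c : C) (x : S),
        (ξ : C × S → ℂ) (c, x) * d = (ξ : C × S → ℂ) (c, 1) * (ξ : C × S → ℂ) (1, x) := by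
      intro c x
      have := CfsgLib.CharOver.apply_mul_central ξ.2 (hz x) (c, 1)
      simpa using this
    let lam : S →* ℂ :=
      { toFun := fun x => (ξ : C × S → ℂ) (1, x) / d
        map_one' := by rw [← Prod.one_eq_mk, ← hd, div_self hd0]
        map_mul' := fun x y => by
          have h := CfsgLib.CharOver.apply_mul_central ξ.2 (hz y) (1, x)
          simp only [Prod.mk_mul_mk, mul_one, ← hd] at h
          field_simp
          linear_combination h }
    obtain ⟨k, hk⟩ := CfsgLib.Char.IsCharacter.exists_nat_classInner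
      (CfsgLib.Char.IsCharacter.comp (CfsgLib.Char.IsIrrCharacter.isCharacter ξ.2)
        (MonoidHom.inl C S)) β.2
    have hval : (fun x => classInner (fun c => (ξ : C × S → ℂ) (c, x)) (β : C → ℂ)) =
        k • fun x => ((lam.toHomUnits x : ℂˣ) : ℂ) := by
      funext x
      simp only [Pi.smul_apply, nsmul_eq_mul, MonoidHom.coe_toHomUnits]
      rw [← hk]
      simp only [classInner, MonoidHom.inl_apply, lam, MonoidHom.coe_mk, OneHom.coe_mk]
      rw [mul_assoc, Finset.sum_mul]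
      refine congrArg _ (Finset.sum_congr rfl fun c _ => ?_)
      field_simp
      linear_combination (starRingEnd ℂ) ((β : C → ℂ) c) * hmul c x
    rw [hval]
    exact CfsgLib.Char.IsCharacter.nsmul
      (CfsgLib.Char.IsIrrCharacter.isCharacter (CfsgLib.Char.isIrrCharacter_monoidHom _)) k
  have hfun : (fun x => classInner (fun c => ψ (c, x)) (β : C → ℂ)) =
      ∑ ξ : IrrCharacter (C × S),
        m ξ • fun x => classInner (fun c => (ξ : C × S → ℂ) (c, x)) (β : C → ℂ) := by
    funext x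
    rw [Finset.sum_apply, hm]
    simp only [classInner, Finset.sum_apply, Pi.smul_apply, smul_eq_mul, nsmul_eq_mul,
      Finset.sum_mul, Finset.mul_sum]
    rw [Finset.sum_comm]
    exact Finset.sum_congr rfl fun ξ _ => Finset.sum_congr rfl fun c _ => by ring
  rw [hfun]
  exact CfsgLib.Char.IsCharacter.sum _ _ fun ξ _ => CfsgLib.Char.IsCharacter.nsmul (hone ξ) _

end Slice

end CfsgLib.Glauberman
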