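import Mathlib.GroupTheory.OrderOfElement
import Mathlib.GroupTheory.SpecificGroups.Cyclic
import Mathlib.Data.Nat.ChineseRemainder
import Mathlib.GroupTheory.Perm.Cycle.Type
import Mathlib.Tactic

/-!
# Functions on a cyclic group satisfying congruence steps are a sign times a sign character
-/

set_option autoImplicit false

namespace CfsgLib.Glauberman

variable {S : Type*} [Group S] [Finite S] {α : Type*} {η : S → α}

/-- `y` is a `q`-element. -/
def IsQElem (q : ℕ) (y : S) : Prop := ∃ j : ℕ, y ^ q ^ j = 1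

theorem exists_split {z : S} {r : ℕ} (hr : r.Prime) (hrz : r ∣ orderOf z) :
    ∃ (k : ℕ) (v : S), z ^ k * v = z ∧ IsQElem r v ∧ orderOf (z ^ k) < orderOf z ∧
      ∀ q : ℕ, q.Prime → q ≠ r → q ∣ orderOf z → q ∣ orderOf (z ^ k) := by
  have hN : orderOf z ≠ 0 := (orderOf_pos z).ne'
  set N := orderOf z with hNdef
  set a := r ^ N.factorization r with ha
  set m := N / a with hm
  have ham : a * m = N := Nat.ordProj_mul_ordCompl_eq_self N r
  have hcop : a.Coprime m := Nat.Coprime.pow_left _ (Nat.coprime_ordCompl hr hN)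
  obtain ⟨k, hk1, hk2⟩ := Nat.chineseRemainder hcop 0 1
  have hdvd : orderOf (z ^ k) ∣ m := by
    refine orderOf_dvd_of_pow_eq_one ?_
    rw [← pow_mul]
    refine orderOf_dvd_iff_pow_eq_one.1 ?_
    rw [← hNdef, ← ham]
    exact mul_dvd_mul (Nat.modEq_zero_iff_dvd.1 hk1) dvd_rfl
  refine ⟨k, (z ^ k)⁻¹ * z, mul_inv_cancel_left _ _, ⟨N.factorization r, ?_⟩, ?_, ?_⟩
  · have hcomm : Commute (z ^ k)⁻¹ z := ((Commute.refl z).pow_left k).inv_left
    rw [hcomm.mul_pow, inv_pow, inv_mul_eq_one, ← pow_mul, pow_eq_pow_iff_modEq, ← hNdef, ← ha]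
    have h1 : k * a ≡ 1 * a [MOD m * a] := Nat.ModEq.mul_right' a hk2
    rw [one_mul, mul_comm m a, ham] at h1
    exact h1
  · calc orderOf (z ^ k) ≤ m := Nat.le_of_dvd (Nat.pos_of_ne_zero fun h => hN (by
          rw [← ham, h, mul_zero])) hdvd
      _ < N := by
        have h2 : 2 ≤ a := by
          have := hr.factorization_pos_of_dvd hN hrz
          calc 2 ≤ r := hr.two_le
            _ = r ^ 1 := (pow_one r).symm
            _ ≤ a := Nat.pow_le_pow_right hr.pos this
        have hmpos : 0 < m := Nat.pos_of_ne_zero fun h => hN (by rw [← ham, h, mul_zero])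
        rw [← ham]; nlinarith
  · intro q hq hqr hqN
    have h1 : N ∣ a * orderOf (z ^ k) := by
      refine orderOf_dvd_of_pow_eq_one ?_
      have hk : k * (a * orderOf (z ^ k)) ≡ 1 * (a * orderOf (z ^ k)) [MOD N] := by
        have h := Nat.ModEq.mul_right' a hk2
        rw [← ham, mul_comm a m, ← mul_assoc, ← mul_assoc]
        exact h.mul_right _
      rw [one_mul] at hk
      rw [← pow_eq_pow_iff_modEq.2 hk, pow_mul, mul_comm a, pow_mul, pow_orderOf_eq_one, one_pow]
    rcases hq.dvd_mul.1 (hqN.trans h1) with h | h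
    · exact absurd ((Nat.prime_dvd_prime_iff_eq hq hr).1 (hq.dvd_of_dvd_pow h)) hqr
    · exact h

theorem ne_one_of_dvd {z : S} {q : ℕ} (hq : q.Prime) (h : q ∣ orderOf z) : z ≠ 1 := fun hz => by
  rw [hz, orderOf_one] at h; exact hq.not_dvd_one h

theorem isQElem_of_primes {z : S} {q : ℕ} (h : ∀ r : ℕ, r.Prime → r ∣ orderOf z → r = q) :
    IsQElem q z := by
  refine ⟨(orderOf z).primeFactorsList.length, ?_⟩
  have := Nat.eq_prime_pow_of_unique_prime_dvd (orderOf_pos z).ne' (fun {r} hr hd => h r hr hd)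
  rw [← this, pow_orderOf_eq_one]

theorem isQElem_mul (hS : ∀ a b : S, a * b = b * a) {q : ℕ} {x y : S} (hx : IsQElem q x)
    (hy : IsQElem q y) : IsQElem q (x * y) := by
  obtain ⟨i, hi⟩ := hx
  obtain ⟨j, hj⟩ := hy
  refine ⟨i + j, ?_⟩
  rw [(show Commute x y from hS x y).mul_pow, pow_add, pow_mul, hi, one_pow, one_mul, mul_comm,
    pow_mul, hj, one_pow]

theorem isQElem_inv {q : ℕ} {x : S} (hx : IsQElem q x) : IsQElem q x⁻¹ := by
  obtain ⟨i, hi⟩ := hx
  exact ⟨i, by rw [inv_pow, hi, inv_one]⟩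

/-- With steps along elements of every prime power order, `η` is constant off the identity. -/
theorem eq_of_all_steps [IsCyclic S]
    (hstep : ∀ q : ℕ, q.Prime → ∀ x v : S, x ≠ 1 → x * v ≠ 1 → IsQElem q v → η (x * v) = η x)
    {s : S} (hs : ∀ x : S, x ∈ Subgroup.zpowers s) {z : S} (hz : z ≠ 1) : η z = η s := by
  letI := IsCyclic.commGroup (α := S)
  -- each element reduces to an element of prime power order
  have hred : ∀ q : ℕ, q.Prime → ∀ (N : ℕ) (w : S), orderOf w = N → q ∣ orderOf w →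
      ∃ a, IsQElem q a ∧ a ≠ 1 ∧ η w = η a := by
    intro q hq N
    induction N using Nat.strong_induction_on with
    | _ N ih =>
      intro w hN hqw
      by_cases hex : ∀ r : ℕ, r.Prime → r ∣ orderOf w → r = q
      · exact ⟨w, isQElem_of_primes hex, ne_one_of_dvd hq hqw, rfl⟩
      · push Not at hex
        obtain ⟨r, hr, hrw, hrq⟩ := hex
        obtain ⟨k, v, hv, hvq, hlt, hkeep⟩ := exists_split hr hrw
        have hq' := hkeep q hq (Ne.symm hrq) hqw
        obtain ⟨a, ha, ha1, hea⟩ := ih _ (hN ▸ hlt) (w ^ k) rfl hq'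
        refine ⟨a, ha, ha1, ?_⟩
        have h := hstep r hr (w ^ k) v (ne_one_of_dvd hq hq')
          (hv.symm ▸ ne_one_of_dvd hq hqw) hvq
        rw [hv] at h
        rw [h, hea]
  obtain ⟨q, hq, hqz⟩ := Nat.exists_prime_and_dvd (fun h => hz (orderOf_eq_one_iff.1 h))
  obtain ⟨a, ha, ha1, hea⟩ := hred q hq _ z rfl hqz
  have hqs : q ∣ orderOf s := by
    rw [orderOf_eq_card_of_forall_mem_zpowers hs]
    exact hqz.trans (orderOf_dvd_natCard z)
  obtain ⟨b, hb, hb1, heb⟩ := hred q hq _ s rfl hqs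
  rw [hea, heb]
  have h := hstep q hq b (b⁻¹ * a) hb1 (by rwa [mul_inv_cancel_left])
    (isQElem_mul (fun x y => mul_comm x y) (isQElem_inv hb) ha)
  rwa [mul_inv_cancel_left] at h

/-- A square. -/
def IsSq (x : S) : Prop := ∃ t : S, t ^ 2 = x

theorem isSq_of_odd {x : S} (h : Odd (orderOf x)) : IsSq x := by
  obtain ⟨k, hk⟩ := h
  refine ⟨x ^ (k + 1), ?_⟩
  rw [← pow_mul, show (k + 1) * 2 = orderOf x + 1 by omega, pow_succ, pow_orderOf_eq_one, one_mul]

theorem isSq_mul (hS : ∀ a b : S, a * b = b * a) {x y : S} (hx : IsSq x) (hy : IsSq y) :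
    IsSq (x * y) := by
  obtain ⟨a, rfl⟩ := hx
  obtain ⟨b, rfl⟩ := hy
  exact ⟨a * b, by rw [(show Commute a b from hS a b).mul_pow]⟩

theorem isSq_inv {x : S} (hx : IsSq x) : IsSq x⁻¹ := by
  obtain ⟨a, rfl⟩ := hx
  exact ⟨a⁻¹, by rw [inv_pow]⟩

theorem isSq_one : IsSq (1 : S) := ⟨1, one_pow _⟩

/-- With steps along odd prime powers and squarings, `η` is constant on squares `≠ 1`. -/
theorem eq_on_squares [IsCyclic S]
    (hstep : ∀ q : ℕ, q.Prime → q ≠ 2 → ∀ x v : S, x ≠ 1 → x * v ≠ 1 → IsQElem q v →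
      η (x * v) = η x)
    (hdbl : ∀ t : S, t ^ 4 ≠ 1 → η (t ^ 4) = η (t ^ 2))
    {x y : S} (hx : IsSq x) (hx1 : x ≠ 1) (hy : IsSq y) (hy1 : y ≠ 1) : η x = η y := by
  classical
  letI := IsCyclic.commGroup (α := S)
  haveI := Fintype.ofFinite S
  -- a square reduces, by the steps, to any prime dividing its order
  have hred : ∀ q : ℕ, q.Prime → ∀ (N : ℕ) (w : S), orderOf w = N → IsSq w → q ∣ orderOf w →
      (q = 2 → ∀ r : ℕ, r.Prime → r ∣ orderOf w → r = 2) →
      ∃ a, IsQElem q a ∧ a ≠ 1 ∧ η w = η a ∧ (q = 2 → orderOf a = 2) := by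
    intro q hq N
    induction N using Nat.strong_induction_on with
    | _ N ih =>
      intro w hN hsq hqw h2
      by_cases hex : ∃ r : ℕ, r.Prime ∧ r ∣ orderOf w ∧ r ≠ 2 ∧ r ≠ q
      · obtain ⟨r, hr, hrw, hr2, hrq⟩ := hex
        obtain ⟨k, v, hv, hvq, hlt, hkeep⟩ := exists_split hr hrw
        have hq' := hkeep q hq (Ne.symm hrq) hqw
        have hsq' : IsSq (w ^ k) := by
          obtain ⟨t, ht⟩ := hsq
          exact ⟨t ^ k, by rw [← pow_mul, mul_comm, pow_mul, ht]⟩
        obtain ⟨a, ha, ha1, hea, ha2⟩ := ih _ (hN ▸ hlt) (w ^ k) rfl hsq' hq'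
          (fun e r' hr' hd => h2 e r' hr' (hd.trans (orderOf_pow_dvd k)))
        refine ⟨a, ha, ha1, ?_, ha2⟩
        have h := hstep r hr hr2 (w ^ k) v (ne_one_of_dvd hq hq')
          (hv.symm ▸ ne_one_of_dvd hq hqw) hvq
        rw [hv] at h
        rw [h, hea]
      · push Not at hex
        -- only the primes `2` and `q` remain
        by_cases hd : 2 ∣ orderOf w ∧ (q = 2 → orderOf w ≠ 2)
        · obtain ⟨hev, hne⟩ := hd
          have hord : orderOf (w ^ 2) = orderOf w / 2 := by
            rw [orderOf_pow, Nat.gcd_eq_right hev]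
          have hq' : q ∣ orderOf (w ^ 2) := by
            rw [hord]
            by_cases e : q = 2
            · subst e
              have hpow := Nat.eq_prime_pow_of_unique_prime_dvd (orderOf_pos w).ne'
                (fun {r} hr hd => h2 rfl r hr hd)
              generalize (orderOf w).primeFactorsList.length = l at hpow
              rcases l with _ | _ | l
              · rw [pow_zero] at hpow; rw [hpow] at hev; omega
              · exact absurd (by simpa using hpow) (hne rfl)
              · rw [hpow, pow_succ, Nat.mul_div_cancel _ two_pos, pow_succ]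
                exact dvd_mul_left 2 _
            · obtain ⟨c, hc⟩ := hev
              rw [hc] at hqw ⊢
              rw [Nat.mul_div_cancel_left _ two_pos]
              exact ((Nat.coprime_primes hq Nat.prime_two).2 e).dvd_of_dvd_mul_left hqw
          obtain ⟨a, ha, ha1, hea, ha2⟩ := ih (orderOf (w ^ 2))
            (by rw [hord, ← hN]; exact Nat.div_lt_self (orderOf_pos w) one_lt_two) (w ^ 2) rfl
            ⟨w, rfl⟩ hq' (fun e r hr hd => h2 e r hr (hd.trans (orderOf_pow_dvd 2)))
          refine ⟨a, ha, ha1, ?_, ha2⟩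
          obtain ⟨t, ht⟩ := hsq
          have h := hdbl t (by
            rw [show 4 = 2 * 2 from rfl, pow_mul, ht]; exact ne_one_of_dvd hq hq')
          rw [show 4 = 2 * 2 from rfl, pow_mul, ht] at h
          rw [← h, hea]
        · refine ⟨w, isQElem_of_primes fun r hr hrw => ?_, ne_one_of_dvd hq hqw, rfl, fun e => ?_⟩
          · by_contra hrq
            by_cases hr2 : r = 2
            · subst hr2
              exact hd ⟨hrw, fun e => absurd e (Ne.symm hrq)⟩
            · exact hrq (hex r hr hrw hr2)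
          · subst e
            by_contra hne
            exact hd ⟨hqw, fun _ => hne⟩
  by_cases hodd : ∃ r : ℕ, r.Prime ∧ r ≠ 2 ∧ r ∣ Nat.card S
  · obtain ⟨r, hr, hr2, hrS⟩ := hodd
    haveI : Fact r.Prime := ⟨hr⟩
    obtain ⟨a, ha⟩ := exists_prime_orderOf_dvd_card' r hrS
    have haq : IsQElem r a := ⟨1, by rw [pow_one, ← ha, pow_orderOf_eq_one]⟩
    have hra : a ≠ 1 := ne_one_of_dvd hr (ha ▸ dvd_rfl)
    suffices h : ∀ z : S, IsSq z → z ≠ 1 → η z = η a by rw [h x hx hx1, h y hy hy1]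
    intro z hz hz1
    have hconst : ∀ b : S, IsQElem r b → b ≠ 1 → η b = η a := by
      intro b hb hb1
      have h := hstep r hr hr2 a (a⁻¹ * b) hra (by rwa [mul_inv_cancel_left])
        (isQElem_mul (fun x y => mul_comm x y) (isQElem_inv haq) hb)
      rwa [mul_inv_cancel_left] at h
    by_cases hrz : r ∣ orderOf z
    · obtain ⟨b, hb, hb1, heb, -⟩ := hred r hr _ z rfl hz hrz (fun e => absurd e hr2)
      rw [heb, hconst b hb hb1]
    · have hcop : (orderOf z).Coprime (orderOf a) := by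
        rw [ha]; exact ((Nat.Prime.coprime_iff_not_dvd hr).2 hrz).symm
      have hord := (Commute.all z a).orderOf_mul_eq_mul_orderOf_of_coprime hcop
      have hrza : r ∣ orderOf (z * a) := by rw [hord, ha]; exact dvd_mul_left r _
      have hza : IsSq (z * a) := isSq_mul (fun x y => mul_comm x y) hz
        (isSq_of_odd (ha ▸ hr.odd_of_ne_two hr2))
      obtain ⟨b, hb, hb1, heb, -⟩ := hred r hr _ _ rfl hza hrza (fun e => absurd e hr2)
      rw [← hstep r hr hr2 z a hz1 (ne_one_of_dvd hr hrza) haq, heb, hconst b hb hb1]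
  · push Not at hodd
    have h2 : ∀ (z : S) (r : ℕ), r.Prime → r ∣ orderOf z → r = 2 := by
      intro z r hr hd
      by_contra hne
      exact hodd r hr hne (hd.trans (orderOf_dvd_natCard z))
    have hinv : ∀ z : S, IsSq z → z ≠ 1 → ∃ b, orderOf b = 2 ∧ η z = η b := by
      intro z hz hz1
      obtain ⟨r, hr, hrz⟩ := Nat.exists_prime_and_dvd (fun h => hz1 (orderOf_eq_one_iff.1 h))
      obtain rfl := h2 z r hr hrz
      obtain ⟨b, -, -, heb, hb2⟩ := hred 2 hr _ z rfl hz hrz (fun _ => h2 z)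
      exact ⟨b, hb2 rfl, heb⟩
    obtain ⟨b, hb, heb⟩ := hinv x hx hx1
    obtain ⟨c, hc, hec⟩ := hinv y hy hy1
    rw [heb, hec]
    by_contra hne
    have hbc : b ≠ c := fun e => hne (e ▸ rfl)
    have hb1 : b ≠ 1 := fun e => by rw [e, orderOf_one] at hb; omega
    have hc1 : c ≠ 1 := fun e => by rw [e, orderOf_one] at hc; omega
    have hle := IsCyclic.card_pow_eq_one_le (α := S) two_pos
    have h3 : ({1, b, c} : Finset S).card ≤ 2 := by
      refine (Finset.card_le_card fun w hw => ?_).trans hle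
      simp only [Finset.mem_insert, Finset.mem_singleton] at hw
      simp only [Finset.mem_filter, Finset.mem_univ, true_and]
      rcases hw with rfl | rfl | rfl
      · exact one_pow _
      · rw [← hb, pow_orderOf_eq_one]
      · rw [← hc, pow_orderOf_eq_one]
    rw [Finset.card_insert_of_notMem (by simp [Ne.symm hb1, Ne.symm hc1]),
      Finset.card_pair hbc] at h3
    omega

/-- With odd steps and invariance under coprime powers, `η` is constant on non-squares. -/
theorem eq_on_nonsquares [IsCyclic S]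
    (hstep : ∀ q : ℕ, q.Prime → q ≠ 2 → ∀ x v : S, x ≠ 1 → x * v ≠ 1 → IsQElem q v →
      η (x * v) = η x)
    {s : S} (hs : ∀ x : S, x ∈ Subgroup.zpowers s)
    (hgal : ∀ j : ℕ, j.Coprime (Nat.card S) → η (s ^ j) = η s)
    {x : S} (hx : ¬ IsSq x) : η x = η s := by
  letI := IsCyclic.commGroup (α := S)
  have hmul : ∀ (N : ℕ) (w : S), orderOf w = N → Odd (orderOf w) → η (x * w) = η x := by
    intro N
    induction N using Nat.strong_induction_on with
    | _ N ih =>
      intro w hN hodd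
      by_cases hw1 : w = 1
      · rw [hw1, mul_one]
      obtain ⟨r, hr, hrw⟩ := Nat.exists_prime_and_dvd (fun h => hw1 (orderOf_eq_one_iff.1 h))
      have hr2 : r ≠ 2 := fun e => (Nat.not_even_iff_odd.2 hodd) (even_iff_two_dvd.2 (e ▸ hrw))
      obtain ⟨k, v, hv, hvq, hlt, -⟩ := exists_split hr hrw
      have hodd' : Odd (orderOf (w ^ k)) := hodd.of_dvd_nat (orderOf_pow_dvd k)
      have hns : ∀ u : S, Odd (orderOf u) → x * u ≠ 1 := fun u hu e =>
        hx ((eq_inv_of_mul_eq_one_left e).symm ▸ isSq_inv (isSq_of_odd hu))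
      have h := hstep r hr hr2 (x * w ^ k) v (hns _ hodd')
        (by rw [mul_assoc, hv]; exact hns _ hodd) hvq
      rw [mul_assoc, hv] at h
      rw [h, ih _ (hN ▸ hlt) (w ^ k) rfl hodd']
  obtain ⟨j, hj⟩ := (Submonoid.mem_powers_iff _ _).1
    ((isOfFinOrder_of_finite s).mem_powers_iff_mem_zpowers.2 (hs x))
  have hn : Nat.card S ≠ 0 := Nat.card_pos.ne'
  set a := 2 ^ (Nat.card S).factorization 2 with ha
  set m := Nat.card S / a with hm
  have ham : a * m = Nat.card S := Nat.ordProj_mul_ordCompl_eq_self _ 2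
  have hm2 : Nat.Coprime 2 m := Nat.coprime_ordCompl Nat.prime_two hn
  have hcop : a.Coprime m := hm2.pow_left _
  obtain ⟨j', hj1, hj2⟩ := Nat.chineseRemainder hcop j 1
  have hjodd : ¬ 2 ∣ j := fun h => by
    obtain ⟨i, rfl⟩ := h
    exact hx ⟨s ^ i, by rw [← pow_mul, mul_comm, hj]⟩
  have hj'cop : j'.Coprime (Nat.card S) := by
    rw [← ham]
    refine Nat.Coprime.mul_right ?_ ?_
    · by_cases hk : (Nat.card S).factorization 2 = 0
      · rw [ha, hk, pow_zero]; exact Nat.coprime_one_right _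
      · have h : ¬ 2 ∣ j' := fun h => hjodd ((hj1.of_dvd (dvd_pow_self 2 hk)).dvd_iff dvd_rfl |>.1 h)
        exact ((Nat.Prime.coprime_iff_not_dvd Nat.prime_two).2 h).symm.pow_right _
    · unfold Nat.Coprime; rw [hj2.gcd_eq]; exact Nat.gcd_one_left _
  have hodd : Odd (orderOf (x⁻¹ * s ^ j')) := by
    refine Odd.of_dvd_nat (Nat.odd_iff.2 (Nat.two_dvd_ne_zero.1
      ((Nat.Prime.coprime_iff_not_dvd Nat.prime_two).1 hm2))) (orderOf_dvd_of_pow_eq_one ?_)
    rw [mul_pow, inv_pow, inv_mul_eq_one, ← hj, ← pow_mul, ← pow_mul, pow_eq_pow_iff_modEq,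
      orderOf_eq_card_of_forall_mem_zpowers hs, ← ham]
    exact (Nat.ModEq.mul_right' m hj1).symm
  have h := hmul _ (x⁻¹ * s ^ j') rfl hodd
  rw [mul_inv_cancel_left, hgal j' hj'cop] at h
  exact h.symm

/-- The character trivial on squares and `δ` elsewhere. -/
theorem sqSign_mul [IsCyclic S] {δ : ℤ} (hδ : δ * δ = 1) [DecidablePred (IsSq (S := S))]
    (x y : S) :
    (if IsSq (x * y) then (1 : ℤ) else δ) =
      (if IsSq x then 1 else δ) * (if IsSq y then 1 else δ) := by
  letI := IsCyclic.commGroup (α := S)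
  have hc : ∀ a b : S, a * b = b * a := fun a b => mul_comm a b
  by_cases hx : IsSq x <;> by_cases hy : IsSq y
  · simp [hx, hy, isSq_mul hc hx hy]
  · have : ¬ IsSq (x * y) := fun h => hy (by
      have := isSq_mul hc (isSq_inv hx) h
      rwa [inv_mul_cancel_left] at this)
    simp [hx, hy, this]
  · have : ¬ IsSq (x * y) := fun h => hx (by
      have := isSq_mul hc h (isSq_inv hy)
      rwa [mul_inv_cancel_right] at this)
    simp [hx, hy, this]
  · have : IsSq (x * y) := by
      obtain ⟨s, hs⟩ := IsCyclic.exists_generator (α := S)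
      obtain ⟨i, rfl⟩ := Subgroup.mem_zpowers_iff.1 (hs x)
      obtain ⟨k, rfl⟩ := Subgroup.mem_zpowers_iff.1 (hs y)
      have hi : Odd i := by
        rw [← Int.not_even_iff_odd]
        rintro ⟨l, rfl⟩
        exact hx ⟨s ^ l, by rw [pow_two, ← zpow_add]⟩
      have hk : Odd k := by
        rw [← Int.not_even_iff_odd]
        rintro ⟨l, rfl⟩
        exact hy ⟨s ^ l, by rw [pow_two, ← zpow_add]⟩
      obtain ⟨l, hl⟩ := hi.add_odd hk
      exact ⟨s ^ l, by rw [pow_two, ← zpow_add, ← zpow_add, hl]⟩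
    simp [hx, hy, this, hδ]

end CfsgLib.Glauberman
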