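import Cfsg.Agent.Lib.Glauberman.Cyclic
import Cfsg.Agent.Lib.Glauberman.CharInt
import Cfsg.Agent.Lib.Glauberman.CyclicSigns

/-!
# Restriction along a cyclic fixed-point-free group of operators
-/

set_option autoImplicit false

namespace CfsgLib.Glauberman

open Cfsg
open scoped ComplexConjugate

universe u

variable {Γ : Type u} [Group Γ]

namespace CyclicSetting

variable {G S C : Subgroup Γ} (D : CyclicSetting G S C) [Fintype Γ] [Fintype G] [Fintype C]

include D in
/-- The restriction to `C` and the values on `C × S` when every nontrivial element of `S` has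
fixed points `C`. -/
theorem fpf_restriction {χ : IrrCharacter G} {χh : IrrCharacter Γ}
    (hcan : IsCanonExt G S χ χh)
    (hfpf : ∀ x ∈ S, x ≠ 1 → G ⊓ Subgroup.centralizer ({x} : Set Γ) = C)
    {β : IrrCharacter C} {ε₀ : ℤ} (hβ : SignRel S χh β ε₀) :
    ∃ ε : ℤ, (ε = 1 ∨ ε = -1) ∧
      (∃ μ : S → ℂ, Cfsg.IsCharacter S μ ∧ μ 1 = 1 ∧ (∀ x : S, μ x * μ x = 1) ∧
        ∀ c : C, ∀ x : S, x ≠ 1 →
          (χh : Γ → ℂ) ((c : Γ) * x) = (ε : ℂ) * (β : C → ℂ) c * μ x) ∧
      ∃ ϑ : C → ℂ, Cfsg.IsCharacter C ϑ ∧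
        (fun c : C => (χ : G → ℂ) ⟨c, D.le_fixed c.2⟩) =
          fun c => (Nat.card S : ℂ) * ϑ c + (ε : ℂ) * (β : C → ℂ) c := by
  classical
  haveI := D.cyc
  haveI := Fintype.ofFinite S
  have hcomm : ∀ a b : S, a * b = b * a := fun a b => Subtype.ext (D.comm_S a.2 b.2)
  obtain ⟨s, hs⟩ := D.exists_generator
  have hsS : s ∈ S := hs ▸ Subgroup.mem_zpowers s
  have hgen : ∀ x : S, x ∈ Subgroup.zpowers (⟨s, hsS⟩ : S) := by
    intro x
    have hx : (x : Γ) ∈ Subgroup.zpowers s := hs.symm ▸ x.2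
    obtain ⟨j, hj⟩ := Subgroup.mem_zpowers_iff.1 hx
    exact Subgroup.mem_zpowers_iff.2 ⟨j, Subtype.ext (by simpa using hj)⟩
  have hfix : ∀ x : S, x ≠ 1 → ((x : Γ) ∈ S ∧ ∀ h ∈ G, Commute h x → h ∈ C) := by
    intro x hx
    refine ⟨x.2, fun h hh hhx => ?_⟩
    rw [← hfpf x x.2 (by simpa using hx), Subgroup.mem_inf, Subgroup.mem_centralizer_singleton_iff]
    exact ⟨hh, hhx.eq⟩
  -- the slices
  let A : IrrCharacter C → S → ℂ := fun γ x =>
    classInner (fun c : C => (χh : Γ → ℂ) (c * x)) (γ : C → ℂ)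
  have hA : ∀ γ, Cfsg.IsCharacter S (A γ) := fun γ =>
    isCharacter_slice hcomm
      (ψ := fun y => (χh : Γ → ℂ)
        ((C.subtype.noncommCoprod S.subtype fun c t => D.comm c.2 t.2) y))
      (CfsgLib.Char.IsCharacter.comp (CfsgLib.Char.IsIrrCharacter.isCharacter χh.2) _) γ
  have hA1 : ∀ γ, ∃ m : ℕ, A γ 1 = m := fun γ => CfsgLib.Char.IsCharacter.exists_degree (hA γ)
  choose m hm using hA1
  have hres : ∀ γ : IrrCharacter C, classInner (fun c : C => (χ : G → ℂ) ⟨c, D.le_fixed c.2⟩) (γ : C → ℂ) =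
      A γ 1 := by
    intro γ
    simp only [A, OneMemClass.coe_one, mul_one]
    congr 1
    funext c
    exact (hcan.1 ⟨c, D.le_fixed c.2⟩).symm
  have hmβ : m β ≠ 0 := by
    obtain ⟨β', ε', hrel, hne⟩ := D.exists_signRel hcan
    obtain ⟨rfl, -⟩ := D.signRel_unique hcan hβ hrel
    intro h
    rw [hres, hm, h, Nat.cast_zero] at hne
    exact hne rfl
  -- signed characters at each nontrivial element
  have hat : ∀ x : S, ∃ (γ : IrrCharacter C) (e : ℤ), x ≠ 1 → (e = 1 ∨ e = -1) ∧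
      ∀ c : C, (χh : Γ → ℂ) ((c : Γ) * x) = (e : ℂ) * (γ : C → ℂ) c := by
    intro x
    by_cases hx : x = 1
    · exact ⟨β, 1, fun h => absurd hx h⟩
    · obtain ⟨γ, e, he, hv, -⟩ := D.exists_sign_at hcan (hfix x hx)
      exact ⟨γ, e, fun _ => ⟨he, hv⟩⟩
  choose bx ex hx using hat
  have hval : ∀ x : S, x ≠ 1 → ∀ γ,
      A γ x = (((if bx x = γ then ex x else 0 : ℤ)) : ℂ) := by
    intro x hx1 γ
    have h : (fun c : C => (χh : Γ → ℂ) (c * x)) = (ex x : ℂ) • (bx x : C → ℂ) :=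
      funext fun c => (hx x hx1).2 c
    simp only [A]
    rw [h, CfsgLib.Char.classInner_smul_left, CfsgLib.Char.classInner_irrCharacter]
    split_ifs <;> simp
  have hunit : ∀ x : S, x ≠ 1 → ex x * ex x = 1 := fun x hx1 => by
    rcases (hx x hx1).1 with h | h <;> simp [h]
  -- congruence steps
  have hstepβ : ∀ q : ℕ, q.Prime → ∀ x v : S, x ≠ 1 → x * v ≠ 1 → IsQElem q v →
      bx (x * v) = bx x := by
    intro q hq x v hx1 hxv ⟨j, hj⟩
    haveI : Fact q.Prime := ⟨hq⟩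
    have h := dvd_value_sub hcomm (hA (bx x)) hj (hval _ hxv (bx x)) (hval _ hx1 (bx x))
    by_contra hne
    rw [if_pos rfl, if_neg hne, zero_sub, dvd_neg] at h
    have h2 : (q : ℤ) ∣ ex x * ex x := h.mul_right _
    rw [hunit x hx1] at h2
    exact hq.not_dvd_one (by exact_mod_cast h2)
  have hbs : ∀ x : S, x ≠ 1 → bx x = β := by
    intro x hx1
    have hs1 : (⟨s, hsS⟩ : S) ≠ 1 := fun h => hx1 (by
      have := hgen x
      rw [h, Subgroup.zpowers_one_eq_bot, Subgroup.mem_bot] at this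
      exact this)
    rw [eq_of_all_steps hstepβ hgen hx1]
    -- two signed characters equal at the generator
    by_contra hne
    have h1 := hval _ hs1 β
    rw [if_neg hne, Int.cast_zero] at h1
    simp only [A] at h1
    rw [show (fun c : C => (χh : Γ → ℂ) (c * s)) = (ε₀ : ℂ) • (β : C → ℂ) from
      funext fun c => hβ.2 c s hs, CfsgLib.Char.classInner_smul_left,
      CfsgLib.Char.classInner_irr_self β.2, mul_one] at h1
    rcases hβ.1 with rfl | rfl <;> simp at h1
  have hvalβ : ∀ x : S, x ≠ 1 → A β x = (ex x : ℂ) := fun x hx1 => by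
    rw [hval x hx1, if_pos (hbs x hx1)]
  have hvalne : ∀ x : S, x ≠ 1 → ∀ γ, γ ≠ β → A γ x = 0 := fun x hx1 γ hγ => by
    rw [hval x hx1, if_neg (fun h => hγ (h.symm.trans (hbs x hx1))), Int.cast_zero]
  have hstep : ∀ q : ℕ, q.Prime → q ≠ 2 → ∀ x v : S, x ≠ 1 → x * v ≠ 1 → IsQElem q v →
      ex (x * v) = ex x := by
    intro q hq hq2 x v hx1 hxv ⟨j, hj⟩
    haveI : Fact q.Prime := ⟨hq⟩
    have h := dvd_value_sub hcomm (hA β) hj (hvalβ _ hxv) (hvalβ _ hx1)
    have hq3 : (3 : ℤ) ≤ q := by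
      have := hq.two_le; omega
    rcases (hx _ hxv).1 with h1 | h1 <;> rcases (hx _ hx1).1 with h2 | h2 <;>
      rw [h1, h2] at h ⊢
    · have := Int.le_of_dvd (by norm_num) h; omega
    · rw [← dvd_neg] at h
      have := Int.le_of_dvd (by norm_num) h; omega
  have hdbl : ∀ t : S, t ^ 4 ≠ 1 → ex (t ^ 4) = ex (t ^ 2) := by
    intro t ht
    have h2 : t ^ 2 ≠ 1 := fun h => ht (by rw [show 4 = 2 * 2 from rfl, pow_mul, h, one_pow])
    have h1 : t ≠ 1 := fun h => ht (by rw [h, one_pow])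
    have h := four_dvd_value_sub (hA β) t (hvalβ _ h1) (hvalβ _ h2) (hvalβ _ ht)
    rcases (hx _ ht).1 with e1 | e1 <;> rcases (hx _ h2).1 with e2 | e2 <;>
      rw [e1, e2] at h ⊢ <;> norm_num at h
  have hgal : ∀ j : ℕ, j.Coprime (Nat.card S) →
      ex ((⟨s, hsS⟩ : S) ^ j) = ex (⟨s, hsS⟩ : S) := by
    intro j hj
    by_cases hs1 : (⟨s, hsS⟩ : S) = 1
    · rw [hs1, one_pow]
    have hsj : (⟨s, hsS⟩ : S) ^ j ≠ 1 := fun h => hs1 (by
      have := (powCoprime (G := S) hj.symm).injective (a₁ := ⟨s, hsS⟩) (a₂ := 1)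
      exact this (by simpa using h))
    have : A β ((⟨s, hsS⟩ : S) ^ j) = A β ⟨s, hsS⟩ := by
      simp only [A, SubgroupClass.coe_pow]
      congr 1
      funext c
      exact D.value_gen hcan hsS hj c.2
    rw [hvalβ _ hsj, hvalβ _ hs1] at this
    exact_mod_cast this
  -- the sign and the sign character
  obtain ⟨ε, δ, hε, hδ, hex⟩ : ∃ ε δ : ℤ, (ε = 1 ∨ ε = -1) ∧ δ * δ = 1 ∧
      ∀ x : S, x ≠ 1 → ex x = ε * (if IsSq x then 1 else δ) := by
    by_cases hsq : ∃ y : S, IsSq y ∧ y ≠ 1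
    · obtain ⟨y, hy, hy1⟩ := hsq
      by_cases hs1 : (⟨s, hsS⟩ : S) = 1
      · exfalso
        have := hgen y
        rw [hs1, Subgroup.zpowers_one_eq_bot, Subgroup.mem_bot] at this
        exact hy1 this
      refine ⟨ex y, ex y * ex (⟨s, hsS⟩ : S), (hx y hy1).1, ?_, fun x hx1 => ?_⟩
      · rw [mul_mul_mul_comm, hunit y hy1, hunit _ hs1, mul_one]
      · split_ifs with h
        · rw [mul_one, eq_on_squares hstep hdbl h hx1 hy hy1]
        · rw [eq_on_nonsquares hstep hgen hgal h, ← mul_assoc, hunit y hy1, one_mul]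
    · by_cases hs1 : (⟨s, hsS⟩ : S) = 1
      · refine ⟨ε₀, 1, hβ.1, mul_one _, fun x hx1 => absurd ?_ hx1⟩
        have := hgen x
        rwa [hs1, Subgroup.zpowers_one_eq_bot, Subgroup.mem_bot] at this
      refine ⟨ex (⟨s, hsS⟩ : S), 1, (hx _ hs1).1, mul_one _, fun x hx1 => ?_⟩
      have h : ¬ IsSq x := fun h => hsq ⟨x, h, hx1⟩
      rw [eq_on_nonsquares hstep hgen hgal h, if_neg h, mul_one]
  have hδ' : δ = 1 ∨ δ = -1 := mul_self_eq_one_iff.1 hδ
  let μf : S →* ℂ :=
    { toFun := fun x => ((if IsSq x then (1 : ℤ) else δ : ℤ) : ℂ)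
      map_one' := by rw [if_pos isSq_one]; simp
      map_mul' := fun x y => by rw [sqSign_mul hδ, Int.cast_mul] }
  have hμ : Cfsg.IsIrrCharacter S (fun x => μf x) := by
    simpa using CfsgLib.Char.isIrrCharacter_monoidHom μf.toHomUnits
  have hμsq : ∀ x : S, μf x * μf x = 1 := by
    intro x
    simp only [μf, MonoidHom.coe_mk, OneHom.coe_mk]
    split_ifs
    · simp
    · exact_mod_cast hδ
  have hconj : ∀ x : S, conj (μf x) = μf x := fun x => by
    simp only [μf, MonoidHom.coe_mk, OneHom.coe_mk, map_intCast]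
  refine ⟨ε, hε, ⟨fun x => μf x, CfsgLib.Char.IsIrrCharacter.isCharacter hμ, map_one _, hμsq,
    fun c x hx1 => ?_⟩, ?_⟩
  · rw [(hx x hx1).2 c, hbs x hx1, hex x hx1]
    simp only [μf, MonoidHom.coe_mk, OneHom.coe_mk]
    push_cast
    ring
  -- multiplicities modulo the order of `S`
  have hn0 : (Nat.card S : ℂ) ≠ 0 := by exact_mod_cast Nat.card_pos.ne'
  have hdiv : ∀ γ, ∃ t : ℤ, (m γ : ℤ) = Nat.card S * t + (if γ = β then ε else 0) := by
    intro γ
    obtain ⟨k, hk⟩ := CfsgLib.Char.IsCharacter.exists_nat_classInner (hA γ) hμ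
    refine ⟨(k : ℤ) - (if γ = β then ε else 0), ?_⟩
    have hsum : ∑ x : S, A γ x * conj (μf x) =
        (m γ : ℂ) + ((Nat.card S : ℂ) - 1) * ((if γ = β then ε else 0 : ℤ) : ℂ) := by
      rw [← Finset.add_sum_erase _ _ (Finset.mem_univ (1 : S)), hm, map_one, map_one, mul_one]
      congr 1
      rw [Finset.sum_congr rfl (g := fun _ => ((if γ = β then ε else 0 : ℤ) : ℂ))
        (fun x hx0 => by
          have hx1 : x ≠ 1 := (Finset.mem_erase.1 hx0).1
          by_cases hγ : γ = β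
          · subst hγ
            rw [if_pos rfl, hvalβ x hx1, hconj, hex x hx1, Int.cast_mul,
              show (((if IsSq x then (1 : ℤ) else δ) : ℤ) : ℂ) = μf x from rfl, mul_assoc,
              hμsq, mul_one]
          · rw [if_neg hγ, hvalne x hx1 γ hγ, zero_mul, Int.cast_zero]),
        Finset.sum_const, Finset.card_erase_of_mem (Finset.mem_univ _), Finset.card_univ,
        nsmul_eq_mul, Nat.cast_sub (Fintype.card_pos), Nat.cast_one, Nat.card_eq_fintype_card]
    rw [classInner, hsum, inv_mul_eq_div, div_eq_iff hn0] at hk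
    have : ((m γ : ℤ) : ℂ) = ((Nat.card S * ((k : ℤ) - (if γ = β then ε else 0)) +
        (if γ = β then ε else 0) : ℤ) : ℂ) := by
      split_ifs with hγ
      · simp only [if_pos hγ] at hk
        push_cast
        linear_combination hk
      · simp only [if_neg hγ] at hk
        push_cast at hk ⊢
        linear_combination hk
    exact_mod_cast this
  choose t ht using hdiv
  have htn : ∀ γ, 0 ≤ t γ := by
    intro γ
    have h := ht γ
    have hS : (1 : ℤ) ≤ Nat.card S := by exact_mod_cast Nat.card_pos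
    by_contra hneg
    push Not at hneg
    have h2 : (Nat.card S : ℤ) * t γ ≤ -1 := by nlinarith
    split_ifs at h with hγ
    · subst hγ
      rcases hε with rfl | rfl <;> omega
    · omega
  refine ⟨∑ γ : IrrCharacter C, (t γ).toNat • (γ : C → ℂ),
    CfsgLib.Char.IsCharacter.sum _ _ fun γ _ =>
      CfsgLib.Char.IsCharacter.nsmul (CfsgLib.Char.IsIrrCharacter.isCharacter γ.2) _, ?_⟩
  have hexp := CfsgLib.Char.IsCharacter.eq_sum_classInner
    (CfsgLib.Char.IsCharacter.comp (CfsgLib.Char.IsIrrCharacter.isCharacter χ.2)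
      (Subgroup.inclusion D.le_fixed))
  funext c
  have hc := congrFun hexp c
  simp only [Finset.sum_apply, Pi.smul_apply, smul_eq_mul] at hc
  rw [show (χ : G → ℂ) ⟨c, D.le_fixed c.2⟩ = (χ : G → ℂ) (Subgroup.inclusion D.le_fixed c) from rfl,
    hc, Finset.sum_apply, Finset.mul_sum,
    show (ε : ℂ) * (β : C → ℂ) c =
      ∑ γ : IrrCharacter C, if γ = β then (ε : ℂ) * (γ : C → ℂ) c else 0 by
        rw [Finset.sum_ite_eq' Finset.univ β (fun γ => (ε : ℂ) * (γ : C → ℂ) c),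
          if_pos (Finset.mem_univ β)],
    ← Finset.sum_add_distrib]
  refine Finset.sum_congr rfl fun γ _ => ?_
  have h1 : classInner (fun c : C => (χ : G → ℂ) (Subgroup.inclusion D.le_fixed c)) (γ : C → ℂ) =
      ((m γ : ℤ) : ℂ) := by
    rw [Int.cast_natCast, ← hm γ, ← hres γ]
    rfl
  rw [h1, ht γ, Pi.smul_apply, nsmul_eq_mul,
    show ((t γ).toNat : ℂ) = ((t γ : ℤ) : ℂ) by
      rw [← Int.cast_natCast, Int.toNat_of_nonneg (htn γ)]]
  split_ifs <;> push_cast <;> ring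

end CyclicSetting

end CfsgLib.Glauberman
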