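import Cfsg.Agent.Lib.Glauberman.LayerAbelian

/-!
# Fully ramified sections under a cyclic fixed point free action

The values of an extension on the outer cosets have mean square one, so the multiplicities of the
linear twists on the cyclic complement differ in one place only.
-/

set_option autoImplicit false

namespace CfsgLib.Glauberman

open Cfsg CfsgLib
open scoped ComplexConjugate

universe u

/-- Nearly constant multiplicities. -/
theorem dvd_sub_or_add_of_sum_sq {ι : Type u} [Fintype ι] (a : ι → ℤ) (e : ℤ)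
    (hn : 2 ≤ Fintype.card ι) (hsum : ∑ i, a i = e)
    (hsq : (Fintype.card ι : ℤ) * ∑ i, a i ^ 2 = e ^ 2 + ((Fintype.card ι : ℤ) - 1)) :
    (Fintype.card ι : ℤ) ∣ e - 1 ∨ (Fintype.card ι : ℤ) ∣ e + 1 := by
  classical
  haveI : Nonempty ι := Fintype.card_pos_iff.1 (by omega)
  obtain ⟨i₀, -, hmin⟩ := Finset.exists_min_image Finset.univ a Finset.univ_nonempty
  set n : ℤ := (Fintype.card ι : ℤ) with hn'
  set b : ι → ℤ := fun i => a i - a i₀ with hb
  set s : Finset ι := Finset.univ.filter fun i => b i ≠ 0 with hs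
  set S : ℤ := ∑ i, b i with hS
  set Q : ℤ := ∑ i, b i ^ 2 with hQ
  have hSe : S = e - n * a i₀ := by
    rw [hS, hb, Finset.sum_sub_distrib, hsum, Finset.sum_const, nsmul_eq_mul, Finset.card_univ]
  have hQe : Q = (∑ i, a i ^ 2) - 2 * a i₀ * e + n * a i₀ ^ 2 := by
    rw [hQ, hb]
    simp only [sub_sq, Finset.sum_add_distrib, Finset.sum_sub_distrib, Finset.sum_const,
      nsmul_eq_mul, Finset.card_univ]
    rw [← Finset.sum_mul, ← Finset.mul_sum, hsum]
    ring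
  have hkey : n * Q = S ^ 2 + (n - 1) := by
    rw [hQe, hSe]
    linear_combination hsq
  have hb0 : ∀ i, 0 ≤ b i := fun i => sub_nonneg.2 (hmin i (Finset.mem_univ i))
  have hSs : S = ∑ i ∈ s, b i := (Finset.sum_filter_ne_zero Finset.univ).symm
  have hQs : Q = ∑ i ∈ s, b i ^ 2 := by
    refine (Finset.sum_subset (Finset.subset_univ s) fun i _ hi => ?_).symm
    have h0 : b i = 0 := by simpa [hs] using hi
    rw [h0]; ring
  have hcs : S ^ 2 ≤ (s.card : ℤ) * Q := by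
    rw [hSs, hQs]; exact sq_sum_le_card_mul_sum_sq
  have hone : ∀ i ∈ s, (1 : ℤ) ≤ b i ^ 2 := fun i hi => by
    have h1 : 0 < b i := lt_of_le_of_ne (hb0 i) (Ne.symm (Finset.mem_filter.1 hi).2)
    nlinarith
  have hkQ : (s.card : ℤ) ≤ Q := by
    rw [hQs]
    calc (s.card : ℤ) = ∑ i ∈ s, (1 : ℤ) := by simp
      _ ≤ _ := Finset.sum_le_sum hone
  have hkn : s.card < Fintype.card ι := Finset.card_lt_univ_of_notMem
    (x := i₀) fun h => (Finset.mem_filter.1 h).2 (sub_self _)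
  set k : ℤ := (s.card : ℤ) with hk
  have hkn' : k ≤ n - 1 := by omega
  have hn2 : (2 : ℤ) ≤ n := by omega
  have hle : (n - k) * Q ≤ n - 1 := by nlinarith
  have hkk : (k - 1) * (n - k - 1) ≤ 0 := by nlinarith
  have hk0 : 1 ≤ k := by
    rcases Nat.eq_zero_or_pos s.card with h | h
    · rw [Finset.card_eq_zero] at h
      rw [h, Finset.sum_empty] at hSs hQs
      rw [hSs, hQs] at hkey
      omega
    · omega
  rcases Classical.em (k = 1) with h1 | h1
  · left
    obtain ⟨j, hj⟩ := Finset.card_eq_one.1 (show s.card = 1 by omega)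
    rw [hj, Finset.sum_singleton] at hSs hQs
    rw [hSs, hQs] at hkey
    have hj1 : b j = 1 := by
      have h2 : (n - 1) * (b j ^ 2 - 1) = 0 := by linarith
      rcases mul_eq_zero.1 h2 with h | h
      · omega
      · have := hb0 j
        nlinarith
    exact ⟨a i₀, by rw [← hj1, ← hSs, hSe]; ring⟩
  · right
    have hkn1 : k = n - 1 := by
      by_contra hne
      have := mul_pos (show (0 : ℤ) < k - 1 by omega) (show (0 : ℤ) < n - k - 1 by omega)
      linarith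
    have hQn : Q = k := by
      have : (n - k) * Q ≤ n - 1 := hle
      rw [hkn1] at this ⊢
      nlinarith
    have hall : ∀ i ∈ s, b i = 1 := by
      intro i hi
      have h2 : ∑ j ∈ s, (1 : ℤ) = ∑ j ∈ s, b j ^ 2 := by rw [← hQs, hQn]; simp [hk]
      have h3 := (Finset.sum_eq_sum_iff_of_le hone).1 h2 i hi
      have := hb0 i
      nlinarith
    have hSk : S = k := by rw [hSs, Finset.sum_congr rfl hall]; simp [hk]
    exact ⟨a i₀ + 1, by rw [hSe] at hSk; rw [mul_add, mul_one]; omega⟩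

variable {Γ : Type u} [Group Γ] [Fintype Γ] (G : Subgroup Γ) [G.Normal] [Fintype G]

/-- An extension has mean square one on each coset. -/
theorem sum_coset_normSq (hc : ∀ a b : Γ ⧸ G, a * b = b * a) {ξ : Γ → ℂ}
    (hξ : IsIrrCharacter Γ ξ) (hres : IsIrrCharacter G fun g : G => ξ g) (h : Γ) :
    ∑ g : G, ξ (h * g) * conj (ξ (h * g)) = (Nat.card G : ℂ) := by
  classical
  letI : CommGroup (Γ ⧸ G) := { (inferInstance : Group (Γ ⧸ G)) with mul_comm := hc }
  haveI : NeZero (Monoid.exponent (Γ ⧸ G)) := ⟨Monoid.exponent_ne_zero_of_finite⟩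
  haveI := Fintype.ofFinite (Γ ⧸ G →* ℂˣ)
  obtain ⟨-, hinj, -⟩ := CharDeep.Gal.quotient_bijection G hξ hres
  have horth : ∀ l : Γ ⧸ G →* ℂˣ,
      classInner (fun y : Γ => ((l (y : Γ ⧸ G) : ℂˣ) : ℂ) * ξ y) ξ = if l = 1 then 1 else 0 := by
    intro l
    split_ifs with hl
    · subst hl
      simp only [MonoidHom.one_apply, Units.val_one, one_mul]
      exact Char.classInner_irr_self hξ
    · refine Char.classInner_irr_of_ne
        (Char.IsIrrCharacter.linear_mul hξ (l.comp (QuotientGroup.mk' G))) hξ fun he => hl ?_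
      have h2 := hinj _ _ (Char.isIrrCharacter_linear l) (Char.isIrrCharacter_linear 1) (by
        funext y
        simp only [Pi.mul_apply, Function.comp_apply, MonoidHom.one_apply, Units.val_one, one_mul]
        exact congrFun he y)
      exact MonoidHom.ext fun q => Units.ext (congrFun h2 q)
  have key : ∑ l : Γ ⧸ G →* ℂˣ, ((l (h : Γ ⧸ G)⁻¹ : ℂˣ) : ℂ) *
      classInner (fun y : Γ => ((l (y : Γ ⧸ G) : ℂˣ) : ℂ) * ξ y) ξ = 1 := by
    simp only [horth, mul_ite, mul_one, mul_zero, Finset.sum_ite_eq', Finset.mem_univ, if_true,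
      MonoidHom.one_apply, Units.val_one]
  simp only [classInner, Finset.mul_sum] at key
  rw [Finset.sum_comm] at key
  have hterm : ∀ y : Γ, ∑ l : Γ ⧸ G →* ℂˣ, ((l (h : Γ ⧸ G)⁻¹ : ℂˣ) : ℂ) *
      ((Nat.card Γ : ℂ)⁻¹ * (((l (y : Γ ⧸ G) : ℂˣ) : ℂ) * ξ y * conj (ξ y))) =
      if h⁻¹ * y ∈ G then (G.index : ℂ) / (Nat.card Γ : ℂ) * (ξ y * conj (ξ y)) else 0 := by
    intro y
    have e1 : ∀ l : Γ ⧸ G →* ℂˣ, ((l (h : Γ ⧸ G)⁻¹ : ℂˣ) : ℂ) *
        ((Nat.card Γ : ℂ)⁻¹ * (((l (y : Γ ⧸ G) : ℂˣ) : ℂ) * ξ y * conj (ξ y))) =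
        ((l ((h⁻¹ * y : Γ) : Γ ⧸ G) : ℂˣ) : ℂ) * ((Nat.card Γ : ℂ)⁻¹ * (ξ y * conj (ξ y))) := by
      intro l
      rw [QuotientGroup.mk_mul, QuotientGroup.mk_inv, map_mul, Units.val_mul]
      ring
    rw [Finset.sum_congr rfl fun l _ => e1 l, ← Finset.sum_mul, sum_dual_eq]
    simp only [QuotientGroup.eq_one_iff]
    split_ifs
    · rw [Subgroup.index]; ring
    · rw [zero_mul]
  rw [Finset.sum_congr rfl fun y _ => hterm y, ← Finset.sum_filter] at key
  have hre : ∑ y ∈ Finset.univ.filter (fun y : Γ => h⁻¹ * y ∈ G),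
      (G.index : ℂ) / (Nat.card Γ : ℂ) * (ξ y * conj (ξ y)) =
      ∑ g : G, (G.index : ℂ) / (Nat.card Γ : ℂ) * (ξ (h * g) * conj (ξ (h * g))) :=
    (Finset.sum_bij (fun (g : G) _ => h * (g : Γ)) (fun g _ => by simp)
      (fun a _ b _ hab => Subtype.ext (mul_left_cancel hab))
      (fun y hy => ⟨⟨h⁻¹ * y, (Finset.mem_filter.1 hy).2⟩, Finset.mem_univ _,
        mul_inv_cancel_left h y⟩) (fun g _ => rfl)).symm
  rw [hre, ← Finset.mul_sum, ← Subgroup.index_mul_card G, Nat.cast_mul] at key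
  have h1 : (G.index : ℂ) ≠ 0 := Nat.cast_ne_zero.2 Subgroup.index_ne_zero_of_finite
  have h2 : (Nat.card G : ℂ) ≠ 0 := Nat.cast_ne_zero.2 Nat.card_pos.ne'
  field_simp at key
  linear_combination key

variable (N : Subgroup Γ) [N.Normal] [Fintype N]

/-- On an outer coset the mean square is constant across the cosets of `N`. -/
theorem sum_outer_coset (hc : ∀ a b : Γ ⧸ G, a * b = b * a) (hNG : N ≤ G)
    (hfrob : ∀ x : Γ, x ∉ G → ∀ g : Γ, g ∈ G → x * g * x⁻¹ * g⁻¹ ∈ N → g ∈ N) {ξ : Γ → ℂ}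
    (hξ : IsIrrCharacter Γ ξ) (hres : IsIrrCharacter G fun g : G => ξ g) (h : Γ) (hh : h ∉ G) :
    ∑ m : N, ξ (h * m) * conj (ξ (h * m)) = (Nat.card N : ℂ) := by
  classical
  set N' := N.subgroupOf G with hN'
  haveI := Fintype.ofFinite (G ⧸ N')
  let f : (G ⧸ N') × N → G := fun x => ⟨h⁻¹ * ((x.1.out : G) : Γ) * h *
    ((x.1.out : G) : Γ)⁻¹ * (x.2 : Γ), by
      have h1 := (inferInstance : G.Normal).conj_mem _ (x.1.out).2 h⁻¹
      rw [inv_inv] at h1
      exact mul_mem (mul_mem h1 (inv_mem (x.1.out).2)) (hNG x.2.2)⟩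
  have hf : Function.Bijective f := by
    rw [Fintype.bijective_iff_injective_and_card]
    refine ⟨?_, ?_⟩
    · rintro ⟨q, m⟩ ⟨q', m'⟩ he
      have he' : h⁻¹ * ((q.out : G) : Γ) * h * ((q.out : G) : Γ)⁻¹ * (m : Γ) =
          h⁻¹ * ((q'.out : G) : Γ) * h * ((q'.out : G) : Γ)⁻¹ * (m' : Γ) := congrArg Subtype.val he
      set u : Γ := ((q.out : G) : Γ) with hu
      set v : Γ := ((q'.out : G) : Γ) with hv
      have hw : v⁻¹ * u ∈ N := by
        refine hfrob h⁻¹ (fun hi => hh (by simpa using inv_mem hi)) _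
          (mul_mem (inv_mem q'.out.2) q.out.2) ?_
        have e1 : h⁻¹ * (v⁻¹ * u) * h⁻¹⁻¹ * (v⁻¹ * u)⁻¹ =
            h⁻¹ * v⁻¹ * h * (h⁻¹ * u * h * u⁻¹ * (m : Γ)) * (m : Γ)⁻¹ * v := by group
        rw [e1, he']
        have h3 := (inferInstance : N.Normal).conj_mem _ (mul_mem m'.2 (inv_mem m.2)) v⁻¹
        simpa [mul_assoc] using h3
      have hq : q = q' := by
        rw [← QuotientGroup.out_eq' q, ← QuotientGroup.out_eq' q']
        refine (QuotientGroup.eq.2 ?_).symm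
        exact hw
      subst hq
      exact Prod.ext rfl (Subtype.ext (mul_left_cancel he'))
    · rw [Fintype.card_prod, ← Nat.card_eq_fintype_card, ← Nat.card_eq_fintype_card,
        ← Nat.card_eq_fintype_card,
        ← Nat.card_congr (Subgroup.subgroupOfEquivOfLe hNG).toEquiv,
        ← Subgroup.card_eq_card_quotient_mul_card_subgroup]
  have hkey := sum_coset_normSq G hc hξ hres h
  rw [← (Equiv.ofBijective f hf).sum_comp, Fintype.sum_prod_type] at hkey
  have hinner : ∀ q : G ⧸ N', ∑ m : N,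
      ξ (h * ((Equiv.ofBijective f hf (q, m) : G) : Γ)) *
        conj (ξ (h * ((Equiv.ofBijective f hf (q, m) : G) : Γ))) =
      ∑ m : N, ξ (h * m) * conj (ξ (h * m)) := by
    intro q
    refine Fintype.sum_equiv (MulAut.conjNormal (H := N) ((q.out : G) : Γ)⁻¹).toEquiv _ _ fun m => ?_
    have e1 : h * ((Equiv.ofBijective f hf (q, m) : G) : Γ) = ((q.out : G) : Γ) *
        (h * ((MulAut.conjNormal (H := N) ((q.out : G) : Γ)⁻¹ m : N) : Γ)) *
          ((q.out : G) : Γ)⁻¹ := by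
      simp [f, mul_assoc]
    rw [e1, Char.IsIrrCharacter.isClassFunction hξ]
    rfl
  rw [Finset.sum_congr rfl fun q _ => hinner q, Finset.sum_const, Finset.card_univ, nsmul_eq_mul,
    Subgroup.card_eq_card_quotient_mul_card_subgroup N', Nat.card_eq_fintype_card (α := G ⧸ N'),
    Nat.card_congr (Subgroup.subgroupOfEquivOfLe hNG).toEquiv, Nat.cast_mul] at hkey
  exact mul_left_cancel₀ (Nat.cast_ne_zero.2 Fintype.card_ne_zero) hkey

/-- The congruence for the ramification index. -/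
theorem ramified_congr (hNG : N ≤ G) (hGlt : G ≠ ⊤) (hcyc : IsCyclic (Γ ⧸ G))
    (hfrob : ∀ x : Γ, x ∉ G → ∀ g : Γ, g ∈ G → x * g * x⁻¹ * g⁻¹ ∈ N → g ∈ N)
    (θ : IrrCharacter N) (hθ : ∀ x, CharTwist.conjFun N (θ : N → ℂ) x = (θ : N → ℂ))
    {ξ : Γ → ℂ} (hξ : IsIrrCharacter Γ ξ) (hres : IsIrrCharacter G fun g : G => ξ g) (e : ℕ)
    (hξN : ∀ m : N, ξ m = (e : ℂ) * (θ : N → ℂ) m) :
    (G.index : ℤ) ∣ (e : ℤ) - 1 ∨ (G.index : ℤ) ∣ (e : ℤ) + 1 := by
  classical
  have hc : ∀ a b : Γ ⧸ G, a * b = b * a := by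
    haveI := hcyc
    letI := IsCyclic.commGroup (α := Γ ⧸ G)
    exact fun a b => mul_comm a b
  obtain ⟨x₀, hx₀⟩ : ∃ x : Γ, ∀ q : Γ ⧸ G, q ∈ Subgroup.zpowers (x : Γ ⧸ G) := by
    obtain ⟨q, hq⟩ := hcyc.exists_generator
    obtain ⟨x, rfl⟩ := QuotientGroup.mk_surjective q
    exact ⟨x, hq⟩
  have hx₀G : x₀ ∉ G := fun h => hGlt (eq_top_iff.2 fun y _ => by
    have h1 := hx₀ y
    rw [(QuotientGroup.eq_one_iff x₀).2 h, Subgroup.zpowers_one_eq_bot, Subgroup.mem_bot,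
      QuotientGroup.eq_one_iff] at h1
    exact h1)
  set H : Subgroup Γ := N ⊔ Subgroup.zpowers x₀ with hH
  have hNH : N ≤ H := le_sup_left
  have hHG : ∀ y ∈ H, y ∈ G → y ∈ N := by
    intro y hy hyG
    obtain ⟨m, hm, z, hz, rfl⟩ := Subgroup.mem_sup_of_normal_left.1 hy
    obtain ⟨k, rfl⟩ := Subgroup.mem_zpowers_iff.1 hz
    refine mul_mem hm (hfrob x₀ hx₀G _ ?_ ?_)
    · exact (Subgroup.mul_mem_cancel_left G (hNG hm)).1 hyG
    · rw [← zpow_one_add, ← zpow_sub_one, add_sub_cancel_left, mul_inv_cancel]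
      exact one_mem _
  haveI := Fintype.ofFinite H
  set N' := N.subgroupOf H with hN'
  haveI := Fintype.ofFinite N'
  let π : H ⧸ N' →* Γ ⧸ G := QuotientGroup.map N' G H.subtype fun y hy => hNG hy
  have hπ : Function.Bijective π := by
    constructor
    · intro a b
      obtain ⟨a, rfl⟩ := QuotientGroup.mk_surjective a
      obtain ⟨b, rfl⟩ := QuotientGroup.mk_surjective b
      intro hab
      have h1 : ((a : Γ) : Γ ⧸ G) = ((b : Γ) : Γ ⧸ G) := hab
      exact QuotientGroup.eq.2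
        (hHG _ (H.mul_mem (H.inv_mem a.2) b.2) (QuotientGroup.eq.1 h1))
    · intro q
      obtain ⟨k, rfl⟩ := Subgroup.mem_zpowers_iff.1 (hx₀ q)
      exact ⟨((⟨x₀ ^ k, Subgroup.mem_sup_right (Subgroup.zpow_mem _ (Subgroup.mem_zpowers x₀) k)⟩ :
        H) : H ⧸ N'), (QuotientGroup.mk_zpow G x₀ k)⟩
  have hcH : ∀ a b : H ⧸ N', a * b = b * a := fun a b => hπ.1 (by rw [map_mul, map_mul, hc])
  have hidx : N'.index = G.index := Nat.card_congr (Equiv.ofBijective π hπ)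
  let ee : N' ≃* N := Subgroup.subgroupOfEquivOfLe hNH
  have hθ' : IsIrrCharacter N' ((θ : N → ℂ) ∘ ee) := CharTwist.isIrrCharacter_comp_equiv θ.2 ee
  have hθ'inv : ∀ (g : H) (n : N'),
      ((θ : N → ℂ) ∘ ee) ⟨g * n * g⁻¹, Subgroup.Normal.conj_mem inferInstance (n : H) n.2 g⟩ =
        ((θ : N → ℂ) ∘ ee) n :=
    fun g n => (congrArg (θ : N → ℂ) (Subtype.ext rfl)).trans (congrFun (hθ (g : Γ)) (ee n))
  haveI : IsCyclic (H ⧸ N') := by
    haveI := hcyc
    exact (MulEquiv.ofBijective π hπ).isCyclic.2 hcyc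
  obtain ⟨η₀, hη₀, hη₀N⟩ :=
    CharDeep.Extend.extends_of_cyclic N' ((θ : N → ℂ) ∘ ee) hθ' hθ'inv inferInstance
  have hη₀r : (fun m : N' => η₀ m) = (θ : N → ℂ) ∘ ee := funext hη₀N
  obtain ⟨hq1, hq2, hq3⟩ := CharDeep.Gal.quotient_bijection N' hη₀ (by rw [hη₀r]; exact hθ')
  rw [hη₀r] at hq1 hq3
  let Y := {κ : IrrCharacter H //
    classInner (fun m : N' => (κ : H → ℂ) m) ((θ : N → ℂ) ∘ ee) ≠ 0}
  haveI := Fintype.ofFinite Y
  have hYcard : Fintype.card Y = G.index := by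
    let fY : IrrCharacter (H ⧸ N') → Y := fun β => ⟨⟨_, (hq1 β β.2).1⟩, (hq1 β β.2).2⟩
    have hfY : Function.Bijective fY := ⟨fun β β' hh =>
      Subtype.ext (hq2 β β' β.2 β'.2 (congrArg (fun κ : Y => (κ.1 : H → ℂ)) hh)), fun κ => by
        obtain ⟨β, hβ, hb⟩ := hq3 _ κ.1.2 κ.2
        exact ⟨⟨β, hβ⟩, Subtype.ext (Subtype.ext hb)⟩⟩
    have hconj : Function.Bijective (ConjClasses.mk : H ⧸ N' → _) :=
      ⟨fun a b hab => by
        obtain ⟨c, hc'⟩ := isConj_iff.1 (ConjClasses.mk_eq_mk_iff_isConj.1 hab)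
        rwa [hcH c a, mul_inv_cancel_right] at hc', fun K => ConjClasses.exists_rep K⟩
    rw [← Nat.card_eq_fintype_card, ← Nat.card_congr (Equiv.ofBijective fY hfY),
      Char.card_irrCharacter, ← Nat.card_congr (Equiv.ofBijective _ hconj), ← hidx]
    rfl
  have hdegY : ∀ κ : Y, (κ.1 : H → ℂ) 1 = (θ : N → ℂ) 1 := by
    intro κ
    obtain ⟨β, hβ, hb⟩ := hq3 _ κ.1.2 κ.2
    rw [← hb]
    show β ((1 : H) : H ⧸ N') * η₀ ((1 : N') : H) = _
    rw [hη₀N, QuotientGroup.mk_one, (CharOver.abelian_irr hcH hβ).1, one_mul]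
    exact congrArg (θ : N → ℂ) (map_one ee)
  obtain ⟨m, hm⟩ := Char.IsCharacter.exists_nat_combination
    (Char.IsCharacter.restrict (Char.IsIrrCharacter.isCharacter hξ) H)
  have hsupp : ∀ κ : IrrCharacter H, m κ ≠ 0 →
      classInner (fun x : N' => (κ : H → ℂ) x) ((θ : N → ℂ) ∘ ee) ≠ 0 := by
    intro κ hκ
    obtain ⟨ψ₁, hψ₁, hne⟩ := Clifford.exists_constituent_res N' κ.2
    have hψθ : ψ₁ = (θ : N → ℂ) ∘ ee := by
      by_contra hne'
      have h0 : classInner (ξ ∘ H.subtype ∘ N'.subtype) ψ₁ ≠ 0 := by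
        refine inner_ne_zero_trans H.subtype N'.subtype
          (Char.IsIrrCharacter.isCharacter hξ) κ.2 hψ₁ ?_ hne
        show classInner (fun x : H => ξ x) (κ : H → ℂ) ≠ 0
        rw [hm, Char.classInner_sum_smul_irr (fun γ => (m γ : ℂ)) κ]
        exact_mod_cast hκ
      apply h0
      rw [show ξ ∘ H.subtype ∘ N'.subtype = (e : ℂ) • ((θ : N → ℂ) ∘ ee) from
        funext fun x => hξN (ee x), Char.classInner_smul_left,
        Char.classInner_irr_of_ne hθ' hψ₁ (Ne.symm hne'), mul_zero]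
    exact hψθ ▸ hne
  have hθ1 : (θ : N → ℂ) 1 ≠ 0 := Char.IsIrrCharacter.apply_one_ne_zero θ.2
  have hsum : ∑ κ : Y, (m κ.1 : ℂ) = (e : ℂ) := by
    refine mul_right_cancel₀ hθ1 ?_
    have h1 := congrFun hm 1
    simp only [Finset.sum_apply, Pi.smul_apply, smul_eq_mul, OneMemClass.coe_one] at h1
    rw [← hξN 1, OneMemClass.coe_one, h1, Finset.sum_mul]
    rw [← Finset.sum_filter_of_ne (p := fun κ : IrrCharacter H =>
        classInner (fun x : N' => (κ : H → ℂ) x) ((θ : N → ℂ) ∘ ee) ≠ 0)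
        (fun κ _ h => hsupp κ fun h0 => h (by rw [h0, Nat.cast_zero, zero_mul])),
      Finset.sum_subtype (p := fun κ : IrrCharacter H =>
        classInner (fun x : N' => (κ : H → ℂ) x) ((θ : N → ℂ) ∘ ee) ≠ 0) _ (fun κ => by simp)]
    exact Finset.sum_congr rfl fun κ _ => by rw [hdegY κ]
  have hnorm : classInner (fun x : H => ξ x) (fun x : H => ξ x) = ∑ κ : Y, (m κ.1 : ℂ) ^ 2 := by
    rw [hm, Char.classInner_sum_smul_sum_smul]
    rw [← Finset.sum_filter_of_ne (p := fun κ : IrrCharacter H =>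
        classInner (fun x : N' => (κ : H → ℂ) x) ((θ : N → ℂ) ∘ ee) ≠ 0)
        (fun κ _ h => hsupp κ fun h0 => h (by rw [h0, Nat.cast_zero, zero_mul])),
      Finset.sum_subtype (p := fun κ : IrrCharacter H =>
        classInner (fun x : N' => (κ : H → ℂ) x) ((θ : N → ℂ) ∘ ee) ≠ 0) _ (fun κ => by simp)]
    exact Finset.sum_congr rfl fun κ _ => by rw [map_natCast, sq]
  haveI := Fintype.ofFinite (H ⧸ N')
  have hθnorm := Char.classInner_irr_self θ.2
  rw [classInner, inv_mul_eq_one₀ (Nat.cast_ne_zero.2 Nat.card_pos.ne')] at hθnorm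
  have htot : ∑ x : H, ξ x * conj (ξ x) =
      (e : ℂ) ^ 2 * (Nat.card N : ℂ) + ((G.index : ℂ) - 1) * (Nat.card N : ℂ) := by
    rw [sum_eq_sum_out N', ← Finset.add_sum_erase _ _ (Finset.mem_univ (1 : H ⧸ N'))]
    congr 1
    · have hmem : (1 : H ⧸ N').out ∈ N' := by
        rw [← QuotientGroup.eq_one_iff, QuotientGroup.out_eq']
      rw [hθnorm, Finset.mul_sum]
      refine Fintype.sum_equiv ((Equiv.mulLeft (⟨_, hmem⟩ : N')).trans ee.toEquiv) _ _ fun x => ?_
      have h1 : ξ (((1 : H ⧸ N').out * (x : H) : H) : Γ) =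
          (e : ℂ) * (θ : N → ℂ) (ee (⟨_, hmem⟩ * x)) := by rw [← hξN]; rfl
      rw [h1, map_mul (starRingEnd ℂ), map_natCast]
      show _ = (e : ℂ) ^ 2 * ((θ : N → ℂ) (ee (⟨_, hmem⟩ * x)) *
        conj ((θ : N → ℂ) (ee (⟨_, hmem⟩ * x))))
      ring
    · have hq : ∀ q ∈ (Finset.univ : Finset (H ⧸ N')).erase 1,
          ∑ x : N', ξ ((q.out * (x : H) : H) : Γ) * conj (ξ ((q.out * (x : H) : H) : Γ)) =
            (Nat.card N : ℂ) := by
        intro q hq
        rw [← sum_outer_coset G N hc hNG hfrob hξ hres ((q.out : H) : Γ) fun h =>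
          (Finset.mem_erase.1 hq).1 (by
            rw [← QuotientGroup.out_eq' q]
            exact (QuotientGroup.eq_one_iff _).2 (hHG _ q.out.2 h))]
        exact Fintype.sum_equiv ee.toEquiv _ _ fun x => rfl
      rw [Finset.sum_congr rfl hq, Finset.sum_const, Finset.card_erase_of_mem (Finset.mem_univ _),
        Finset.card_univ, ← Nat.card_eq_fintype_card, nsmul_eq_mul,
        show Nat.card (H ⧸ N') = G.index from hidx,
        Nat.cast_sub (Nat.pos_of_ne_zero Subgroup.index_ne_zero_of_finite), Nat.cast_one]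
  rw [classInner, htot] at hnorm
  have hcardH : (Nat.card H : ℂ) = (G.index : ℂ) * (Nat.card N : ℂ) := by
    rw [← Subgroup.index_mul_card N', hidx, Nat.card_congr ee.toEquiv, Nat.cast_mul]
  have hNne : (Nat.card N : ℂ) ≠ 0 := Nat.cast_ne_zero.2 Nat.card_pos.ne'
  have hGne : (G.index : ℂ) ≠ 0 := Nat.cast_ne_zero.2 Subgroup.index_ne_zero_of_finite
  rw [← hYcard]
  refine dvd_sub_or_add_of_sum_sq (fun κ : Y => (m κ.1 : ℤ)) (e : ℤ) ?_ ?_ ?_
  · rw [hYcard]
    have h1 : G.index ≠ 1 := fun h => hGlt (Subgroup.index_eq_one.1 h)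
    have h2 : G.index ≠ 0 := Subgroup.index_ne_zero_of_finite
    omega
  · exact_mod_cast hsum
  · rw [hYcard]
    have h3 : (G.index : ℂ) * ∑ κ : Y, (m κ.1 : ℂ) ^ 2 = (e : ℂ) ^ 2 + ((G.index : ℂ) - 1) := by
      rw [← hnorm, hcardH]
      field_simp
    exact_mod_cast h3

end CfsgLib.Glauberman
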