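import Cfsg.Agent.Lib.Glauberman.LayerBasic
import Cfsg.Agent.Lib.Glauberman.Conjugacy
import Cfsg.Agent.Lib.CharDeep.Clifford
import Cfsg.Agent.Lib.Char.Linear
import Mathlib.GroupTheory.FiniteAbelian.Duality
import Mathlib.RingTheory.RootsOfUnity.AlgebraicallyClosed
import Mathlib.Analysis.Complex.Polynomial.Basic

/-!
# A fixed character over an invariant character of an abelian coprime layer

The linear characters of the layer permute the characters over `θ` transitively, so a coprime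
group of automorphisms fixes one of them.
-/

set_option autoImplicit false

namespace CfsgLib.Glauberman

open Cfsg CfsgLib
open scoped ComplexConjugate

universe u

variable {G : Type u} [Group G] [Finite G] (N : Subgroup G) [N.Normal] [Fintype N]

/-- The dual of a finite abelian group separates its elements. -/
theorem sum_dual_eq {Q : Type u} [CommGroup Q] [Finite Q] [Fintype (Q →* ℂˣ)] (q : Q)
    [Decidable (q = 1)] :
    ∑ l : Q →* ℂˣ, ((l q : ℂˣ) : ℂ) = if q = 1 then (Nat.card Q : ℂ) else 0 := by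
  haveI : NeZero (Monoid.exponent Q) := ⟨Monoid.exponent_ne_zero_of_finite⟩
  split_ifs with h
  · subst h
    simp only [map_one, Units.val_one, Finset.sum_const, Finset.card_univ, nsmul_eq_mul, mul_one]
    rw [← Nat.card_eq_fintype_card, CommGroup.card_monoidHom_of_hasEnoughRootsOfUnity Q ℂ]
  · obtain ⟨l₀, hl₀⟩ := CommGroup.exists_apply_ne_one_of_hasEnoughRootsOfUnity Q ℂ h
    have hsum : ((l₀ q : ℂˣ) : ℂ) * ∑ l : Q →* ℂˣ, ((l q : ℂˣ) : ℂ) =
        ∑ l : Q →* ℂˣ, ((l q : ℂˣ) : ℂ) := by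
      rw [Finset.mul_sum]
      exact Fintype.sum_equiv (Equiv.mulLeft l₀) _ _ fun l => by simp
    have h1 : ((l₀ q : ℂˣ) : ℂ) - 1 ≠ 0 := sub_ne_zero.2 fun h1 => hl₀ (Units.ext h1)
    refine (mul_eq_zero.1 ?_).resolve_left h1
    rw [sub_mul, hsum, one_mul, sub_self]

/-- The linear characters of an abelian layer are transitive on the characters over `θ`. -/
theorem exists_dual_mul_eq {θ : IrrCharacter N}
    (hθinv : ∀ g, CharTwist.conjFun N (θ : N → ℂ) g = (θ : N → ℂ))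
    (hc : ∀ a b : G ⧸ N, a * b = b * a) {χ χ' : IrrCharacter G}
    (hχ : OverTop N (θ : N → ℂ) χ) (hχ' : OverTop N (θ : N → ℂ) χ') :
    ∃ l : G ⧸ N →* ℂˣ,
      (χ' : G → ℂ) = fun g : G => ((l (g : G ⧸ N) : ℂˣ) : ℂ) * (χ : G → ℂ) g := by
  classical
  haveI := Fintype.ofFinite G
  letI : CommGroup (G ⧸ N) := { (inferInstance : Group (G ⧸ N)) with mul_comm := hc }
  haveI : NeZero (Monoid.exponent (G ⧸ N)) := ⟨Monoid.exponent_ne_zero_of_finite⟩
  haveI := Fintype.ofFinite (G ⧸ N →* ℂˣ)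
  let tw : (G ⧸ N →* ℂˣ) → IrrCharacter G := fun l =>
    ⟨fun g => ((l (g : G ⧸ N) : ℂˣ) : ℂ) * (χ : G → ℂ) g,
      Char.IsIrrCharacter.linear_mul χ.2 (l.comp (QuotientGroup.mk' N))⟩
  suffices h : ∃ l, classInner (χ' : G → ℂ) (tw l : G → ℂ) ≠ 0 by
    obtain ⟨l, hl⟩ := h
    refine ⟨l, ?_⟩
    by_contra hne
    exact hl (Char.classInner_irr_of_ne χ'.2 (tw l).2 hne)
  by_contra hall
  push Not at hall
  obtain ⟨a, ha0, ha⟩ := CharDeep.Cliff.res_eq_smul N χ.2 θ.2 hθinv hχ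
  obtain ⟨b, hb0, hb⟩ := CharDeep.Cliff.res_eq_smul N χ'.2 θ.2 hθinv hχ'
  have h0 : ∑ l, classInner (χ' : G → ℂ) (tw l : G → ℂ) = 0 :=
    Finset.sum_eq_zero fun l _ => hall l
  simp only [classInner, tw] at h0
  rw [← Finset.mul_sum, Finset.sum_comm, mul_eq_zero, inv_eq_zero, Nat.cast_eq_zero] at h0
  have h1 := h0.resolve_left Nat.card_pos.ne'
  have hterm : ∀ g : G, ∑ l : G ⧸ N →* ℂˣ,
      (χ' : G → ℂ) g * conj (((l (g : G ⧸ N) : ℂˣ) : ℂ) * (χ : G → ℂ) g) =
      if g ∈ N then (Nat.card (G ⧸ N) : ℂ) * ((χ' : G → ℂ) g * conj ((χ : G → ℂ) g)) else 0 := by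
    intro g
    simp only [map_mul, ← mul_assoc]
    rw [← Finset.sum_mul, ← Finset.mul_sum, ← map_sum, sum_dual_eq (g : G ⧸ N)]
    simp only [QuotientGroup.eq_one_iff]
    split_ifs
    · rw [map_natCast]; ring
    · simp
  rw [Finset.sum_congr rfl fun g _ => hterm g, ← Finset.sum_filter,
    Finset.sum_subtype (p := fun g : G => g ∈ N) _ (fun g => by simp), ← Finset.mul_sum,
    mul_eq_zero, Nat.cast_eq_zero] at h1
  have h2 := h1.resolve_left Nat.card_pos.ne'
  have h3 : classInner (fun n : N => (χ' : G → ℂ) n) (fun n : N => (χ : G → ℂ) n) = 0 := by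
    rw [classInner, h2, mul_zero]
  rw [ha, hb, Char.classInner_smul_left, Char.classInner_smul_right,
    Char.classInner_irr_self θ.2] at h3
  simp [ha0.ne', hb0.ne'] at h3

variable {S : Type u} [Group S] (φ : S →* MulAut G)

/-- A coprime group fixes a character over `θ` when the layer is abelian. -/
theorem exists_fixed_over_abelian {θ : IrrCharacter N}
    (hθinv : ∀ g, CharTwist.conjFun N (θ : N → ℂ) g = (θ : N → ℂ))
    (hc : ∀ a b : G ⧸ N, a * b = b * a) (hφN : ∀ (s : S), ∀ x ∈ N, φ s x ∈ N)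
    (hθS : ∀ (s : S) (x x' : N), (x' : G) = φ s x → (θ : N → ℂ) x' = (θ : N → ℂ) x)
    (S₀ : Subgroup S) (htriv : ∀ s ∈ S₀, Triv N (θ : N → ℂ) φ s)
    (hcop : N.index.Coprime S₀.index) :
    ∃ χ : IrrCharacter G, OverTop N (θ : N → ℂ) χ ∧ Inv φ (χ : G → ℂ) := by
  classical
  haveI := Fintype.ofFinite G
  letI : CommGroup (G ⧸ N) := { (inferInstance : Group (G ⧸ N)) with mul_comm := hc }
  haveI : NeZero (Monoid.exponent (G ⧸ N)) := ⟨Monoid.exponent_ne_zero_of_finite⟩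
  let X := {χ : IrrCharacter G // OverTop N (θ : N → ℂ) χ}
  -- the two permutation actions
  have hoverL : ∀ (l : G ⧸ N →* ℂˣ) (χ : X), OverTop N (θ : N → ℂ)
      ⟨fun g => ((l (g : G ⧸ N) : ℂˣ) : ℂ) * (χ.1 : G → ℂ) g,
        Char.IsIrrCharacter.linear_mul χ.1.2 (l.comp (QuotientGroup.mk' N))⟩ := by
    intro l χ
    show classInner (fun n : N => ((l ((n : G) : G ⧸ N) : ℂˣ) : ℂ) * (χ.1 : G → ℂ) n) _ ≠ 0
    have : (fun n : N => ((l ((n : G) : G ⧸ N) : ℂˣ) : ℂ) * (χ.1 : G → ℂ) n) =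
        fun n : N => (χ.1 : G → ℂ) n := by
      funext n
      rw [(QuotientGroup.eq_one_iff (n : G)).2 n.2, map_one, Units.val_one, one_mul]
    rw [this]
    exact χ.2
  have hoverS : ∀ (s : S) (χ : X), OverTop N (θ : N → ℂ) (irrEquiv (φ s) χ.1) := by
    intro s χ
    have he : (θ : N → ℂ) = (θ : N → ℂ) ∘ restrSub φ N hφN s :=
      funext fun n => (hθS s n _ rfl).symm
    have h : classInner (fun n : N => (χ.1 : G → ℂ) n) (θ : N → ℂ) ≠ 0 := χ.2
    rw [← Clifford.classInner_comp_equiv (restrSub φ N hφN s), ← he] at h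
    exact h
  letI actL : MulAction (G ⧸ N →* ℂˣ) X :=
    { smul := fun l χ => ⟨_, hoverL l χ⟩
      one_smul := fun χ => Subtype.ext (Subtype.ext (funext fun g => by
        show ((1 : ℂˣ) : ℂ) * _ = _
        rw [Units.val_one, one_mul]))
      mul_smul := fun l l' χ => Subtype.ext (Subtype.ext (funext fun g => by
        show ((l (g : G ⧸ N) * l' (g : G ⧸ N) : ℂˣ) : ℂ) * (χ.1 : G → ℂ) g = _ * (_ * _)
        rw [Units.val_mul, mul_assoc])) }
  letI actS : MulAction S X :=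
    { smul := fun s χ => ⟨_, hoverS s⁻¹ χ⟩
      one_smul := fun χ => Subtype.ext (Subtype.ext (funext fun g => by
        show (χ.1 : G → ℂ) (φ 1⁻¹ g) = _
        simp))
      mul_smul := fun s t χ => Subtype.ext (Subtype.ext (funext fun g => by
        show (χ.1 : G → ℂ) (φ (s * t)⁻¹ g) = (χ.1 : G → ℂ) (φ t⁻¹ (φ s⁻¹ g))
        rw [mul_inv_rev, map_mul, MulAut.mul_apply])) }
  set πL := MulAction.toPermHom (G ⧸ N →* ℂˣ) X with hπL
  set πS := MulAction.toPermHom S X with hπS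
  set A := πL.range with hA
  set B := πS.range with hB
  -- `S` normalises the group of twists
  have hnorm : B ≤ Subgroup.normalizer (A : Set (Equiv.Perm X)) := by
    rintro _ ⟨s, rfl⟩
    have hmem : ∀ (s : S) (l : G ⧸ N →* ℂˣ), πS s * πL l * (πS s)⁻¹ ∈ A := by
      intro s l
      refine ⟨l.comp (QuotientGroup.map N N (φ s⁻¹).toMonoidHom fun n hn => hφN s⁻¹ n hn), ?_⟩
      rw [← map_inv]
      refine Equiv.ext fun χ => Subtype.ext (Subtype.ext (funext fun g => ?_))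
      show ((l ((φ s⁻¹ g : G) : G ⧸ N) : ℂˣ) : ℂ) * (χ.1 : G → ℂ) g =
        ((l ((φ s⁻¹ g : G) : G ⧸ N) : ℂˣ) : ℂ) * (χ.1 : G → ℂ) (φ s⁻¹⁻¹ (φ s⁻¹ g))
      rw [← MulAut.mul_apply, ← map_mul, inv_mul_cancel, map_one, MulAut.one_apply]
    rw [Subgroup.mem_normalizer_iff]
    intro a
    constructor
    · rintro ⟨l, rfl⟩
      exact hmem s l
    · rintro ⟨l, hl⟩
      have := hmem s⁻¹ l
      rw [hl, map_inv] at this
      simpa [mul_assoc] using this
  set W : Subgroup (Equiv.Perm X) := A ⊔ B with hW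
  haveI : (A.subgroupOf W).Normal := (Subgroup.normal_subgroupOf_iff_le_normalizer le_sup_left).2
    (sup_le Subgroup.le_normalizer hnorm)
  obtain ⟨χ₀, hχ₀⟩ : ∃ χ : IrrCharacter G, OverTop N (θ : N → ℂ) χ :=
    Blk83.exists_over N θ
  set x₀ : X := ⟨χ₀, hχ₀⟩
  have hcardA : Nat.card (A.subgroupOf W) ∣ N.index := by
    rw [Nat.card_congr (Subgroup.subgroupOfEquivOfLe le_sup_left).toEquiv, Subgroup.index,
      ← CommGroup.card_monoidHom_of_hasEnoughRootsOfUnity (G ⧸ N) ℂ]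
    exact Subgroup.card_range_dvd πL
  have hcardB : Nat.card (B.subgroupOf W) ∣ S₀.index := by
    rw [Nat.card_congr (Subgroup.subgroupOfEquivOfLe le_sup_right).toEquiv, hB,
      ← Subgroup.index_ker]
    refine Subgroup.index_dvd_of_le fun s hs => ?_
    refine MonoidHom.mem_ker.2 (Equiv.ext fun χ => Subtype.ext (Subtype.ext (funext fun g => ?_)))
    exact Triv.fixed N (θ : N → ℂ) φ (htriv s⁻¹ (inv_mem hs)) χ.2 g
  obtain ⟨a, ha, hab⟩ := exists_conj_mem_of_sup_eq_top (A.subgroupOf W) (B.subgroupOf W)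
    (MulAction.stabilizer W x₀) (by rw [← Subgroup.subgroupOf_sup le_sup_left le_sup_right,
      Subgroup.subgroupOf_self])
    ((hcop.coprime_dvd_left hcardA).coprime_dvd_right hcardB)
    (Or.inl (Group.isSolvable_of_comm fun x y => by
      obtain ⟨l, hl⟩ := x.2
      obtain ⟨l', hl'⟩ := y.2
      refine Subtype.ext (Subtype.ext ?_)
      show ((x : W) : Equiv.Perm X) * ((y : W) : Equiv.Perm X) =
        ((y : W) : Equiv.Perm X) * ((x : W) : Equiv.Perm X)
      rw [← show πL l = ((x : W) : Equiv.Perm X) from hl,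
        ← show πL l' = ((y : W) : Equiv.Perm X) from hl', ← map_mul, ← map_mul, mul_comm l l']))
    (by
      refine eq_top_iff.2 fun w _ => ?_
      obtain ⟨l, hl⟩ := exists_dual_mul_eq N hθinv hc x₀.2 ((w : Equiv.Perm X) x₀).2
      have hl' : πL l x₀ = (w : Equiv.Perm X) x₀ := Subtype.ext (Subtype.ext hl.symm)
      set aw : W := ⟨πL l, le_sup_left (b := B) ⟨l, rfl⟩⟩
      have hwa : w = aw * (aw⁻¹ * w) := by rw [mul_inv_cancel_left]
      rw [hwa]
      refine mul_mem (Subgroup.mem_sup_right ⟨l, rfl⟩) (Subgroup.mem_sup_left ?_)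
      rw [MulAction.mem_stabilizer_iff, mul_smul, inv_smul_eq_iff]
      exact hl'.symm)
  refine ⟨((a⁻¹ : W) • x₀).1, ((a⁻¹ : W) • x₀).2, fun s g => ?_⟩
  have hfix : ∀ b ∈ B.subgroupOf W, b • ((a⁻¹ : W) • x₀) = (a⁻¹ : W) • x₀ := by
    intro b hb
    have h := MulAction.mem_stabilizer_iff.1 (hab b hb)
    rw [mul_smul, mul_smul] at h
    rw [eq_inv_smul_iff]
    exact h
  have hmem : (⟨πS s⁻¹, le_sup_right (a := A) ⟨s⁻¹, rfl⟩⟩ : W) ∈ B.subgroupOf W := ⟨s⁻¹, rfl⟩
  have h := congrFun (congrArg (fun x : X => (x.1 : G → ℂ)) (hfix _ hmem)) g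
  rw [← h]
  show _ = (((a⁻¹ : W) • x₀).1 : G → ℂ) (φ s⁻¹⁻¹ g)
  rw [inv_inv]

end CfsgLib.Glauberman
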