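import Cfsg.Agent.Lib.Glauberman.LayerBasic
import Cfsg.Agent.Lib.Glauberman.Conjugacy
import Cfsg.Agent.Lib.Char.Clifford

/-!
# A coprime group fixing a character fixes one of its constituents on a normal subgroup

The constituents form one orbit of the group, and the acting group normalises the image.
-/

set_option autoImplicit false

namespace CfsgLib.Glauberman

open Cfsg CfsgLib

universe u

/-- A fixed character has a fixed constituent on an invariant normal subgroup. -/
theorem exists_fixed_below {G : Type u} [Group G] [Finite G] {S : Type u} [Group S] [Finite S]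
    (φ : S →* MulAut G) (N : Subgroup G) [N.Normal] [Fintype N] {χ : IrrCharacter G}
    (hχ : Inv φ (χ : G → ℂ)) (hφN : ∀ (s : S), ∀ x ∈ N, φ s x ∈ N)
    (hcop : N.index.Coprime (Nat.card S))
    (hsolv : Group.IsSolvable (G ⧸ N) ∨ Group.IsSolvable S) :
    ∃ θ : IrrCharacter N, OverTop N (θ : N → ℂ) χ ∧
      ∀ (s : S) (x x' : N), (x' : G) = φ s x → (θ : N → ℂ) x' = (θ : N → ℂ) x := by
  classical
  haveI := Fintype.ofFinite G
  let X := {θ : IrrCharacter N // OverTop N (θ : N → ℂ) χ}
  have hoverG : ∀ (g : G) (θ : X),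
      OverTop N ((irrEquiv (MulAut.conjNormal (H := N) g) θ.1 : IrrCharacter N) : N → ℂ) χ := by
    intro g θ
    show classInner (fun n : N => (χ : G → ℂ) n) (CharTwist.conjFun N (θ.1 : N → ℂ) g) ≠ 0
    rw [Clifford.classInner_res_conjFun N (Char.IsIrrCharacter.isClassFunction χ.2)]
    exact θ.2
  have hoverS : ∀ (s : S) (θ : X),
      OverTop N ((irrEquiv (restrSub φ N hφN s) θ.1 : IrrCharacter N) : N → ℂ) χ := by
    intro s θ
    have he : (fun n : N => (χ : G → ℂ) n) = (fun n : N => (χ : G → ℂ) n) ∘ restrSub φ N hφN s :=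
      funext fun n => (hχ s n).symm
    show classInner (fun n : N => (χ : G → ℂ) n) ((θ.1 : N → ℂ) ∘ restrSub φ N hφN s) ≠ 0
    rw [he, Clifford.classInner_comp_equiv]
    exact θ.2
  letI actG : MulAction G X :=
    { smul := fun g θ => ⟨_, hoverG g⁻¹ θ⟩
      one_smul := fun θ => Subtype.ext (Subtype.ext (funext fun n =>
        congrArg (θ.1 : N → ℂ) (Subtype.ext (by simp))))
      mul_smul := fun g h θ => Subtype.ext (Subtype.ext (funext fun n =>
        congrArg (θ.1 : N → ℂ) (Subtype.ext (by simp [mul_assoc])))) }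
  letI actS : MulAction S X :=
    { smul := fun s θ => ⟨_, hoverS s⁻¹ θ⟩
      one_smul := fun θ => Subtype.ext (Subtype.ext (funext fun n =>
        congrArg (θ.1 : N → ℂ) (Subtype.ext (by simp [restrSub]))))
      mul_smul := fun s t θ => Subtype.ext (Subtype.ext (funext fun n =>
        congrArg (θ.1 : N → ℂ) (Subtype.ext (by simp [restrSub])))) }
  set πG := MulAction.toPermHom G X with hπG
  set πS := MulAction.toPermHom S X with hπS
  set A := πG.range with hA
  set B := πS.range with hB
  have hnorm : B ≤ Subgroup.normalizer (A : Set (Equiv.Perm X)) := by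
    rintro _ ⟨s, rfl⟩
    have hmem : ∀ (s : S) (g : G), πS s * πG g * (πS s)⁻¹ ∈ A := by
      intro s g
      refine ⟨φ s g, ?_⟩
      rw [← map_inv]
      refine Equiv.ext fun θ => Subtype.ext (Subtype.ext (funext fun n => ?_))
      refine congrArg (θ.1 : N → ℂ) (Subtype.ext ?_)
      simp [restrSub]
    rw [Subgroup.mem_normalizer_iff]
    intro a
    constructor
    · rintro ⟨g, rfl⟩
      exact hmem s g
    · rintro ⟨g, hg⟩
      have := hmem s⁻¹ g
      rw [hg, map_inv] at this
      simpa [mul_assoc] using this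
  have hker : N ≤ πG.ker := by
    intro n hn
    refine MonoidHom.mem_ker.2 (Equiv.ext fun θ => Subtype.ext (Subtype.ext (funext fun m => ?_)))
    exact (congrArg (θ.1 : N → ℂ) (Subtype.ext (by simp))).trans
      (Char.IsIrrCharacter.isClassFunction θ.1.2 m ⟨n⁻¹, inv_mem hn⟩)
  set W : Subgroup (Equiv.Perm X) := A ⊔ B with hW
  haveI : (A.subgroupOf W).Normal := (Subgroup.normal_subgroupOf_iff_le_normalizer le_sup_left).2
    (sup_le Subgroup.le_normalizer hnorm)
  obtain ⟨ψ, hψ, hψc⟩ := Clifford.exists_constituent_res N χ.2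
  set x₀ : X := ⟨⟨ψ, hψ⟩, hψc⟩
  have hcardA : Nat.card (A.subgroupOf W) ∣ N.index := by
    rw [Nat.card_congr (Subgroup.subgroupOfEquivOfLe le_sup_left).toEquiv, hA,
      ← Subgroup.index_ker]
    exact Subgroup.index_dvd_of_le hker
  have hcardB : Nat.card (B.subgroupOf W) ∣ Nat.card S := by
    rw [Nat.card_congr (Subgroup.subgroupOfEquivOfLe le_sup_right).toEquiv, hB]
    exact Subgroup.card_range_dvd πS
  have hs : Group.IsSolvable (A.subgroupOf W) ∨ Group.IsSolvable (B.subgroupOf W) := by
    refine hsolv.imp (fun h => ?_) (fun h => ?_)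
    · haveI := h
      refine Group.isSolvable_of_surjective
        (f := (Subgroup.subgroupOfEquivOfLe (le_sup_left (b := B))).symm.toMonoidHom.comp
          (QuotientGroup.lift N πG.rangeRestrict (by
            intro n hn; exact Subtype.ext (MonoidHom.mem_ker.1 (hker hn))))) ?_
      refine (Subgroup.subgroupOfEquivOfLe (le_sup_left (b := B))).symm.surjective.comp ?_
      rintro ⟨_, g, rfl⟩
      exact ⟨(g : G ⧸ N), rfl⟩
    · haveI := h
      refine Group.isSolvable_of_surjective
        (f := (Subgroup.subgroupOfEquivOfLe (le_sup_right (a := A))).symm.toMonoidHom.comp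
          πS.rangeRestrict) ?_
      exact (Subgroup.subgroupOfEquivOfLe (le_sup_right (a := A))).symm.surjective.comp
        πS.rangeRestrict_surjective
  obtain ⟨a, -, hab⟩ := exists_conj_mem_of_sup_eq_top (A.subgroupOf W) (B.subgroupOf W)
    (MulAction.stabilizer W x₀) (by rw [← Subgroup.subgroupOf_sup le_sup_left le_sup_right,
      Subgroup.subgroupOf_self])
    ((hcop.coprime_dvd_left hcardA).coprime_dvd_right hcardB) hs
    (by
      refine eq_top_iff.2 fun w _ => ?_
      set y := (w : Equiv.Perm X) x₀ with hy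
      obtain ⟨g, hg⟩ := Clifford.exists_conjFun_eq N χ.2 x₀.1.2 y.1.2 x₀.2 y.2
      have hg' : πG g⁻¹ x₀ = y := Subtype.ext (Subtype.ext (by
        rw [← hg]
        funext n
        exact congrArg (x₀.1 : N → ℂ) (Subtype.ext (by simp))))
      set aw : W := ⟨πG g⁻¹, le_sup_left (b := B) ⟨g⁻¹, rfl⟩⟩
      rw [show w = aw * (aw⁻¹ * w) by rw [mul_inv_cancel_left]]
      refine mul_mem (Subgroup.mem_sup_right ⟨g⁻¹, rfl⟩) (Subgroup.mem_sup_left ?_)
      rw [MulAction.mem_stabilizer_iff, mul_smul, inv_smul_eq_iff]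
      exact hg'.symm)
  refine ⟨((a⁻¹ : W) • x₀).1, ((a⁻¹ : W) • x₀).2, fun s x x' he => ?_⟩
  have hfix : ∀ b ∈ B.subgroupOf W, b • ((a⁻¹ : W) • x₀) = (a⁻¹ : W) • x₀ := by
    intro b hb
    have h := MulAction.mem_stabilizer_iff.1 (hab b hb)
    rw [mul_smul, mul_smul] at h
    rw [eq_inv_smul_iff]
    exact h
  have hmem : (⟨πS s⁻¹, le_sup_right (a := A) ⟨s⁻¹, rfl⟩⟩ : W) ∈ B.subgroupOf W := ⟨s⁻¹, rfl⟩
  have h := congrFun (congrArg (fun θ : X => (θ.1 : N → ℂ)) (hfix _ hmem)) x
  rw [← h]
  refine congrArg (((a⁻¹ : W) • x₀).1 : N → ℂ) (Subtype.ext ?_)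
  rw [he]
  simp [restrSub]

end CfsgLib.Glauberman
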