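import Cfsg.Agent.Lib.Glauberman.Transfer
import Cfsg.Agent.Lib.Glauberman.CoverSum
import Cfsg.Agent.Lib.Char.Clifford
import Mathlib.GroupTheory.Coset.Card

/-!
# The correspondence between characters over a fixed character of an invariant layer

`N` is normal in `G`, `θ` is a `G`-invariant irreducible character of `N`, the group `T` acts on
`G/N` and on the characters over `θ` through a `p`-group, with `p` prime to `|G : N|`.
-/

set_option autoImplicit false

namespace CfsgLib.Glauberman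

open Cfsg CfsgLib CfsgLib.BlockReg
open scoped ComplexConjugate

universe u v

variable {G : Type u} [Group G] (N : Subgroup G)

/-- `η` lies over `θ`, for an intermediate subgroup. -/
def Over [Fintype N] {H : Subgroup G} (hNH : N ≤ H) (θ : N → ℂ) (η : IrrCharacter H) : Prop :=
  classInner (fun n : N => (η : H → ℂ) ⟨(n : G), hNH n.2⟩) θ ≠ 0

/-- `χ` lies over `θ`. -/
def OverTop [Fintype N] (θ : N → ℂ) (χ : IrrCharacter G) : Prop :=
  classInner (fun n : N => (χ : G → ℂ) n) θ ≠ 0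

/-- The test value of `χ` against a character of an intermediate subgroup. -/
noncomputable def lamL [Fintype G] {C : Subgroup G} (χ : IrrCharacter G) (β : IrrCharacter C) :
    ℂ :=
  (∑ g : G, blockCoeff {χ} g * extendByZero C (β : C → ℂ) g) / (β : C → ℂ) 1

/-- A sum over a set acted on through a `p`-group is congruent to the sum over the fixed points. -/
theorem sum_sub_sum_fixed_of_pow {p : ℕ} {M : Ideal Cfsg.AlgInt} [Fact p.Prime]
    (hM : IsPModular p M) {T : Type v} [Group T] [Finite T] {α : Type v} [MulAction T α] [Fintype α]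
    (hpow : ∀ t : T, ∃ j : ℕ, ∀ x : α, t ^ p ^ j • x = x) (f : α → ℂ)
    (hfR : ∀ x, MemLocalRing M (f x)) (hf : ∀ (t : T) (x : α), f (t • x) = f x)
    [DecidablePred fun x : α => ∀ t : T, t • x = x] :
    MemLocalIdeal M (∑ x, f x -
      ∑ x ∈ Finset.univ.filter (fun x : α => ∀ t : T, t • x = x), f x) := by
  classical
  set π := MulAction.toPermHom T α with hπ
  have hP : IsPGroup p π.range := by
    rintro ⟨_, t, rfl⟩
    obtain ⟨j, hj⟩ := hpow t
    refine ⟨j, Subtype.ext ?_⟩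
    rw [SubgroupClass.coe_pow, ← map_pow]
    ext x
    exact hj x
  have h := sum_sub_sum_fixed_memIdeal hM hP f hfR fun u x => by
    obtain ⟨_, t, rfl⟩ := u
    exact hf t x
  convert h using 4
  constructor
  · rintro hx ⟨_, t, rfl⟩
    exact hx t
  · intro hx t
    exact hx ⟨π t, t, rfl⟩

variable [N.Normal] [Fintype G]

/-- Sum over the group as a sum over cosets. -/
theorem sum_eq_sum_out [Fintype N] [Fintype (G ⧸ N)] (F : G → ℂ) :
    ∑ g, F g = ∑ q : G ⧸ N, ∑ n : N, F (q.out * n) := by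
  let e : (G ⧸ N) × N ≃ G :=
    Equiv.ofBijective (fun x => x.1.out * x.2) ⟨by
      rintro ⟨q, n⟩ ⟨q', n'⟩ h
      have h1 : q = q' := by
        have := congrArg (QuotientGroup.mk (s := N)) h
        simpa using this
      subst h1
      simpa using h, fun g => ⟨((g : G ⧸ N), ⟨((g : G ⧸ N).out)⁻¹ * g, by
        rw [← QuotientGroup.eq, QuotientGroup.out_eq']⟩), by simp⟩⟩
  rw [← e.sum_comp, Fintype.sum_prod_type]
  rfl

variable [Fintype N] {C : Subgroup G} [Fintype C] (hNC : N ≤ C) {θ : IrrCharacter N}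

theorem lamL_eq_omegaFun (χ : IrrCharacter G) (β : IrrCharacter C) :
    lamL χ β = omegaFun β (fun c : C => blockCoeff {χ} (c : G)) := by
  rw [lamL, omegaFun]
  congr 1
  rw [Finset.sum_congr rfl (fun g _ => mul_comm _ _)]
  rw [Char.sum_extendByZero_mul]
  exact Finset.sum_congr rfl fun c _ => mul_comm _ _

include hNC in
/-- A nonzero test value forces `χ` over `θ`. -/
theorem lamL_eq_zero_of_not_over (hθinv : ∀ g, CharTwist.conjFun N (θ : N → ℂ) g = (θ : N → ℂ))
    {χ : IrrCharacter G} {β : IrrCharacter C} (hβ : Over N hNC (θ : N → ℂ) β)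
    (hχ : ¬ OverTop N (θ : N → ℂ) χ) : lamL χ β = 0 := by
  classical
  have hC : Cfsg.IsCharacter C (fun c : C => (χ : G → ℂ) c) :=
    Char.IsCharacter.restrict (Char.IsIrrCharacter.isCharacter χ.2) C
  have h0 : classInner (fun c : C => (χ : G → ℂ) c) (β : C → ℂ) = 0 := by
    by_contra hne
    refine hχ ?_
    obtain ⟨m, hm⟩ := Char.IsCharacter.exists_nat_combination hC
    have hmβ : m β ≠ 0 := fun h => hne (by rw [hm, Char.classInner_sum_smul_irr (fun γ => (m γ : ℂ)),
      h, Nat.cast_zero])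
    have hinner : ∀ γ : IrrCharacter C, ∃ k : ℕ,
        classInner (fun n : N => (γ : C → ℂ) ⟨(n : G), hNC n.2⟩) (θ : N → ℂ) = (k : ℂ) := fun γ =>
      Char.IsCharacter.exists_nat_classInner
        (Char.IsCharacter.comp (Char.IsIrrCharacter.isCharacter γ.2) (Subgroup.inclusion hNC)) θ.2
    choose k hk using hinner
    have hsum : classInner (fun n : N => (χ : G → ℂ) n) (θ : N → ℂ) =
        ((∑ γ, m γ * k γ : ℕ) : ℂ) := by
      have hfun : (fun n : N => (χ : G → ℂ) n) =
          ∑ γ : IrrCharacter C, (m γ : ℂ) • fun n : N => (γ : C → ℂ) ⟨(n : G), hNC n.2⟩ := by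
        funext n
        have := congrFun hm ⟨(n : G), hNC n.2⟩
        simp only [Finset.sum_apply, Pi.smul_apply] at this ⊢
        exact this
      rw [hfun, Char.classInner_sum_left, Nat.cast_sum]
      exact Finset.sum_congr rfl fun γ _ => by
        rw [Char.classInner_smul_left, hk, Nat.cast_mul]
    intro hz
    rw [hsum, Nat.cast_eq_zero, Finset.sum_eq_zero_iff] at hz
    have := hz β (Finset.mem_univ β)
    rcases Nat.mul_eq_zero.1 this with h | h
    · exact hmβ h
    · exact hβ (by rw [hk, h, Nat.cast_zero])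
  have hconj : classInner (β : C → ℂ) (fun c : C => (χ : G → ℂ) c) = 0 := by
    rw [← Char.classInner_conj_symm, h0, map_zero]
  rw [lamL_eq_omegaFun, omegaFun, div_eq_zero_iff]
  left
  rw [classInner, mul_eq_zero] at hconj
  rcases hconj with h | h
  · exact absurd h (inv_ne_zero (by exact_mod_cast Nat.card_pos.ne'))
  · calc ∑ c : C, blockCoeff {χ} (c : G) * (β : C → ℂ) c
        = ((χ : G → ℂ) 1 / (Nat.card G : ℂ)) *
            ∑ c : C, (β : C → ℂ) c * conj ((χ : G → ℂ) c) := by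
          rw [Finset.mul_sum]
          exact Finset.sum_congr rfl fun c _ => by rw [blockCoeff_singleton]; ring
      _ = 0 := by rw [h, mul_zero]

include hNC in
/-- The factorisation data of `β`, extended by zero. -/
theorem extendByZero_factor {d : ℕ} (ρ : Representation ℂ N (Fin d → ℂ))
    (β : IrrCharacter C) {a : CharDeep.Cover.grp N ρ → ℂ}
    (ha : ∀ x, ∀ hx : CharDeep.Cover.proj N ρ x ∈ C,
      (β : C → ℂ) ⟨CharDeep.Cover.proj N ρ x, hx⟩ = (CharDeep.Cover.rep N ρ).character x * a x)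
    (x : CharDeep.Cover.grp N ρ) (hx : CharDeep.Cover.proj N ρ x ∈ C) (n : N)
    (har : ∀ y m, a (y * CharDeep.Cover.incl N ρ m) = a y) :
    extendByZero C (β : C → ℂ) (CharDeep.Cover.proj N ρ x * n) =
      (CharDeep.Cover.rep N ρ).character (x * CharDeep.Cover.incl N ρ n) * a x := by
  have hmem : CharDeep.Cover.proj N ρ (x * CharDeep.Cover.incl N ρ n) ∈ C := by
    rw [map_mul, CharDeep.Cover.proj_incl]; exact mul_mem hx (hNC n.2)
  rw [← har x n, ← ha _ hmem, ← Char.extendByZero_coe C (β : C → ℂ)]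
  simp

include hNC in
/-- The factorisations of `χ` and `β` with the degree ratios. -/
theorem exists_data (hθinv : ∀ g, CharTwist.conjFun N (θ : N → ℂ) g = (θ : N → ℂ))
    {χ : IrrCharacter G} (hχ : OverTop N (θ : N → ℂ) χ)
    {β : IrrCharacter C} (hβ : Over N hNC (θ : N → ℂ) β)
    {χ' : IrrCharacter G} (hχ' : OverTop N (θ : N → ℂ) χ') :
    ∃ (d : ℕ) (ρ : Representation ℂ N (Fin d → ℂ)) (_ : ρ.IsIrreducible)
      (a a' b : CharDeep.Cover.grp N ρ → ℂ) (e e' f : ℕ),
      Function.Surjective (CharDeep.Cover.proj N ρ) ∧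
      (∀ x, IsIntegral ℤ (a x)) ∧ (∀ x, IsIntegral ℤ (a' x)) ∧ (∀ x, IsIntegral ℤ (b x)) ∧
      (∀ x n, a ((CharDeep.Cover.incl N ρ n)⁻¹ * x) = a x) ∧
      (∀ x n, a' ((CharDeep.Cover.incl N ρ n)⁻¹ * x) = a' x) ∧
      (∀ x n, a' (x * CharDeep.Cover.incl N ρ n) = a' x) ∧
      (∀ x n, b (x * CharDeep.Cover.incl N ρ n) = b x) ∧
      (∀ x, (χ : G → ℂ) (CharDeep.Cover.proj N ρ x) = (CharDeep.Cover.rep N ρ).character x * a x) ∧
      (∀ x, (χ' : G → ℂ) (CharDeep.Cover.proj N ρ x) = (CharDeep.Cover.rep N ρ).character x * a' x) ∧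
      (∀ x, ∀ hx : CharDeep.Cover.proj N ρ x ∈ C,
        (β : C → ℂ) ⟨CharDeep.Cover.proj N ρ x, hx⟩ = (CharDeep.Cover.rep N ρ).character x * b x) ∧
      (χ : G → ℂ) 1 = (e : ℂ) * (d : ℂ) ∧ (χ' : G → ℂ) 1 = (e' : ℂ) * (d : ℂ) ∧
      (β : C → ℂ) 1 = (f : ℂ) * (d : ℂ) ∧ f ∣ N.relIndex C ∧ (d : ℂ) ≠ 0 := by
  classical
  obtain ⟨d, ρ, hρ, hρc⟩ := id θ.2
  have hinv : ∀ (g : G) (n : N), ρ.character ⟨g * n * g⁻¹, ‹N.Normal›.conj_mem n n.2 g⟩ =
      ρ.character n := fun g n => by
    rw [hρc]; exact congrFun (hθinv g) n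
  have hover : ∀ (ψ : IrrCharacter G), OverTop N (θ : N → ℂ) ψ →
      classInner (fun n : N => (((irrEquiv Subgroup.topEquiv ψ) : IrrCharacter (⊤ : Subgroup G)) : (⊤ : Subgroup G) → ℂ)
        ⟨(n : G), trivial⟩) ρ.character ≠ 0 := fun ψ hψ => by rw [hρc]; exact hψ
  obtain ⟨a, e, ha1, -, ha3, ha4, ha5, -⟩ :=
    exists_factor N ρ hinv ⊤ le_top ((irrEquiv Subgroup.topEquiv χ)) (hover χ hχ)
  obtain ⟨a', e', hb1, hb2, hb3, hb4, hb5, -⟩ :=
    exists_factor N ρ hinv ⊤ le_top ((irrEquiv Subgroup.topEquiv χ')) (hover χ' hχ')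
  obtain ⟨b, f, hc1, hc2, -, hc4, hc5, hc6⟩ :=
    exists_factor N ρ hinv C hNC β (by rw [hρc]; exact hβ)
  refine ⟨d, ρ, hρ, a, a', b, e, e', f, CharDeep.Cover.proj_surjective N ρ hinv, ha1, hb1, hc1, ha3,
    hb3, hb2, hc2, fun x => ha4 x trivial, fun x => hb4 x trivial, hc4, ha5, hb5, hc5, hc6, ?_⟩
  exact_mod_cast (CharDeep.Cover.pos_dim N ρ).ne'

variable {p : ℕ} {M : Ideal Cfsg.AlgInt}

theorem natCard_eq_index_mul : (Nat.card G : ℂ) = (N.index : ℂ) * (Nat.card N : ℂ) := by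
  rw [← Nat.cast_mul, Subgroup.index_mul_card]

theorem memRing_ratio (hM : IsPModular p M) {f : ℕ} (hf : f ∣ N.relIndex C)
    (hp : ¬ p ∣ N.index) :
    MemLocalRing M ((f : ℂ)⁻¹) ∧ MemLocalRing M ((N.index : ℂ)⁻¹) := by
  refine ⟨memRing_inv_natCast hM fun h => hp ?_, memRing_inv_natCast hM hp⟩
  exact (h.trans hf).trans (Subgroup.relIndex_dvd_index_of_normal N C)

include hNC in
theorem memRing_lamL [Fintype (G ⧸ N)] (hM : IsPModular p M) (hp : ¬ p ∣ N.index)
    (hθinv : ∀ g, CharTwist.conjFun N (θ : N → ℂ) g = (θ : N → ℂ))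
    {χ : IrrCharacter G} (hχ : OverTop N (θ : N → ℂ) χ)
    {β : IrrCharacter C} (hβ : Over N hNC (θ : N → ℂ) β) :
    MemLocalRing M (lamL χ β) := by
  classical
  obtain ⟨d, ρ, hρ, a, -, b, e, -, f, hsurj, ha1, -, hb1, ha3, -, -, hb2, ha4, -, hb4, he, -, hf,
    hfd, hd⟩ := exists_data N hNC hθinv hχ hβ hχ
  choose lift hlift using hsurj
  obtain ⟨hf', hi⟩ := memRing_ratio N hM hfd hp
  have key : ∀ q : G ⧸ N,
      ∑ n : N, blockCoeff {χ} (q.out * n) * extendByZero C (β : C → ℂ) (q.out * n) =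
        if q.out ∈ C then (e : ℂ) * d / (Nat.card G : ℂ) * (Nat.card N : ℂ) *
          (a (lift q.out)⁻¹ * b (lift q.out)) else 0 := by
    intro q
    split_ifs with hq
    · set x := lift q.out with hx
      have hxq : CharDeep.Cover.proj N ρ x = q.out := hlift _
      have hterm : ∀ n : N, blockCoeff {χ} (q.out * n) * extendByZero C (β : C → ℂ) (q.out * n) =
          (e : ℂ) * d / (Nat.card G : ℂ) * (a x⁻¹ * b x) *
            ((CharDeep.Cover.rep N ρ).character (x * CharDeep.Cover.incl N ρ n) *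
              (CharDeep.Cover.rep N ρ).character ((CharDeep.Cover.incl N ρ n)⁻¹ * x⁻¹)) := by
        intro n
        have hinv : conj ((χ : G → ℂ) (q.out * n)) =
            (CharDeep.Cover.rep N ρ).character ((CharDeep.Cover.incl N ρ n)⁻¹ * x⁻¹) * a x⁻¹ := by
          rw [← char_inv, ← ha3 x⁻¹ n, ← ha4]
          congr 1
          rw [map_mul, map_inv, map_inv, CharDeep.Cover.proj_incl, hxq, mul_inv_rev]
        rw [blockCoeff_singleton, hinv, ← hxq,
          extendByZero_factor N hNC ρ β hb4 x (hxq.symm ▸ hq) n hb2, he]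
        ring
      simp only [hterm, ← Finset.mul_sum, coset_identity_inv N ρ x]
      ring
    · refine Finset.sum_eq_zero fun n _ => ?_
      rw [Char.extendByZero_of_notMem, mul_zero]
      intro h
      exact hq (by simpa using mul_mem h (inv_mem (hNC n.2)))
  rw [lamL, sum_eq_sum_out N, Finset.sum_congr rfl fun q _ => key q, Finset.sum_div]
  refine memRing_sum hM _ fun q _ => ?_
  split_ifs
  · have : (e : ℂ) * d / (Nat.card G : ℂ) * (Nat.card N : ℂ) *
        (a (lift q.out)⁻¹ * b (lift q.out)) / (β : C → ℂ) 1 =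
        (e : ℂ) * (a (lift q.out)⁻¹ * b (lift q.out)) * ((f : ℂ)⁻¹ * (N.index : ℂ)⁻¹) := by
      rw [hf, natCard_eq_index_mul N]
      have hN0 : (Nat.card N : ℂ) ≠ 0 := by exact_mod_cast Nat.card_pos.ne'
      field_simp
    rw [this]
    exact memRing_mul hM (memRing_mul hM (memRing_natCast hM e)
      (memRing_mul hM (memRing_algInt hM (ha1 _)) (memRing_algInt hM (hb1 _)))) (memRing_mul hM hf' hi)
  · rw [zero_div]; exact memRing_zero hM

/-- The contribution of the coset `q` to the test value of a product. -/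
noncomputable def cosetTerm [DecidableEq (G ⧸ N)] (χ χ' : IrrCharacter G) (β : IrrCharacter C)
    (q : G ⧸ N) : ℂ :=
  ∑ y ∈ Finset.univ.filter (fun y : G => (y : G ⧸ N) = q),
    (∑ g : G, blockCoeff {χ} y * blockCoeff {χ'} (y⁻¹ * g) * extendByZero C (β : C → ℂ) g) /
      (β : C → ℂ) 1

include hNC in
theorem memRing_cosetTerm [Fintype (G ⧸ N)] [DecidableEq (G ⧸ N)] (hM : IsPModular p M)
    (hp : ¬ p ∣ N.index) (hθinv : ∀ g, CharTwist.conjFun N (θ : N → ℂ) g = (θ : N → ℂ))
    {χ χ' : IrrCharacter G} (hχ : OverTop N (θ : N → ℂ) χ) (hχ' : OverTop N (θ : N → ℂ) χ')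
    {β : IrrCharacter C} (hβ : Over N hNC (θ : N → ℂ) β) (q : G ⧸ N) :
    MemLocalRing M (cosetTerm N χ χ' β q) := by
  classical
  obtain ⟨d, ρ, hρ, a, a', b, e, e', f, hsurj, ha1, hb'1, hb1, ha3, ha'3, ha'2, hb2, ha4, ha'4,
    hb4, he, he', hf, hfd, hd⟩ := exists_data N hNC hθinv hχ hβ hχ'
  choose lift hlift using hsurj
  obtain ⟨hf', hi⟩ := memRing_ratio N hM hfd hp
  set R := (CharDeep.Cover.rep N ρ).character with hR
  set ι := CharDeep.Cover.incl N ρ with hι
  have hfib : cosetTerm N χ χ' β q = ∑ n : N,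
      (∑ g : G, blockCoeff {χ} (q.out * n) * blockCoeff {χ'} ((q.out * n)⁻¹ * g) *
        extendByZero C (β : C → ℂ) g) / (β : C → ℂ) 1 := by
    rw [cosetTerm, Finset.sum_filter, sum_eq_sum_out N, Finset.sum_eq_single q]
    · refine Finset.sum_congr rfl fun n _ => ?_
      rw [if_pos (by simp)]
    · intro r _ hr
      refine Finset.sum_eq_zero fun n _ => if_neg ?_
      simpa using hr
    · simp
  set x := lift q.out with hx
  have hxq : CharDeep.Cover.proj N ρ x = q.out := hlift _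
  have key : ∀ r : G ⧸ N, ∑ n : N, ∑ m : N,
      blockCoeff {χ} (q.out * n) * blockCoeff {χ'} ((q.out * n)⁻¹ * (r.out * m)) *
        extendByZero C (β : C → ℂ) (r.out * m) =
      if r.out ∈ C then
        (e : ℂ) * d * ((e' : ℂ) * d) / ((Nat.card G : ℂ) * (Nat.card G : ℂ)) *
          ((Nat.card N : ℂ) * (Nat.card N : ℂ) / d) *
          (a x⁻¹ * a' ((lift r.out)⁻¹ * x) * b (lift r.out)) else 0 := by
    intro r
    split_ifs with hr
    · set z := lift r.out with hz
      have hzr : CharDeep.Cover.proj N ρ z = r.out := hlift _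
      have hterm : ∀ n m : N,
          blockCoeff {χ} (q.out * n) * blockCoeff {χ'} ((q.out * n)⁻¹ * (r.out * m)) *
            extendByZero C (β : C → ℂ) (r.out * m) =
          (e : ℂ) * d * ((e' : ℂ) * d) / ((Nat.card G : ℂ) * (Nat.card G : ℂ)) *
            (a x⁻¹ * a' (z⁻¹ * x) * b z) *
            (R ((ι n)⁻¹ * x⁻¹) * (R (z * ι m) * R ((ι m)⁻¹ * (z⁻¹ * x * ι n)))) := by
        intro n m
        have h1 : conj ((χ : G → ℂ) (q.out * n)) = R ((ι n)⁻¹ * x⁻¹) * a x⁻¹ := by
          rw [← char_inv, ← ha3 x⁻¹ n, ← ha4]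
          congr 1
          rw [map_mul, map_inv, map_inv, CharDeep.Cover.proj_incl, hxq, mul_inv_rev]
        have h2 : conj ((χ' : G → ℂ) ((q.out * n)⁻¹ * (r.out * m))) =
            R ((ι m)⁻¹ * (z⁻¹ * x * ι n)) * a' (z⁻¹ * x) := by
          rw [← char_inv, ← ha'2 (z⁻¹ * x) n, ← ha'3 (z⁻¹ * x * ι n) m, ← ha'4]
          congr 1
          simp only [map_mul, map_inv, hι, CharDeep.Cover.proj_incl, hxq, hzr, mul_inv_rev,
            inv_inv, mul_assoc]
        rw [blockCoeff_singleton, blockCoeff_singleton, h1, h2, ← hzr,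
          extendByZero_factor N hNC ρ β hb4 z (hzr.symm ▸ hr) m hb2, he, he']
        ring
      simp only [hterm, ← Finset.mul_sum]
      have hinner : ∀ n : N, ∑ m : N, R (z * ι m) * R ((ι m)⁻¹ * (z⁻¹ * x * ι n)) =
          (Nat.card N : ℂ) / d * R (x * ι n) := by
        intro n
        rw [hR, hι, coset_identity]
        congr 2
        group
      simp only [hinner]
      have houter : ∑ n : N, R ((ι n)⁻¹ * x⁻¹) * ((Nat.card N : ℂ) / d * R (x * ι n)) =
          (Nat.card N : ℂ) * (Nat.card N : ℂ) / d := by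
        calc ∑ n : N, R ((ι n)⁻¹ * x⁻¹) * ((Nat.card N : ℂ) / d * R (x * ι n))
            = (Nat.card N : ℂ) / d * ∑ n : N, R (x * ι n) * R ((ι n)⁻¹ * x⁻¹) := by
              rw [Finset.mul_sum]
              exact Finset.sum_congr rfl fun n _ => by ring
          _ = _ := by rw [hR, hι, coset_identity_inv]; ring
      rw [houter]
      ring
    · refine Finset.sum_eq_zero fun n _ => Finset.sum_eq_zero fun m _ => ?_
      rw [Char.extendByZero_of_notMem, mul_zero]
      intro h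
      exact hr (by simpa using mul_mem h (inv_mem (hNC m.2)))
  rw [hfib, ← Finset.sum_div]
  simp only [sum_eq_sum_out N (fun g => blockCoeff {χ} (q.out * _) * blockCoeff {χ'} (_ * g) *
    extendByZero C (β : C → ℂ) g)]
  rw [Finset.sum_comm, Finset.sum_congr rfl fun r _ => key r, Finset.sum_div]
  refine memRing_sum hM _ fun r _ => ?_
  split_ifs
  · have : (e : ℂ) * d * ((e' : ℂ) * d) / ((Nat.card G : ℂ) * (Nat.card G : ℂ)) *
        ((Nat.card N : ℂ) * (Nat.card N : ℂ) / d) *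
        (a x⁻¹ * a' ((lift r.out)⁻¹ * x) * b (lift r.out)) / (β : C → ℂ) 1 =
        (e : ℂ) * (e' : ℂ) * (a x⁻¹ * a' ((lift r.out)⁻¹ * x) * b (lift r.out)) *
          ((f : ℂ)⁻¹ * ((N.index : ℂ)⁻¹ * (N.index : ℂ)⁻¹)) := by
      rw [hf, natCard_eq_index_mul N]
      have hN0 : (Nat.card N : ℂ) ≠ 0 := by exact_mod_cast Nat.card_pos.ne'
      field_simp
    rw [this]
    exact memRing_mul hM (memRing_mul hM (memRing_mul hM (memRing_natCast hM e)
      (memRing_natCast hM e')) (memRing_mul hM (memRing_mul hM (memRing_algInt hM (ha1 _))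
        (memRing_algInt hM (hb'1 _))) (memRing_algInt hM (hb1 _))))
      (memRing_mul hM hf' (memRing_mul hM hi hi))
  · rw [zero_div]; exact memRing_zero hM

variable {T : Type u} [Group T] [Finite T] (φ : T →* MulAut G)

include hNC in
/-- Distinct invariant characters over `θ` have orthogonal test values modulo `M`. -/
theorem lamL_mul_memIdeal [Fact p.Prime] (hM : IsPModular p M) (hp : ¬ p ∣ N.index)
    (hθinv : ∀ g, CharTwist.conjFun N (θ : N → ℂ) g = (θ : N → ℂ))
    (hφN : ∀ (t : T), ∀ n ∈ N, φ t n ∈ N)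
    (hC : ∀ g : G, g ∈ C ↔ ∀ t : T, g⁻¹ * φ t g ∈ N)
    (hpow : ∀ t : T, ∃ j : ℕ, ∀ g : G, g⁻¹ * φ (t ^ p ^ j) g ∈ N)
    {β : IrrCharacter C} (hβ : Over N hNC (θ : N → ℂ) β)
    (hβT : ∀ (t : T) (c c' : C), (c' : G) = φ t c → (β : C → ℂ) c' = (β : C → ℂ) c)
    {χ χ' : IrrCharacter G} (hχ : OverTop N (θ : N → ℂ) χ) (hχ' : OverTop N (θ : N → ℂ) χ')
    (hχT : Inv φ (χ : G → ℂ)) (hχ'T : Inv φ (χ' : G → ℂ)) (hne : χ ≠ χ') :
    MemLocalIdeal M (lamL χ β * lamL χ' β) := by
  classical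
  haveI := Fintype.ofFinite (G ⧸ N)
  letI : MulAction T (G ⧸ N) :=
    { smul := fun t => QuotientGroup.map N N (φ t).toMonoidHom (fun n hn => hφN t n hn)
      one_smul := fun q => by
        obtain ⟨g, rfl⟩ := QuotientGroup.mk_surjective q
        show ((φ 1 g : G) : G ⧸ N) = _
        rw [map_one]; rfl
      mul_smul := fun s t q => by
        obtain ⟨g, rfl⟩ := QuotientGroup.mk_surjective q
        show ((φ (s * t) g : G) : G ⧸ N) = ((φ s (φ t g) : G) : G ⧸ N)
        rw [map_mul]; rfl }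
  have hsmul : ∀ (t : T) (g : G), t • (g : G ⧸ N) = ((φ t g : G) : G ⧸ N) := fun _ _ => rfl
  have hfixq : ∀ g : G, (∀ t : T, t • (g : G ⧸ N) = g) ↔ g ∈ C := by
    intro g
    rw [hC]
    refine forall_congr' fun t => ?_
    rw [hsmul, eq_comm, QuotientGroup.eq]
  have hCstab : ∀ (t : T) (g : G), φ t g ∈ C ↔ g ∈ C := by
    have h1 : ∀ (t : T) (g : G), g ∈ C → φ t g ∈ C := fun t g hg => by
      have := mul_mem hg (hNC ((hC g).1 hg t))
      rwa [mul_inv_cancel_left] at this
    refine fun t g => ⟨fun h => ?_, h1 t g⟩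
    have := h1 t⁻¹ _ h
    rwa [← MulAut.mul_apply, ← map_mul, inv_mul_cancel, map_one] at this
  have hB : ∀ (t : T) (g : G), extendByZero C (β : C → ℂ) (φ t g) =
      extendByZero C (β : C → ℂ) g := by
    intro t g
    by_cases hg : g ∈ C
    · rw [Char.extendByZero_apply_mem C _ hg, Char.extendByZero_apply_mem C _ ((hCstab t g).2 hg)]
      exact hβT t ⟨g, hg⟩ _ rfl
    · rw [Char.extendByZero_of_notMem C _ hg,
        Char.extendByZero_of_notMem C _ (fun h => hg ((hCstab t g).1 h))]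
  have hbc : ∀ ψ : IrrCharacter G, Inv φ (ψ : G → ℂ) → ∀ (t : T) (g : G),
      blockCoeff {ψ} (φ t g) = blockCoeff {ψ} g := fun ψ hψ t g => by
    rw [blockCoeff_singleton, blockCoeff_singleton, hψ t g]
  have hWinv : ∀ (t : T) (q : G ⧸ N), cosetTerm N χ χ' β (t • q) = cosetTerm N χ χ' β q := by
    intro t q
    rw [cosetTerm, cosetTerm, Finset.sum_filter, Finset.sum_filter]
    refine (Fintype.sum_equiv (φ t).toEquiv _ _ fun y => ?_).symm
    simp only [MulEquiv.toEquiv_eq_coe, EquivLike.coe_coe]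
    rw [← hsmul]
    simp only [smul_left_cancel_iff]
    split_ifs with h
    · congr 1
      refine Fintype.sum_equiv (φ t).toEquiv _ _ fun g => ?_
      simp only [MulEquiv.toEquiv_eq_coe, EquivLike.coe_coe]
      rw [hbc χ hχT, ← map_inv, ← map_mul, hbc χ' hχ'T, hB]
    · rfl
  have key := sum_sub_sum_fixed_of_pow hM (T := T) (α := G ⧸ N)
    (fun t => by
      obtain ⟨j, hj⟩ := hpow t
      refine ⟨j, fun q => ?_⟩
      obtain ⟨g, rfl⟩ := QuotientGroup.mk_surjective q
      rw [hsmul, eq_comm, QuotientGroup.eq]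
      exact hj g)
    (cosetTerm N χ χ' β) (memRing_cosetTerm N hNC hM hp hθinv hχ hχ' hβ) hWinv
  have hall : ∑ q, cosetTerm N χ χ' β q = 0 := by
    simp only [cosetTerm]
    rw [Finset.sum_fiberwise, ← Finset.sum_div, Finset.sum_comm]
    have h0 : ∀ g : G, ∑ y, blockCoeff {χ} y * blockCoeff {χ'} (y⁻¹ * g) = 0 := by
      intro g
      revert g
      rw [← funext_iff (g := fun _ => (0 : ℂ))]
      refine eq_of_omegaFun_eq (fun g k => ?_) (fun _ _ => rfl) fun ξ => ?_
      · refine Fintype.sum_equiv (MulAut.conj k⁻¹).toEquiv _ _ fun y => ?_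
        simp only [MulEquiv.toEquiv_eq_coe, EquivLike.coe_coe, MulAut.conj_apply, inv_inv]
        have h1 := blockCoeff_conj_invariant {χ} y k⁻¹
        rw [inv_inv] at h1
        rw [h1, ← blockCoeff_conj_invariant {χ'} ((k⁻¹ * y * k)⁻¹ * g) k]
        congr 2
        group
      · rw [omegaFun_conv ξ _ _ (blockCoeff_conj_invariant {χ}), omegaFun_blockCoeff,
          omegaFun_blockCoeff]
        simp only [Set.mem_singleton_iff]
        have h2 : omegaFun ξ (fun _ : G => (0 : ℂ)) = 0 := by simp [omegaFun]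
        rw [h2]
        split_ifs with h1 h2' <;> simp_all
    simp only [← Finset.sum_mul, h0, zero_mul, Finset.sum_const_zero, zero_div]
  have hfixed : ∑ q ∈ Finset.univ.filter (fun q : G ⧸ N => ∀ t : T, t • q = q),
      cosetTerm N χ χ' β q = lamL χ β * lamL χ' β := by
    have hfib : ∀ q : G ⧸ N, cosetTerm N χ χ' β q =
        ∑ y : G, if (y : G ⧸ N) = q then (∑ g : G, blockCoeff {χ} y * blockCoeff {χ'} (y⁻¹ * g) *
          extendByZero C (β : C → ℂ) g) / (β : C → ℂ) 1 else 0 := fun q => Finset.sum_filter _ _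
    simp only [hfib]
    rw [Finset.sum_comm]
    simp only [Finset.sum_ite_eq, Finset.mem_filter, Finset.mem_univ, true_and, hfixq]
    rw [← Finset.sum_filter, Finset.sum_subtype (p := fun y : G => y ∈ C) _ (fun y => by simp),
      ← Finset.sum_div, lamL_eq_omegaFun, lamL_eq_omegaFun,
      ← omegaFun_conv β _ _ (fun c k => by
        simp only [Subgroup.coe_mul, Subgroup.coe_inv]
        exact blockCoeff_conj_invariant {χ} _ _), omegaFun]
    congr 1
    rw [Finset.sum_comm]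
    have hinner : ∀ (y : C), ∑ g : G, blockCoeff {χ} (y : G) * blockCoeff {χ'} ((y : G)⁻¹ * g) *
        extendByZero C (β : C → ℂ) g = ∑ c : C, blockCoeff {χ} (y : G) *
          blockCoeff {χ'} ((y : G)⁻¹ * c) * (β : C → ℂ) c := by
      intro y
      rw [Finset.sum_congr rfl (fun g _ => mul_comm _ _), Char.sum_extendByZero_mul]
      exact Finset.sum_congr rfl fun c _ => mul_comm _ _
    rw [Finset.sum_comm]
    simp only [hinner]
    rw [Finset.sum_comm]
    simp only [Finset.sum_mul]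
    rfl
  rw [hall, hfixed, zero_sub] at key
  simpa using memIdeal_neg key

include hNC in
/-- Some invariant character over `θ` has a unit test value. -/
theorem exists_lamL_not_memIdeal [Fact p.Prime] (hM : IsPModular p M) (hp : ¬ p ∣ N.index)
    (hθinv : ∀ g, CharTwist.conjFun N (θ : N → ℂ) g = (θ : N → ℂ))
    (hφN : ∀ (t : T), ∀ n ∈ N, φ t n ∈ N)
    (hθT : ∀ (t : T) (n : N), (θ : N → ℂ) ⟨φ t n, hφN t n n.2⟩ = (θ : N → ℂ) n)
    (hC : ∀ g : G, g ∈ C ↔ ∀ t : T, g⁻¹ * φ t g ∈ N)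
    (hpow : ∀ t : T, ∃ j : ℕ, ∀ χ : IrrCharacter G, OverTop N (θ : N → ℂ) χ →
      ∀ g : G, (χ : G → ℂ) (φ (t ^ p ^ j) g) = (χ : G → ℂ) g)
    {β : IrrCharacter C} (hβ : Over N hNC (θ : N → ℂ) β)
    (hβT : ∀ (t : T) (c c' : C), (c' : G) = φ t c → (β : C → ℂ) c' = (β : C → ℂ) c) :
    ∃ χ : IrrCharacter G, OverTop N (θ : N → ℂ) χ ∧ Inv φ (χ : G → ℂ) ∧
      ¬ MemLocalIdeal M (lamL χ β) := by
  classical
  haveI := Fintype.ofFinite (G ⧸ N)
  have hover : ∀ (t : T) (χ : IrrCharacter G), OverTop N (θ : N → ℂ) χ →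
      OverTop N (θ : N → ℂ) (irrEquiv (φ t) χ) := by
    intro t χ hχ
    let ψ : N ≃* N :=
      { toFun := fun n => ⟨φ t n, hφN t n n.2⟩
        invFun := fun n => ⟨φ t⁻¹ n, hφN t⁻¹ n n.2⟩
        left_inv := fun n => Subtype.ext (show φ t⁻¹ (φ t n) = n by
          rw [← MulAut.mul_apply, ← map_mul, inv_mul_cancel, map_one, MulAut.one_apply])
        right_inv := fun n => Subtype.ext (show φ t (φ t⁻¹ n) = n by
          rw [← MulAut.mul_apply, ← map_mul, mul_inv_cancel, map_one, MulAut.one_apply])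
        map_mul' := fun a b => Subtype.ext (by simp) }
    unfold OverTop
    rw [show (θ : N → ℂ) = (θ : N → ℂ) ∘ ψ from (funext fun n => (hθT t n).symm)]
    show classInner ((fun n : N => (χ : G → ℂ) n) ∘ ψ) _ ≠ 0
    rw [Clifford.classInner_comp_equiv]
    exact hχ
  letI : MulAction T {χ : IrrCharacter G // OverTop N (θ : N → ℂ) χ} :=
    { smul := fun t χ => ⟨irrEquiv (φ t⁻¹) χ.1, hover t⁻¹ χ.1 χ.2⟩
      one_smul := fun χ => Subtype.ext (Subtype.ext (funext fun g =>
        show (χ.1 : G → ℂ) (φ 1⁻¹ g) = _ by simp))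
      mul_smul := fun s t χ => Subtype.ext (Subtype.ext (funext fun g =>
        show (χ.1 : G → ℂ) (φ (s * t)⁻¹ g) = (χ.1 : G → ℂ) (φ t⁻¹ (φ s⁻¹ g)) by
          rw [mul_inv_rev, map_mul]; rfl)) }
  have hCstab : ∀ (t : T) (g : G), φ t g ∈ C ↔ g ∈ C := by
    have h1 : ∀ (t : T) (g : G), g ∈ C → φ t g ∈ C := fun t g hg => by
      have := mul_mem hg (hNC ((hC g).1 hg t))
      rwa [mul_inv_cancel_left] at this
    refine fun t g => ⟨fun h => ?_, h1 t g⟩
    have := h1 t⁻¹ _ h
    rwa [← MulAut.mul_apply, ← map_mul, inv_mul_cancel, map_one] at this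
  have key := sum_sub_sum_fixed_of_pow hM (T := T)
    (α := {χ : IrrCharacter G // OverTop N (θ : N → ℂ) χ})
    (fun t => by
      obtain ⟨j, hj⟩ := hpow t⁻¹
      refine ⟨j, fun χ => Subtype.ext (Subtype.ext (funext fun g => ?_))⟩
      show (χ.1 : G → ℂ) (φ (t ^ p ^ j)⁻¹ g) = _
      rw [← inv_pow]
      exact hj χ.1 χ.2 g)
    (fun χ => lamL χ.1 β) (fun χ => memRing_lamL N hNC hM hp hθinv χ.2 hβ)
    (fun t χ => by
      show lamL (irrEquiv (φ t⁻¹) χ.1) β = lamL χ.1 β
      rw [lamL, lamL]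
      congr 1
      refine Fintype.sum_equiv (φ t⁻¹).toEquiv _ _ fun g => ?_
      simp only [MulEquiv.toEquiv_eq_coe, EquivLike.coe_coe]
      congr 1
      · rw [blockCoeff_singleton, blockCoeff_singleton]
        show (χ.1 : G → ℂ) (φ t⁻¹ 1) * _ / _ = _
        rw [map_one]
        rfl
      · by_cases hg : g ∈ C
        · rw [Char.extendByZero_apply_mem C _ hg,
            Char.extendByZero_apply_mem C _ ((hCstab t⁻¹ g).2 hg)]
          exact (hβT t⁻¹ ⟨g, hg⟩ _ rfl).symm
        · rw [Char.extendByZero_of_notMem C _ hg,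
            Char.extendByZero_of_notMem C _ (fun h => hg ((hCstab t⁻¹ g).1 h))])
  have hsum : ∑ χ : {χ : IrrCharacter G // OverTop N (θ : N → ℂ) χ}, lamL χ.1 β = 1 := by
    rw [← Finset.sum_subtype (Finset.univ.filter fun χ : IrrCharacter G => OverTop N (θ : N → ℂ) χ)
      (by simp) (fun χ => lamL χ β), Finset.sum_filter_of_ne (fun χ _ h => by_contra fun hn =>
        h (lamL_eq_zero_of_not_over N hNC hθinv hβ hn))]
    have e : ∀ g : G, ∑ χ : IrrCharacter G, blockCoeff {χ} g = if g = 1 then 1 else 0 := by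
      intro g
      have h := congrFun (eq_sum_omegaFun (H := G) (f := fun g => if g = 1 then (1 : ℂ) else 0)
        (fun g k => by simp [conj_eq_one_iff])) g
      rw [h]
      refine Finset.sum_congr rfl fun χ _ => ?_
      simp [omegaFun, deg_ne_zero χ]
    simp only [lamL, ← Finset.sum_div]
    rw [Finset.sum_comm]
    simp only [← Finset.sum_mul, e, ite_mul, one_mul, zero_mul, Finset.sum_ite_eq',
      Finset.mem_univ, if_true]
    rw [Char.extendByZero_apply_mem C _ (one_mem C)]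
    exact div_self (deg_ne_zero β)
  rw [hsum] at key
  by_contra hcon
  push Not at hcon
  refine not_memIdeal_one hM ?_
  have h0 := memIdeal_sum hM
    (Finset.univ.filter (fun χ : {χ : IrrCharacter G // OverTop N (θ : N → ℂ) χ} =>
      ∀ t : T, t • χ = χ)) (f := fun χ => lamL χ.1 β) fun χ hχ => hcon χ.1 χ.2 (fun t g => by
        have := congrFun (congrArg (fun x => (x.1 : G → ℂ)) ((Finset.mem_filter.1 hχ).2 t⁻¹)) g
        rw [← show (χ.1 : G → ℂ) (φ t⁻¹⁻¹ g) = (χ.1 : G → ℂ) g from this, inv_inv])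
  simpa using memIdeal_add hM key h0

end CfsgLib.Glauberman
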