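import Cfsg.Agent.Lib.Glauberman.LayerAbelian
import Cfsg.Agent.Lib.Glauberman.Solvable
import Cfsg.Agent.Lib.BlockReg.Integral
import Cfsg.Agent.Lib.Blk83.ItoMichler

/-!
# A coprime group fixes a character over an invariant character of a normal subgroup

The induction runs on the index of the normal subgroup plus the index of the subgroup known to
act trivially on the layer.
-/

set_option autoImplicit false

namespace CfsgLib.Glauberman

open Cfsg CfsgLib CfsgLib.BlockReg
open scoped ComplexConjugate commutatorElement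

universe u

/-- The statement for layers whose two indices sum to `n`. -/
def LayerClaim (n : ℕ) : Prop :=
  ∀ {G : Type u} [Group G] [Finite G] {S : Type u} [Group S] [Finite S] (φ : S →* MulAut G)
    (N : Subgroup G) [N.Normal] [Fintype N] (θ : IrrCharacter N) (S₀ : Subgroup S) [S₀.Normal],
    N.index + S₀.index = n → (∀ (s : S), ∀ x ∈ N, φ s x ∈ N) →
    (∀ (s : S) (x x' : N), (x' : G) = φ s x → (θ : N → ℂ) x' = (θ : N → ℂ) x) →
    (∀ s ∈ S₀, Triv N (θ : N → ℂ) φ s) → N.index.Coprime S₀.index →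
    (Group.IsSolvable (G ⧸ N) ∨ Group.IsSolvable (S ⧸ S₀)) →
    ∃ χ : IrrCharacter G, OverTop N (θ : N → ℂ) χ ∧ Inv φ (χ : G → ℂ)

variable {G : Type u} [Group G] [Finite G] {S : Type u} [Group S] [Finite S]
  (φ : S →* MulAut G) (N : Subgroup G) [N.Normal] [Fintype N]

omit [Finite S] [Finite G] in
/-- Extension by zero commutes with an automorphism fixing the function. -/
theorem extendByZero_fixed {C : Subgroup G} (hC : ∀ (s : S), ∀ x ∈ C, φ s x ∈ C) (f : C → ℂ)
    (hf : ∀ (s : S) (c c' : C), (c' : G) = φ s c → f c' = f c) (s : S) (g : G) :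
    extendByZero C f (φ s g) = extendByZero C f g := by
  by_cases hg : g ∈ C
  · rw [Char.extendByZero_apply_mem C _ hg, Char.extendByZero_apply_mem C _ (hC s g hg)]
    exact hf s ⟨g, hg⟩ _ rfl
  · rw [Char.extendByZero_of_notMem C _ hg, Char.extendByZero_of_notMem C _ fun h => hg ?_]
    have := hC s⁻¹ _ h
    rwa [← MulAut.mul_apply, ← map_mul, inv_mul_cancel, map_one] at this

omit [Finite G] [N.Normal] [Fintype N] in
/-- The relative index in a proper subgroup is smaller. -/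
theorem relIndex_lt_index {I : Subgroup G} (hNI : N ≤ I) (hI : I ≠ ⊤) [Finite G] :
    N.relIndex I < N.index := by
  have h := Subgroup.relIndex_mul_index hNI
  have h0 : N.index ≠ 0 := Subgroup.index_ne_zero_of_finite
  have h1 : I.index ≠ 1 := fun h1 => hI (Subgroup.index_eq_one.1 h1)
  rw [← h] at h0 ⊢
  obtain ⟨h2, h3⟩ := mul_ne_zero_iff.1 h0
  exact lt_mul_right (Nat.pos_of_ne_zero h2) (by omega)

/-- The inductive hypothesis inside an invariant intermediate subgroup. -/
theorem recurse_sub {n : ℕ} (ih : ∀ m < n, LayerClaim.{u} m) (θ : IrrCharacter N) (S₀ : Subgroup S)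
    [S₀.Normal] (hn : N.index + S₀.index = n) (hφN : ∀ (s : S), ∀ x ∈ N, φ s x ∈ N)
    (hθS : ∀ (s : S) (x x' : N), (x' : G) = φ s x → (θ : N → ℂ) x' = (θ : N → ℂ) x)
    (htriv : ∀ s ∈ S₀, Triv N (θ : N → ℂ) φ s) (hcop : N.index.Coprime S₀.index)
    (hsolv : Group.IsSolvable (G ⧸ N) ∨ Group.IsSolvable (S ⧸ S₀))
    (I : Subgroup G) [Fintype I] (hNI : N ≤ I) (hI : ∀ (s : S), ∀ x ∈ I, φ s x ∈ I)
    (hlt : N.relIndex I < N.index) :
    ∃ β : IrrCharacter I, Over N hNI (θ : N → ℂ) β ∧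
      ∀ (s : S) (c c' : I), (c' : G) = φ s c → (β : I → ℂ) c' = (β : I → ℂ) c := by
  classical
  set N' := N.subgroupOf I with hN'
  let e : N' ≃* N := Subgroup.subgroupOfEquivOfLe hNI
  haveI := Fintype.ofFinite N'
  let θ' : IrrCharacter N' := ⟨(θ : N → ℂ) ∘ e, CharTwist.isIrrCharacter_comp_equiv θ.2 e⟩
  have hsol : Group.IsSolvable (I ⧸ N') ∨ Group.IsSolvable (S ⧸ S₀) := by
    refine hsolv.imp_left fun h => ?_
    haveI := h
    refine Group.isSolvable_of_isSolvable_injective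
      (f := QuotientGroup.map N' N I.subtype le_rfl) ?_
    intro a b
    obtain ⟨a, rfl⟩ := QuotientGroup.mk_surjective a
    obtain ⟨b, rfl⟩ := QuotientGroup.mk_surjective b
    intro hab
    refine QuotientGroup.eq.2 (Subgroup.mem_subgroupOf.2 ?_)
    have h2 : ((a : G) : G ⧸ N) = ((b : G) : G ⧸ N) := hab
    exact QuotientGroup.eq.1 h2
  have htriv' : ∀ s ∈ S₀, Triv N' (θ' : N' → ℂ) (restrSub φ I hI) s := by
    intro s hs
    refine ⟨fun g => (htriv s hs).1 (g : G), fun H hNH η hη h h' he => ?_⟩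
    let f := H.equivMapOfInjective I.subtype I.subtype_injective
    have hN2 : N ≤ H.map I.subtype := fun x hx =>
      ⟨⟨x, hNI hx⟩, hNH (show (⟨x, hNI hx⟩ : I) ∈ N' from hx), rfl⟩
    haveI := Fintype.ofFinite H
    haveI := Fintype.ofFinite (H.map I.subtype)
    have hover : Over N hN2 (θ : N → ℂ) (irrEquiv f.symm η) := by
      have h0 : classInner (fun m : N' => (η : H → ℂ) ⟨(m : I), hNH m.2⟩) ((θ : N → ℂ) ∘ e) ≠ 0 :=
        hη
      have hfun : (fun m : N' => (η : H → ℂ) ⟨(m : I), hNH m.2⟩) =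
          (fun m : N => (η : H → ℂ) (f.symm ⟨(m : G), hN2 m.2⟩)) ∘ e := by
        funext m
        refine congrArg (η : H → ℂ) (f.injective ?_)
        rw [MulEquiv.apply_symm_apply]
        rfl
      rw [hfun, Clifford.classInner_comp_equiv] at h0
      exact h0
    have h2 := (htriv s hs).2 (H.map I.subtype) hN2 (irrEquiv f.symm η) hover (f h) (f h')
      (congrArg (I.subtype) he)
    simpa only [irrEquiv_apply, MulEquiv.symm_apply_apply] using h2
  obtain ⟨β, hβ, hinv⟩ := ih (N'.index + S₀.index) (by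
      rw [← hn]
      exact Nat.add_lt_add_right hlt _)
    (restrSub φ I hI) N' θ' S₀ rfl (fun s x hx => hφN s x hx)
    (fun s x x' hx => hθS s (e x) (e x') (congrArg I.subtype hx))
    htriv' (hcop.coprime_dvd_left (Subgroup.relIndex_dvd_index_of_normal N I)) hsol
  refine ⟨β, ?_, fun s c c' he => ?_⟩
  · have h0 : classInner (fun m : N' => (β : I → ℂ) m) ((θ : N → ℂ) ∘ e) ≠ 0 := hβ
    have hfun : (fun m : N' => (β : I → ℂ) m) =
        (fun m : N => (β : I → ℂ) ⟨(m : G), hNI m.2⟩) ∘ e := funext fun m => rfl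
    rw [hfun, Clifford.classInner_comp_equiv] at h0
    exact h0
  · rw [show c' = restrSub φ I hI s c from Subtype.ext he]
    exact hinv s c

/-- The case of an invariant character not fixed by the group. -/
theorem fixed_over_of_not_invariant {n : ℕ} (ih : ∀ m < n, LayerClaim.{u} m) (θ : IrrCharacter N)
    (S₀ : Subgroup S) [S₀.Normal] (hn : N.index + S₀.index = n)
    (hφN : ∀ (s : S), ∀ x ∈ N, φ s x ∈ N)
    (hθS : ∀ (s : S) (x x' : N), (x' : G) = φ s x → (θ : N → ℂ) x' = (θ : N → ℂ) x)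
    (htriv : ∀ s ∈ S₀, Triv N (θ : N → ℂ) φ s) (hcop : N.index.Coprime S₀.index)
    (hsolv : Group.IsSolvable (G ⧸ N) ∨ Group.IsSolvable (S ⧸ S₀))
    (hθ : ¬ ∀ g, CharTwist.conjFun N (θ : N → ℂ) g = (θ : N → ℂ)) :
    ∃ χ : IrrCharacter G, OverTop N (θ : N → ℂ) χ ∧ Inv φ (χ : G → ℂ) := by
  classical
  haveI := Fintype.ofFinite G
  set I := CharTwist.inertia N (θ : N → ℂ) with hIdef
  haveI := Fintype.ofFinite I
  have hNI : N ≤ I := fun x hx => by
    refine CharTwist.mem_inertia.2 (funext fun m => ?_)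
    exact (congrArg (θ : N → ℂ) (Subtype.ext rfl)).trans
      (Char.IsIrrCharacter.isClassFunction θ.2 m ⟨x, hx⟩)
  have hI : ∀ (s : S), ∀ x ∈ I, φ s x ∈ I := by
    intro s x hx
    refine CharTwist.mem_inertia.2 (funext fun m => ?_)
    have hm : φ s⁻¹ (m : G) ∈ N := hφN s⁻¹ m m.2
    have hsm : φ s (φ s⁻¹ (m : G)) = m := by
      rw [← MulAut.mul_apply, ← map_mul, mul_inv_cancel, map_one, MulAut.one_apply]
    calc CharTwist.conjFun N (θ : N → ℂ) (φ s x) m
        = CharTwist.conjFun N (θ : N → ℂ) x ⟨_, hm⟩ :=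
          hθS s ⟨x * φ s⁻¹ (m : G) * x⁻¹, ‹N.Normal›.conj_mem _ hm x⟩ _ (by
            show φ s x * (m : G) * (φ s x)⁻¹ = φ s (x * φ s⁻¹ (m : G) * x⁻¹)
            rw [map_mul, map_mul, hsm, map_inv])
      _ = (θ : N → ℂ) ⟨_, hm⟩ := congrFun (CharTwist.mem_inertia.1 hx) _
      _ = (θ : N → ℂ) m := (hθS s ⟨_, hm⟩ m hsm.symm).symm
  have hne : I ≠ ⊤ := fun h => hθ fun g => CharTwist.mem_inertia.1
    (show g ∈ I by rw [h]; trivial)
  obtain ⟨β, hβ, hβS⟩ := recurse_sub φ N ih θ S₀ hn hφN hθS htriv hcop hsolv I hNI hI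
    (relIndex_lt_index N hNI hne)
  have hirr : IsIrrCharacter G (indFun I (β : I → ℂ)) :=
    Clifford.isIrrCharacter_indFun N I hNI θ.2 (fun g => Iff.rfl) β.2 hβ
  refine ⟨⟨_, hirr⟩, ?_, fun s g => ?_⟩
  · refine inner_ne_zero_trans I.subtype (Subgroup.inclusion hNI)
      (Char.IsIrrCharacter.isCharacter hirr) β.2 θ.2 ?_ hβ
    show classInner (fun x : I => indFun I (β : I → ℂ) x) (β : I → ℂ) ≠ 0
    rw [← Char.classInner_conj_symm, ← Char.classInner_indFun I (β : I → ℂ) _
      (Char.IsIrrCharacter.isClassFunction hirr), Char.classInner_irr_self hirr, map_one]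
    exact one_ne_zero
  · show indFun I (β : I → ℂ) (φ s g) = indFun I (β : I → ℂ) g
    simp only [indFun]
    congr 1
    refine (Fintype.sum_equiv (φ s).toEquiv _ _ fun y => ?_).symm
    simp only [MulEquiv.toEquiv_eq_coe, EquivLike.coe_coe]
    rw [← map_inv, ← map_mul, ← map_mul, extendByZero_fixed φ hI (β : I → ℂ) hβS s]

omit [Finite S] in
/-- Test values are unchanged by an automorphism fixing `β`. -/
theorem lamL_translate [Fintype G] {C : Subgroup G} (hC : ∀ (s : S), ∀ x ∈ C, φ s x ∈ C)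
    (β : IrrCharacter C) (hβ : ∀ (s : S) (c c' : C), (c' : G) = φ s c →
      (β : C → ℂ) c' = (β : C → ℂ) c) (s : S) (χ : IrrCharacter G) :
    lamL (irrEquiv (φ s) χ) β = lamL χ β := by
  rw [lamL, lamL]
  congr 1
  refine Fintype.sum_equiv (φ s).toEquiv _ _ fun g => ?_
  simp only [MulEquiv.toEquiv_eq_coe, EquivLike.coe_coe]
  rw [blockCoeff_singleton, blockCoeff_singleton, irrEquiv_apply, irrEquiv_apply, map_one,
    extendByZero_fixed φ hC (β : C → ℂ) hβ s]

/-- The case of a solvable acting group. -/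
theorem fixed_over_of_solvable {n : ℕ} (ih : ∀ m < n, LayerClaim.{u} m) (θ : IrrCharacter N)
    (S₀ : Subgroup S) [S₀.Normal] (hn : N.index + S₀.index = n)
    (hφN : ∀ (s : S), ∀ x ∈ N, φ s x ∈ N)
    (hθS : ∀ (s : S) (x x' : N), (x' : G) = φ s x → (θ : N → ℂ) x' = (θ : N → ℂ) x)
    (htriv : ∀ s ∈ S₀, Triv N (θ : N → ℂ) φ s) (hcop : N.index.Coprime S₀.index)
    (hθinv : ∀ g, CharTwist.conjFun N (θ : N → ℂ) g = (θ : N → ℂ))
    (hS : Group.IsSolvable (S ⧸ S₀)) :
    ∃ χ : IrrCharacter G, OverTop N (θ : N → ℂ) χ ∧ Inv φ (χ : G → ℂ) := by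
  classical
  haveI := Fintype.ofFinite G
  by_cases h1 : S₀ = ⊤
  · obtain ⟨χ, hχ⟩ := Blk83.exists_over N θ
    exact ⟨χ, hχ, fun s g => Triv.fixed N (θ : N → ℂ) φ (htriv s (by rw [h1]; trivial)) hχ g⟩
  haveI : Nontrivial (S ⧸ S₀) := Finite.one_lt_card_iff_nontrivial.1 (by
    have h2 : S₀.index ≠ 1 := fun h => h1 (Subgroup.index_eq_one.1 h)
    have h3 : S₀.index ≠ 0 := Subgroup.index_ne_zero_of_finite
    show 1 < S₀.index
    omega)
  obtain ⟨p, Tb, hp, hTbn, hTb, hTbne⟩ := exists_normal_pSubgroup (S ⧸ S₀) hS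
  haveI : Fact p.Prime := ⟨hp⟩
  set T : Subgroup S := Tb.comap (QuotientGroup.mk' S₀) with hTdef
  haveI : T.Normal := hTbn.comap _
  have hS₀T : S₀ ≤ T := fun x hx => by
    show (x : S ⧸ S₀) ∈ Tb
    rw [(QuotientGroup.eq_one_iff x).2 hx]
    exact one_mem Tb
  have hTidx : T.index = Tb.index :=
    Subgroup.index_comap_of_surjective Tb (QuotientGroup.mk'_surjective S₀)
  have hTlt : T.index < S₀.index := by
    have h2 : Tb.index * Nat.card Tb = S₀.index := Subgroup.index_mul_card Tb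
    have h3 : Nat.card Tb ≠ 1 := fun h => hTbne (Subgroup.eq_bot_of_card_eq _ h)
    have h4 := Nat.card_pos (α := Tb)
    rw [hTidx, ← h2]
    exact lt_mul_right (Nat.pos_of_ne_zero Subgroup.index_ne_zero_of_finite) (by omega)
  have hpS : p ∣ S₀.index := by
    obtain ⟨k, hk⟩ := IsPGroup.iff_card.1 hTb
    have hk0 : k ≠ 0 := fun h => hTbne (Subgroup.eq_bot_of_card_eq _ (by rw [hk, h, pow_zero]))
    exact ((dvd_pow_self p hk0).trans (dvd_of_eq hk.symm)).trans
      (Subgroup.card_subgroup_dvd_card Tb)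
  have hpN : ¬ p ∣ N.index := fun h => hp.not_dvd_one (hcop ▸ Nat.dvd_gcd h hpS)
  have hTpow : ∀ t ∈ T, ∃ j : ℕ, t ^ p ^ j ∈ S₀ := by
    intro t ht
    obtain ⟨j, hj⟩ := hTb ⟨(t : S ⧸ S₀), ht⟩
    refine ⟨j, (QuotientGroup.eq_one_iff _).1 ?_⟩
    rw [QuotientGroup.mk_pow]
    exact congrArg Subtype.val hj
  let C : Subgroup G :=
    { carrier := {g | ∀ t ∈ T, g⁻¹ * φ t g ∈ N}
      one_mem' := fun t _ => by simp
      mul_mem' := fun {a b} ha hb t ht => by
        have := mul_mem (‹N.Normal›.conj_mem _ (ha t ht) b⁻¹) (hb t ht)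
        rw [map_mul]
        simpa [mul_assoc] using this
      inv_mem' := fun {a} ha t ht => by
        have := ‹N.Normal›.conj_mem _ (inv_mem (ha t ht)) a
        rw [map_inv]
        simpa [mul_assoc] using this }
  have hmemC : ∀ g, g ∈ C ↔ ∀ t ∈ T, g⁻¹ * φ t g ∈ N := fun g => Iff.rfl
  have hNC : N ≤ C := fun x hx t _ => mul_mem (inv_mem hx) (hφN t x hx)
  have hCS : ∀ (s : S), ∀ x ∈ C, φ s x ∈ C := by
    intro s x hx t ht
    have ht' : s⁻¹ * t * s ∈ T := by
      simpa using Subgroup.Normal.conj_mem inferInstance t ht s⁻¹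
    have := hφN s _ (hx _ ht')
    have he : φ t (φ s x) = φ s (φ (s⁻¹ * t * s) x) := by
      simp only [← MulAut.mul_apply, ← map_mul]
      congr 2
      group
    rw [map_mul, map_inv, ← he] at this
    exact this
  by_cases hCtop : C = ⊤
  · -- everything in `T` acts trivially
    have hTtriv : ∀ t ∈ T, Triv N (θ : N → ℂ) φ t := by
      intro t ht
      obtain ⟨j, hj⟩ := hTpow t ht
      exact triv_of_pow N (θ : N → ℂ) φ hpN θ.2 hθinv
        (fun g => (show g ∈ C by rw [hCtop]; trivial) t ht) (fun x x' h => hθS t x x' h)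
        (htriv _ hj)
    have hsolT : Group.IsSolvable (S ⧸ T) := by
      haveI := hS
      refine Group.isSolvable_of_surjective (f := QuotientGroup.map S₀ T (MonoidHom.id S) hS₀T) ?_
      intro q
      obtain ⟨x, rfl⟩ := QuotientGroup.mk_surjective q
      exact ⟨(x : S ⧸ S₀), rfl⟩
    exact ih (N.index + T.index) (by omega) φ N θ T rfl hφN hθS hTtriv
      (hcop.coprime_dvd_right (Subgroup.index_dvd_of_le hS₀T)) (Or.inr hsolT)
  · haveI := Fintype.ofFinite C
    obtain ⟨β, hβ, hβS⟩ := recurse_sub φ N ih θ S₀ hn hφN hθS htriv hcop (Or.inr hS) C hNC hCS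
      (relIndex_lt_index N hNC hCtop)
    obtain ⟨M, hM⟩ := exists_isPModular hp
    haveI := Fintype.ofFinite (G ⧸ N)
    set φT : T →* MulAut G := φ.comp T.subtype with hφT
    have hC' : ∀ g : G, g ∈ C ↔ ∀ t : T, g⁻¹ * φT t g ∈ N :=
      fun g => ⟨fun h t => h t t.2, fun h t ht => h ⟨t, ht⟩⟩
    obtain ⟨χ, hχ, hχT, hunit⟩ := exists_lamL_not_memIdeal N hNC φT hM hpN hθinv
      (fun t => hφN (t : S)) (fun t x => hθS (t : S) x _ rfl) hC'
      (fun t => by
        obtain ⟨j, hj⟩ := hTpow (t : S) t.2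
        exact ⟨j, fun χ hχ g => by
          have := Triv.fixed N (θ : N → ℂ) φ (htriv _ hj) hχ g
          rw [hφT, MonoidHom.comp_apply, Subgroup.coe_subtype, SubgroupClass.coe_pow]
          exact this⟩)
      hβ (fun t => hβS (t : S))
    refine ⟨χ, hχ, fun s g => ?_⟩
    have hover : OverTop N (θ : N → ℂ) (irrEquiv (φ s) χ) := by
      have he : (θ : N → ℂ) = (θ : N → ℂ) ∘ restrSub φ N hφN s :=
        funext fun x => (hθS s x _ rfl).symm
      have h : classInner (fun x : N => (χ : G → ℂ) x) (θ : N → ℂ) ≠ 0 := hχ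
      rw [← Clifford.classInner_comp_equiv (restrSub φ N hφN s), ← he] at h
      exact h
    have hinvT : Inv φT ((irrEquiv (φ s) χ : IrrCharacter G) : G → ℂ) := by
      intro t g
      rw [irrEquiv_apply, irrEquiv_apply,
        ← hχT ⟨s * t * s⁻¹, Subgroup.Normal.conj_mem inferInstance (t : S) t.2 s⟩ (φ s g)]
      congr 1
      simp [φT, ← MulAut.mul_apply, ← map_mul]
    by_contra hne
    have hne' : irrEquiv (φ s) χ ≠ χ := fun h => hne (by
      rw [← irrEquiv_apply (φ s) χ g, h])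
    refine not_memIdeal_mul hM (memRing_lamL N hNC hM hpN hθinv hover hβ)
      (memRing_lamL N hNC hM hpN hθinv hχ hβ) (by rw [lamL_translate φ hCS β hβS s]; exact hunit)
      hunit ?_
    exact lamL_mul_memIdeal N hNC φT hM hpN hθinv (fun t => hφN (t : S)) hC'
      (fun t => by
        obtain ⟨j, hj⟩ := hTpow (t : S) t.2
        exact ⟨j, fun g => by
          rw [hφT, MonoidHom.comp_apply, Subgroup.coe_subtype, SubgroupClass.coe_pow]
          exact (htriv _ hj).1 g⟩)
      hβ (fun t => hβS (t : S)) hover hχ hinvT hχT hne'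

/-- The case of a solvable layer. -/
theorem fixed_over_of_solvable_layer {n : ℕ} (ih : ∀ m < n, LayerClaim.{u} m) (θ : IrrCharacter N)
    (S₀ : Subgroup S) [S₀.Normal] (hn : N.index + S₀.index = n)
    (hφN : ∀ (s : S), ∀ x ∈ N, φ s x ∈ N)
    (hθS : ∀ (s : S) (x x' : N), (x' : G) = φ s x → (θ : N → ℂ) x' = (θ : N → ℂ) x)
    (htriv : ∀ s ∈ S₀, Triv N (θ : N → ℂ) φ s) (hcop : N.index.Coprime S₀.index)
    (hθinv : ∀ g, CharTwist.conjFun N (θ : N → ℂ) g = (θ : N → ℂ))
    (hG : Group.IsSolvable (G ⧸ N)) :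
    ∃ χ : IrrCharacter G, OverTop N (θ : N → ℂ) χ ∧ Inv φ (χ : G → ℂ) := by
  classical
  haveI := Fintype.ofFinite G
  set M : Subgroup G := N ⊔ commutator G with hMdef
  by_cases hMN : M = N
  · refine exists_fixed_over_abelian N φ hθinv ?_ hφN hθS S₀ htriv hcop
    intro a b
    obtain ⟨a, rfl⟩ := QuotientGroup.mk_surjective a
    obtain ⟨b, rfl⟩ := QuotientGroup.mk_surjective b
    rw [← QuotientGroup.mk_mul, ← QuotientGroup.mk_mul, QuotientGroup.eq, ← hMN]
    refine Subgroup.mem_sup_right ?_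
    rw [show (a * b)⁻¹ * (b * a) = ⁅b⁻¹, a⁻¹⁆ by rw [commutatorElement_def]; group]
    exact Subgroup.commutator_mem_commutator (Subgroup.mem_top _) (Subgroup.mem_top _)
  · haveI : M.Normal := by rw [hMdef]; infer_instance
    haveI := Fintype.ofFinite M
    have hNM : N ≤ M := le_sup_left
    have hMtop : M ≠ ⊤ := by
      intro h
      haveI := hG
      have hNtop : N ≠ ⊤ := fun h' => hMN (by rw [h, h'])
      haveI : Nontrivial (G ⧸ N) := Finite.one_lt_card_iff_nontrivial.1 (by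
        have h2 : N.index ≠ 1 := fun h => hNtop (Subgroup.index_eq_one.1 h)
        have h3 : N.index ≠ 0 := Subgroup.index_ne_zero_of_finite
        show 1 < N.index
        omega)
      have hsurj := QuotientGroup.mk'_surjective N
      have h2 : (⊤ : Subgroup G).map (QuotientGroup.mk' N) ≤ commutator (G ⧸ N) := by
        rw [← h, hMdef, Subgroup.map_sup, QuotientGroup.map_mk'_self, bot_sup_eq,
          ← derivedSeries_one, map_derivedSeries_eq hsurj, derivedSeries_one]
      rw [Subgroup.map_top_of_surjective _ hsurj, top_le_iff] at h2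
      exact (Group.IsSolvable.commutator_lt_top_of_nontrivial (G := G ⧸ N)).ne h2
    have hMS : ∀ (s : S), ∀ x ∈ M, φ s x ∈ M := by
      intro s
      have hle : M ≤ M.comap (φ s).toMonoidHom := by
        refine sup_le (fun x hx => Subgroup.mem_sup_left (hφN s x hx)) ?_
        refine Subgroup.map_le_iff_le_comap.1 (le_trans ?_ le_sup_right)
        rw [← derivedSeries_one]
        exact map_derivedSeries_le_derivedSeries (φ s).toMonoidHom 1
      exact fun x hx => hle hx
    obtain ⟨ψ, hψ, hψS⟩ := recurse_sub φ N ih θ S₀ hn hφN hθS htriv hcop (Or.inl hG) M hNM hMS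
      (relIndex_lt_index N hNM hMtop)
    have hMlt : M.index < N.index := by
      have h2 := Subgroup.relIndex_mul_index hNM
      have h3 : N.relIndex M ≠ 1 := fun h => hMN (le_antisymm (Subgroup.relIndex_eq_one.1 h) hNM)
      have h4 : N.index ≠ 0 := Subgroup.index_ne_zero_of_finite
      rw [← h2] at h4 ⊢
      obtain ⟨h5, h6⟩ := mul_ne_zero_iff.1 h4
      exact lt_mul_left (Nat.pos_of_ne_zero h6) (by omega)
    have htrivM : ∀ s ∈ S₀, Triv M (ψ : M → ℂ) φ s := by
      intro s hs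
      refine ⟨fun g => hNM ((htriv s hs).1 g), fun H hMH η hη h h' he => ?_⟩
      haveI := Fintype.ofFinite H
      refine (htriv s hs).2 H (hNM.trans hMH) η ?_ h h' he
      exact inner_ne_zero_trans (Subgroup.inclusion hMH) (Subgroup.inclusion hNM)
        (Char.IsIrrCharacter.isCharacter η.2) ψ.2 θ.2 hη hψ
    have hsolM : Group.IsSolvable (G ⧸ M) := by
      haveI := hG
      refine Group.isSolvable_of_surjective (f := QuotientGroup.map N M (MonoidHom.id G) hNM) ?_
      intro q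
      obtain ⟨x, rfl⟩ := QuotientGroup.mk_surjective q
      exact ⟨(x : G ⧸ N), rfl⟩
    obtain ⟨χ, hχ, hinv⟩ := ih (M.index + S₀.index) (by omega) φ M ψ S₀ rfl hMS
      (fun s x x' h => hψS s x x' h) htrivM
      (hcop.coprime_dvd_left ⟨_, ((Subgroup.relIndex_mul_index hNM).symm.trans (mul_comm _ _))⟩)
      (Or.inl hsolM)
    exact ⟨χ, inner_ne_zero_trans M.subtype (Subgroup.inclusion hNM)
      (Char.IsIrrCharacter.isCharacter χ.2) ψ.2 θ.2 hχ hψ, hinv⟩

omit [Finite G] [Finite S] [N.Normal] [Fintype N] in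
/-- The statement holds for all indices. -/
theorem layerClaim (n : ℕ) : LayerClaim.{u} n := by
  induction n using Nat.strong_induction_on with
  | _ n ih =>
  intro G _ _ S _ _ φ N _ _ θ S₀ _ hn hφN hθS htriv hcop hsolv
  by_cases hθ : ∀ g, CharTwist.conjFun N (θ : N → ℂ) g = (θ : N → ℂ)
  · rcases hsolv with h | h
    · exact fixed_over_of_solvable_layer φ N ih θ S₀ hn hφN hθS htriv hcop hθ h
    · exact fixed_over_of_solvable φ N ih θ S₀ hn hφN hθS htriv hcop hθ h
  · exact fixed_over_of_not_invariant φ N ih θ S₀ hn hφN hθS htriv hcop hsolv hθ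

end CfsgLib.Glauberman
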