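import Cfsg.Agent.Lib.BlockReg.Foundation
import Cfsg.Agent.Lib.BlockReg.Integral
import Cfsg.Agent.Lib.Blocks.ClassSum
import Cfsg.Agent.Lib.Char.Conj
import Mathlib.Algebra.Group.End

/-!
# The Glauberman correspondence for a coprime action of a p-group

Proof by restricting central idempotents to the fixed-point subgroup modulo a maximal ideal
above `p`: restriction is multiplicative modulo `p` on invariant class functions.
-/

set_option autoImplicit false

namespace CfsgLib.Glauberman

open Cfsg CfsgLib.BlockReg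
open scoped ComplexConjugate

universe u v

variable {G : Type u} [Group G] [Finite G] {S : Type v} [Group S] [Finite S]
  (φ : S →* MulAut G) {p : ℕ} {M : Ideal Cfsg.AlgInt}

/-- The fixed points of an action by automorphisms. -/
def fixedSub : Subgroup G where
  carrier := {g | ∀ s : S, φ s g = g}
  mul_mem' := fun {a b} ha hb s => by rw [map_mul, ha s, hb s]
  one_mem' := fun s => map_one _
  inv_mem' := fun {a} ha s => by rw [map_inv, ha s]

omit [Finite G] [Finite S] in
theorem mem_fixedSub {g : G} : g ∈ fixedSub φ ↔ ∀ s : S, φ s g = g := Iff.rfl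

/-- A function invariant under the action. -/
def Inv (f : G → ℂ) : Prop := ∀ (s : S) (g : G), f (φ s g) = f g

/-- A sum over a `p`-group set is congruent mod `M` to the sum over the fixed points. -/
theorem sum_sub_sum_fixed_memIdeal [Fact p.Prime] (hM : IsPModular p M) {P : Type v} [Group P]
    (hP : IsPGroup p P) {α : Type*} [MulAction P α] [Fintype α]
    [DecidablePred (· ∈ MulAction.fixedPoints P α)] (f : α → ℂ) (hfR : ∀ x, MemLocalRing M (f x))
    (hf : ∀ (u : P) (x : α), f (u • x) = f x) :
    MemLocalIdeal M (∑ x, f x -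
      ∑ x ∈ Finset.univ.filter (fun x : α => x ∈ MulAction.fixedPoints P α), f x) := by
  classical
  haveI := isPrime_localIdeal hM
  haveI : CharP (localSubring hM ⧸ localIdeal hM) p := by
    have h0 : ((p : ℕ) : localSubring hM ⧸ localIdeal hM) = 0 := by
      rw [← map_natCast (Ideal.Quotient.mk (localIdeal hM)), Ideal.Quotient.eq_zero_iff_mem]
      show MemLocalIdeal M _
      rw [show (((p : localSubring hM)) : ℂ) = (p : ℂ) from map_natCast (localSubring hM).subtype p]
      exact (memIdeal_natCast_iff hM p).2 dvd_rfl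
    haveI : Nontrivial (localSubring hM ⧸ localIdeal hM) :=
      Ideal.Quotient.nontrivial_iff.2 (isPrime_localIdeal hM).ne_top
    exact (CharP.charP_iff_prime_eq_zero hM.1).2 h0
  let F : α → localSubring hM ⧸ localIdeal hM :=
    fun x => Ideal.Quotient.mk _ ⟨f x, hfR x⟩
  have h := CfsgLib.Blocks.sum_eq_sum_fixed hP F
    (fun u x => by simp only [F]; congr 2; exact hf u x)
  simp only [F, ← map_sum] at h
  have h' := Ideal.Quotient.eq.1 h
  have h'' : MemLocalIdeal M _ := h'
  rw [AddSubgroupClass.coe_sub, AddSubmonoidClass.coe_finsetSum, AddSubmonoidClass.coe_finsetSum] at h''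
  convert h'' using 4

theorem card_congr_fixed [Fact p.Prime] (hS : IsPGroup p S) :
    Nat.card G ≡ Nat.card (fixedSub φ) [MOD p] := by
  letI : MulAction S G := MulAction.compHom G φ
  have h := hS.card_modEq_card_fixedPoints G
  have : Nat.card (MulAction.fixedPoints S G) = Nat.card (fixedSub φ) :=
    Nat.card_congr (Equiv.setCongr (by ext g; rfl))
  rwa [this] at h

/-- Fusion of fixed elements is controlled by the fixed subgroup. -/
theorem isConj_of_isConj [Fact p.Prime] (hS : IsPGroup p S) (hpG : ¬ p ∣ Nat.card G)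
    {c c' : fixedSub φ} (h : IsConj (c : G) (c' : G)) : IsConj c c' := by
  obtain ⟨g, hg⟩ := isConj_iff.1 h
  letI : MulAction S {x : G // x * (c : G) * x⁻¹ = c'} :=
    { smul := fun s x => ⟨φ s x, by
        have := congrArg (φ s) x.2
        simpa [map_mul, map_inv, c.2 s, c'.2 s] using this⟩
      one_smul := fun x => Subtype.ext (show φ 1 (x : G) = x by simp)
      mul_smul := fun s t x => Subtype.ext (show φ (s * t) (x : G) = φ s (φ t x) by simp) }
  have hcard : Nat.card {x : G // x * (c : G) * x⁻¹ = c'} =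
      Nat.card (Subgroup.centralizer ({(c : G)} : Set G)) := by
    refine Nat.card_congr
      { toFun := fun x => ⟨g⁻¹ * x, ?_⟩, invFun := fun y => ⟨g * y, ?_⟩,
        left_inv := fun x => by simp, right_inv := fun y => by simp }
    · rw [Subgroup.mem_centralizer_singleton_iff]
      have h1 := x.2
      calc g⁻¹ * (x : G) * (c : G) = g⁻¹ * ((x : G) * (c : G) * (x : G)⁻¹) * x := by group
        _ = g⁻¹ * (g * (c : G) * g⁻¹) * x := by rw [h1, hg]
        _ = (c : G) * (g⁻¹ * x) := by group
    · have h1 := Subgroup.mem_centralizer_singleton_iff.1 y.2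
      calc g * (y : G) * (c : G) * (g * (y : G))⁻¹
          = g * ((y : G) * (c : G)) * (y : G)⁻¹ * g⁻¹ := by group
        _ = g * (c : G) * g⁻¹ := by rw [h1]; group
        _ = c' := hg
  have hnd : ¬ p ∣ Nat.card {x : G // x * (c : G) * x⁻¹ = c'} := fun hd =>
    hpG ((hcard ▸ hd).trans (Subgroup.card_subgroup_dvd_card _))
  obtain ⟨x, hx⟩ := hS.nonempty_fixed_point_of_prime_not_dvd_card _ hnd
  refine isConj_iff.2 ⟨⟨x, fun s => congrArg Subtype.val (hx s)⟩, Subtype.ext ?_⟩
  exact x.2

/-- Every invariant class contains a fixed point. -/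
theorem exists_fixed_isConj [Fact p.Prime] (hS : IsPGroup p S) (hpG : ¬ p ∣ Nat.card G) {g : G}
    (hg : ∀ s : S, IsConj (φ s g) g) : ∃ c ∈ fixedSub φ, IsConj g c := by
  haveI := Fintype.ofFinite G
  letI : MulAction S {x : G // IsConj g x} :=
    { smul := fun s x => ⟨φ s x, (hg s).symm.trans ((φ s).toMonoidHom.map_isConj x.2)⟩
      one_smul := fun x => Subtype.ext (show φ 1 (x : G) = x by simp)
      mul_smul := fun s t x => Subtype.ext (show φ (s * t) (x : G) = φ s (φ t x) by simp) }
  have hnd : ¬ p ∣ Nat.card {x : G // IsConj g x} := fun hd => by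
    refine hpG (hd.trans ?_)
    classical
    rw [Nat.card_eq_fintype_card, Fintype.card_subtype, CfsgLib.Char.card_conjClass]
    exact Subgroup.index_dvd_card _
  obtain ⟨x, hx⟩ := hS.nonempty_fixed_point_of_prime_not_dvd_card _ hnd
  exact ⟨x, fun s => congrArg Subtype.val (hx s), x.2⟩

/-- `omegaFun` on the fixed subgroup of the restriction of a function. -/
noncomputable def lamFun [Fintype (fixedSub φ)] (β : IrrCharacter (fixedSub φ)) (f : G → ℂ) : ℂ :=
  omegaFun β (fun c : fixedSub φ => f c)

section Local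

variable {H : Type u} [Group H] [Finite H]

theorem omegaFun_memRing [Fintype H] (hM : IsPModular p M) (β : IrrCharacter H) {f : H → ℂ}
    (hf : ∀ g h, IsConj g h → f g = f h) (hR : ∀ g, MemLocalRing M (f g)) :
    MemLocalRing M (omegaFun β f) := by
  classical
  haveI := Fintype.ofFinite (ConjClasses H)
  rw [omegaFun, sum_mul_char_div β f hf]
  exact memRing_sum hM _ fun C _ => memRing_mul hM (hR _) (memRing_centralChar hM β _)

theorem omegaFun_memIdeal [Fintype H] (hM : IsPModular p M) (β : IrrCharacter H) {f : H → ℂ}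
    (hf : ∀ g h, IsConj g h → f g = f h) (hR : ∀ g, MemLocalIdeal M (f g)) :
    MemLocalIdeal M (omegaFun β f) := by
  classical
  haveI := Fintype.ofFinite (ConjClasses H)
  rw [omegaFun, sum_mul_char_div β f hf]
  exact memIdeal_sum hM _ fun C _ => memIdeal_mul_right hM (hR _) (memRing_centralChar hM β _)

theorem congr_of_conj_invariant {f : H → ℂ} (hf : ∀ g h, f (h * g * h⁻¹) = f g) :
    ∀ g h, IsConj g h → f g = f h := by
  intro g h hgh
  obtain ⟨c, hc⟩ := isConj_iff.1 hgh
  rw [← hc, hf]

/-- A class function is the combination of the primitive idempotents by its central characters. -/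
theorem eq_sum_omegaFun [Fintype H] {f : H → ℂ} (hf : ∀ g h, f (h * g * h⁻¹) = f g) :
    f = fun g => ∑ β : IrrCharacter H, omegaFun β f * blockCoeff {β} g := by
  classical
  refine eq_of_omegaFun_eq hf (fun g h => ?_) fun ξ => ?_
  · simp only [blockCoeff_conj_invariant]
  · have : omegaFun ξ (fun g => ∑ β : IrrCharacter H, omegaFun β f * blockCoeff {β} g) =
        ∑ β : IrrCharacter H, omegaFun β f * omegaFun ξ (blockCoeff {β}) := by
      simp only [omegaFun, Finset.sum_mul, Finset.sum_div, Finset.mul_sum]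
      rw [Finset.sum_comm]
      exact Finset.sum_congr rfl fun β _ => Finset.sum_congr rfl fun g _ =>
        Finset.sum_congr rfl fun x _ => by ring
    rw [this]
    simp [omegaFun_blockCoeff, Set.mem_singleton_iff]

theorem blockCoeff_singleton (β : IrrCharacter H) (g : H) :
    blockCoeff {β} g = (β : H → ℂ) 1 * conj ((β : H → ℂ) g) / (Nat.card H : ℂ) := by
  rw [blockCoeff, finsum_mem_singleton]
  ring

theorem blockCoeff_singleton_memRing (hM : IsPModular p M) (hpH : ¬ p ∣ Nat.card H)
    (β : IrrCharacter H) (g : H) : MemLocalRing M (blockCoeff {β} g) := by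
  rw [blockCoeff_singleton, ← char_inv, div_eq_mul_inv]
  exact memRing_mul hM (memRing_mul hM (memRing_char hM β 1) (memRing_char hM β _))
    (memRing_inv_natCast hM hpH)

theorem not_dvd_deg (hpH : ¬ p ∣ Nat.card H) (β : IrrCharacter H) :
    ¬ p ∣ charDegree (β : H → ℂ) := fun h => hpH (h.trans (deg_dvd_card β))

end Local

theorem not_dvd_card_fixed (hpG : ¬ p ∣ Nat.card G) : ¬ p ∣ Nat.card (fixedSub φ) :=
  fun h => hpG (h.trans (Subgroup.card_subgroup_dvd_card _))

/-- Restriction to the fixed points is multiplicative mod `M` on invariant class functions. -/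
theorem lamFun_conv [Fintype G] [Fintype (fixedSub φ)] [Fact p.Prime] (hM : IsPModular p M)
    (hS : IsPGroup p S) (β : IrrCharacter (fixedSub φ)) {f h : G → ℂ}
    (hf : ∀ g k, f (k * g * k⁻¹) = f g) (hh : ∀ g k, h (k * g * k⁻¹) = h g)
    (hfR : ∀ g, MemLocalRing M (f g)) (hhR : ∀ g, MemLocalRing M (h g))
    (hfS : Inv φ f) (hhS : Inv φ h) :
    MemLocalIdeal M (lamFun φ β (fun g => ∑ y, f y * h (y⁻¹ * g)) - lamFun φ β f * lamFun φ β h) := by
  classical
  set f' : fixedSub φ → ℂ := fun c => f c with hf'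
  set h' : fixedSub φ → ℂ := fun c => h c with hh'
  have hf'c : ∀ c k, f' (k * c * k⁻¹) = f' c := fun c k => by simp [f', hf]
  have hh'c : ∀ c k, h' (k * c * k⁻¹) = h' c := fun c k => by simp [h', hh]
  unfold lamFun
  rw [← omegaFun_conv β f' h' hf'c]
  have hdiff : ∀ c : fixedSub φ, MemLocalIdeal M
      (∑ y, f y * h (y⁻¹ * c) - ∑ y : fixedSub φ, f' y * h' (y⁻¹ * c)) := by
    intro c
    letI : MulAction S G := MulAction.compHom G φ
    have key := sum_sub_sum_fixed_memIdeal hM hS (fun y : G => f y * h (y⁻¹ * c))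
      (fun y => memRing_mul hM (hfR y) (hhR _))
      (fun s y => by
        show f (φ s y) * h ((φ s y)⁻¹ * c) = _
        conv_lhs => rw [← c.2 s, ← map_inv, ← map_mul, hfS, hhS])
    have : ∑ y : fixedSub φ, f' y * h' (y⁻¹ * c) =
        ∑ y ∈ Finset.univ.filter (fun y : G => y ∈ MulAction.fixedPoints S G),
          f y * h (y⁻¹ * c) := by
      rw [Finset.sum_subtype (p := fun y : G => y ∈ fixedSub φ) _ (fun y => by
        simp only [Finset.mem_filter, Finset.mem_univ, true_and]; rfl)]
      rfl
    rwa [this]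
  have hsub : omegaFun β (fun c : fixedSub φ => ∑ y, f y * h (y⁻¹ * c)) -
      omegaFun β (fun c => ∑ y, f' y * h' (y⁻¹ * c)) =
      omegaFun β (fun c : fixedSub φ =>
        ∑ y, f y * h (y⁻¹ * c) - ∑ y : fixedSub φ, f' y * h' (y⁻¹ * c)) := by
    simp only [omegaFun, sub_mul, Finset.sum_sub_distrib, sub_div]
  rw [hsub]
  refine omegaFun_memIdeal hM β (congr_of_conj_invariant fun c k => ?_) hdiff
  congr 1
  · push_cast
    refine Fintype.sum_equiv (MulAut.conj (k : G)⁻¹).toEquiv _ _ fun y => ?_
    simp only [MulEquiv.toEquiv_eq_coe, EquivLike.coe_coe, MulAut.conj_apply, inv_inv]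
    have h1 := hf y (k : G)⁻¹
    rw [inv_inv] at h1
    rw [h1, ← hh (((k : G)⁻¹ * y * k)⁻¹ * c) k]
    congr 2
    group
  · refine Fintype.sum_equiv (MulAut.conj k⁻¹).toEquiv _ _ fun y => ?_
    simp only [MulEquiv.toEquiv_eq_coe, EquivLike.coe_coe, MulAut.conj_apply, inv_inv]
    have h1 := hf'c y k⁻¹
    rw [inv_inv] at h1
    rw [h1, ← hh'c ((k⁻¹ * y * k)⁻¹ * c) k]
    congr 2
    group

/-- The idempotent of a character restricted to the fixed points, tested against `β`. -/
noncomputable def lamChar [Fintype (fixedSub φ)] (χ : IrrCharacter G)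
    (β : IrrCharacter (fixedSub φ)) : ℂ :=
  lamFun φ β (blockCoeff {χ})

omit [Finite S] in
theorem inv_blockCoeff {χ : IrrCharacter G} (hχ : Inv φ (χ : G → ℂ)) :
    Inv φ (blockCoeff {χ}) := fun s g => by
  rw [blockCoeff_singleton, blockCoeff_singleton, hχ s g]

theorem lamChar_memRing [Fintype (fixedSub φ)] (hM : IsPModular p M) (hpG : ¬ p ∣ Nat.card G)
    (χ : IrrCharacter G) (β : IrrCharacter (fixedSub φ)) : MemLocalRing M (lamChar φ χ β) :=
  omegaFun_memRing hM β
    (fun _ _ hgh => blockCoeff_congr' {χ} ((fixedSub φ).subtype.map_isConj hgh))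
    (fun _ => blockCoeff_singleton_memRing hM hpG χ _)
where
  blockCoeff_congr' (B : Set (IrrCharacter G)) {g h : G} (hgh : IsConj g h) :
      blockCoeff B g = blockCoeff B h := by
    obtain ⟨c, hc⟩ := isConj_iff.1 hgh
    rw [← hc, blockCoeff_conj_invariant]

theorem lamChar_mul [Fintype G] [Fintype (fixedSub φ)] [Fact p.Prime] (hM : IsPModular p M)
    (hS : IsPGroup p S) (hpG : ¬ p ∣ Nat.card G) {χ χ' : IrrCharacter G}
    (hχ : Inv φ (χ : G → ℂ)) (hχ' : Inv φ (χ' : G → ℂ)) (β : IrrCharacter (fixedSub φ)) :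
    (χ = χ' → MemLocalIdeal M (lamChar φ χ β - lamChar φ χ β * lamChar φ χ' β)) ∧
    (χ ≠ χ' → MemLocalIdeal M (lamChar φ χ β * lamChar φ χ' β)) := by
  classical
  have h := lamFun_conv φ hM hS β (blockCoeff_conj_invariant {χ}) (blockCoeff_conj_invariant {χ'})
    (blockCoeff_singleton_memRing hM hpG χ) (blockCoeff_singleton_memRing hM hpG χ')
    (inv_blockCoeff φ hχ) (inv_blockCoeff φ hχ')
  constructor
  · rintro rfl
    rwa [show (fun g => ∑ y, blockCoeff {χ} y * blockCoeff {χ} (y⁻¹ * g)) = blockCoeff {χ} from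
      funext (blockCoeff_conv {χ})] at h
  · intro hne
    have h0 : (fun g => ∑ y, blockCoeff {χ} y * blockCoeff {χ'} (y⁻¹ * g)) = fun _ => 0 := by
      refine eq_of_omegaFun_eq (fun g k => ?_) (fun _ _ => rfl) fun ξ => ?_
      · refine Fintype.sum_equiv (MulAut.conj k⁻¹).toEquiv _ _ fun y => ?_
        simp only [MulEquiv.toEquiv_eq_coe, EquivLike.coe_coe, MulAut.conj_apply, inv_inv]
        have h1 := blockCoeff_conj_invariant {χ} y k⁻¹
        rw [inv_inv] at h1
        rw [h1, ← blockCoeff_conj_invariant {χ'} ((k⁻¹ * y * k)⁻¹ * g) k]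
        congr 2
        group
      · rw [omegaFun_conv ξ _ _ (blockCoeff_conj_invariant {χ}), omegaFun_blockCoeff,
          omegaFun_blockCoeff]
        simp only [Set.mem_singleton_iff]
        have h2 : omegaFun ξ (fun _ : G => (0 : ℂ)) = 0 := by simp [omegaFun]
        rw [h2]
        split_ifs with h1 h2' <;> simp_all
    rw [h0] at h
    have h2 : lamFun φ β (fun _ : G => (0 : ℂ)) = 0 := by simp [lamFun, omegaFun]
    rw [h2, zero_sub] at h
    simpa [lamChar] using memIdeal_neg h

open Classical in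
theorem sum_invariant_lamChar [Fintype G] [Fintype (fixedSub φ)] [Fact p.Prime]
    (hM : IsPModular p M) (hS : IsPGroup p S) (hpG : ¬ p ∣ Nat.card G)
    (β : IrrCharacter (fixedSub φ)) :
    MemLocalIdeal M (1 - ∑ χ ∈ Finset.univ.filter (fun χ : IrrCharacter G => Inv φ (χ : G → ℂ)),
      lamChar φ χ β) := by
  letI : MulAction S (IrrCharacter G) :=
    { smul := fun s χ => ⟨(χ : G → ℂ) ∘ (φ s⁻¹), CfsgLib.Char.IsIrrCharacter.comp_mulEquiv χ.2 _⟩
      one_smul := fun χ => Subtype.ext (funext fun g => show (χ : G → ℂ) (φ 1⁻¹ g) = _ by simp)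
      mul_smul := fun s t χ => Subtype.ext (funext fun g =>
        show (χ : G → ℂ) (φ (s * t)⁻¹ g) = (χ : G → ℂ) (φ t⁻¹ (φ s⁻¹ g)) by
          rw [mul_inv_rev, map_mul]; rfl) }
  have hfix : ∀ χ : IrrCharacter G,
      χ ∈ MulAction.fixedPoints S (IrrCharacter G) ↔ Inv φ (χ : G → ℂ) := by
    intro χ
    constructor
    · intro h s g
      have := congrFun (congrArg Subtype.val (h s⁻¹)) g
      rw [← show (χ : G → ℂ) (φ s⁻¹⁻¹ g) = (χ : G → ℂ) g from this, inv_inv]
    · intro h s
      exact Subtype.ext (funext fun g => h s⁻¹ g)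
  have hsum : ∑ χ : IrrCharacter G, lamChar φ χ β = 1 := by
    have e : ∀ g : G, ∑ χ : IrrCharacter G, blockCoeff {χ} g = if g = 1 then 1 else 0 := by
      intro g
      have h := congrFun (eq_sum_omegaFun (H := G) (f := fun g => if g = 1 then (1 : ℂ) else 0)
        (fun g k => by simp [conj_eq_one_iff])) g
      rw [h]
      refine Finset.sum_congr rfl fun χ _ => ?_
      simp [omegaFun, deg_ne_zero χ]
    simp only [lamChar, lamFun, omegaFun, ← Finset.sum_div]
    rw [Finset.sum_comm]
    simp only [← Finset.sum_mul, e]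
    simp [deg_ne_zero β]
  have key := sum_sub_sum_fixed_memIdeal hM hS (fun χ : IrrCharacter G => lamChar φ χ β)
    (fun χ => lamChar_memRing φ hM hpG χ β)
    (fun s χ => by
      simp only [lamChar, lamFun]
      congr 1
      funext c
      rw [blockCoeff_singleton, blockCoeff_singleton]
      show (χ : G → ℂ) (φ s⁻¹ 1) * conj ((χ : G → ℂ) (φ s⁻¹ c)) / _ = _
      rw [map_one, c.2])
  rw [hsum] at key
  convert key using 4
  exact (hfix _).symm

theorem lamChar_dichotomy [Fintype G] [Fintype (fixedSub φ)] [Fact p.Prime] (hM : IsPModular p M)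
    (hS : IsPGroup p S) (hpG : ¬ p ∣ Nat.card G) {χ : IrrCharacter G} (hχ : Inv φ (χ : G → ℂ))
    (β : IrrCharacter (fixedSub φ)) :
    ¬ MemLocalIdeal M (lamChar φ χ β) → MemLocalIdeal M (lamChar φ χ β - 1) := by
  intro h
  have h1 := (lamChar_mul φ hM hS hpG hχ hχ β).1 rfl
  have hR := lamChar_memRing φ hM hpG χ β
  have : lamChar φ χ β - lamChar φ χ β * lamChar φ χ β =
      lamChar φ χ β * (1 - lamChar φ χ β) := by ring
  rw [this] at h1
  by_contra hne
  have hne' : ¬ MemLocalIdeal M (1 - lamChar φ χ β) := fun hh => hne (by simpa using memIdeal_neg hh)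
  exact not_memIdeal_mul hM hR (memRing_sub hM (memRing_one hM) hR) h hne' h1

/-- The correspondence, as a congruence of functions: for an invariant `χ` there is `β` with
`χ(1) χ(c) ≡ β(1) β(c)` on the fixed points. -/
theorem exists_congr [Fintype G] [Fintype (fixedSub φ)] [Fact p.Prime] (hM : IsPModular p M)
    (hS : IsPGroup p S) (hpG : ¬ p ∣ Nat.card G) {χ : IrrCharacter G} (hχ : Inv φ (χ : G → ℂ)) :
    ∃ β : IrrCharacter (fixedSub φ), ¬ MemLocalIdeal M (lamChar φ χ β) ∧
      (∀ β', ¬ MemLocalIdeal M (lamChar φ χ β') → β' = β) ∧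
      ∀ c : fixedSub φ, MemLocalIdeal M ((χ : G → ℂ) 1 * (χ : G → ℂ) c -
        (β : fixedSub φ → ℂ) 1 * (β : fixedSub φ → ℂ) c) := by
  classical
  have hpC := not_dvd_card_fixed φ hpG
  set r : fixedSub φ → ℂ := fun c => blockCoeff {χ} (c : G) with hr
  have hrc : ∀ c k, r (k * c * k⁻¹) = r c := fun c k => by
    simp [r, blockCoeff_conj_invariant]
  have hexp := eq_sum_omegaFun hrc
  obtain ⟨β, hβ⟩ : ∃ β, ¬ MemLocalIdeal M (lamChar φ χ β) := by
    by_contra hcon
    push Not at hcon
    have h1 : MemLocalIdeal M (r 1) := by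
      rw [hexp]
      exact memIdeal_sum hM _ fun β _ => memIdeal_mul_right hM (hcon β)
        (blockCoeff_singleton_memRing hM hpC β 1)
    simp only [hr, OneMemClass.coe_one, blockCoeff_singleton] at h1
    rw [← char_inv, inv_one, ← deg_cast] at h1
    have hd := not_dvd_deg hpG χ
    exact not_memIdeal_mul hM (memRing_mul hM (memRing_natCast hM _) (memRing_natCast hM _))
      (memRing_inv_natCast hM hpG)
      (not_memIdeal_mul hM (memRing_natCast hM _) (memRing_natCast hM _)
        (not_memIdeal_natCast hM hd) (not_memIdeal_natCast hM hd))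
      (not_memIdeal_inv hM (memRing_natCast hM _) (not_memIdeal_natCast hM hpG))
      (by rwa [← div_eq_mul_inv])
  -- uniqueness, by extending the idempotent of `β` to an invariant class function on `G`
  have huniq : ∀ β', ¬ MemLocalIdeal M (lamChar φ χ β') → β' = β := by
    intro β' hβ'
    by_contra hne
    let F : G → ℂ := fun g =>
      if h : ∃ c : fixedSub φ, IsConj g (c : G) then blockCoeff {β} h.choose else 0
    have hFval : ∀ c : fixedSub φ, F c = blockCoeff {β} c := by
      intro c
      have h : ∃ d : fixedSub φ, IsConj (c : G) (d : G) := ⟨c, IsConj.refl _⟩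
      simp only [F, dif_pos h]
      have h2 := isConj_of_isConj φ hS hpG h.choose_spec
      obtain ⟨k, hk⟩ := isConj_iff.1 h2
      rw [← hk, blockCoeff_conj_invariant]
    have hFc : ∀ g k, F (k * g * k⁻¹) = F g := by
      intro g k
      have hgk : IsConj g (k * g * k⁻¹) := isConj_iff.2 ⟨k, rfl⟩
      by_cases h : ∃ c : fixedSub φ, IsConj g (c : G)
      · have h' : ∃ c : fixedSub φ, IsConj (k * g * k⁻¹) (c : G) :=
          ⟨h.choose, hgk.symm.trans h.choose_spec⟩
        simp only [F, dif_pos h, dif_pos h']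
        obtain ⟨j, hj⟩ := isConj_iff.1
          (isConj_of_isConj φ hS hpG ((hgk.trans h'.choose_spec).symm.trans h.choose_spec))
        rw [← hj, blockCoeff_conj_invariant]
      · have h' : ¬ ∃ c : fixedSub φ, IsConj (k * g * k⁻¹) (c : G) :=
          fun ⟨c, hc⟩ => h ⟨c, hgk.trans hc⟩
        simp only [F, dif_neg h, dif_neg h']
    have hFS : Inv φ F := by
      intro s g
      have hiff : ∀ c : fixedSub φ, IsConj (φ s g) (c : G) ↔ IsConj g (c : G) := by
        intro c
        constructor
        · intro h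
          have h1 := (φ s).symm.toMonoidHom.map_isConj h
          have h2 : (φ s).symm (c : G) = c := by rw [MulEquiv.symm_apply_eq, c.2 s]
          simpa [h2] using h1
        · intro h
          have h1 := (φ s).toMonoidHom.map_isConj h
          simpa [c.2 s] using h1
      by_cases h : ∃ c : fixedSub φ, IsConj g (c : G)
      · have h' : ∃ c : fixedSub φ, IsConj (φ s g) (c : G) := ⟨h.choose, (hiff _).2 h.choose_spec⟩
        simp only [F, dif_pos h, dif_pos h']
        obtain ⟨j, hj⟩ := isConj_iff.1
          (isConj_of_isConj φ hS hpG (((hiff _).1 h'.choose_spec).symm.trans h.choose_spec))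
        rw [← hj, blockCoeff_conj_invariant]
      · have h' : ¬ ∃ c : fixedSub φ, IsConj (φ s g) (c : G) :=
          fun ⟨c, hc⟩ => h ⟨c, (hiff c).1 hc⟩
        simp only [F, dif_neg h, dif_neg h']
    have hFR : ∀ g, MemLocalRing M (F g) := by
      intro g
      simp only [F]
      split_ifs
      · exact blockCoeff_singleton_memRing hM hpC β _
      · exact memRing_zero hM
    have hconv : (fun g => ∑ y, F y * blockCoeff {χ} (y⁻¹ * g)) =
        fun g => omegaFun χ F * blockCoeff {χ} g := by
      refine eq_of_omegaFun_eq (fun g k => ?_) (fun g k => by rw [blockCoeff_conj_invariant])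
        fun ξ => ?_
      · refine Fintype.sum_equiv (MulAut.conj k⁻¹).toEquiv _ _ fun y => ?_
        simp only [MulEquiv.toEquiv_eq_coe, EquivLike.coe_coe, MulAut.conj_apply, inv_inv]
        have h1 := hFc y k⁻¹
        rw [inv_inv] at h1
        rw [h1, ← blockCoeff_conj_invariant {χ} ((k⁻¹ * y * k)⁻¹ * g) k]
        congr 2
        group
      · rw [omegaFun_conv ξ _ _ hFc, omegaFun_blockCoeff]
        have h2 : omegaFun ξ (fun g => omegaFun χ F * blockCoeff {χ} g) =
            omegaFun χ F * omegaFun ξ (blockCoeff {χ}) := by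
          simp only [omegaFun, Finset.sum_mul, Finset.mul_sum, Finset.sum_div, mul_assoc]
          exact Finset.sum_congr rfl fun g _ => Finset.sum_congr rfl fun _ _ => by ring
        rw [h2, omegaFun_blockCoeff]
        simp only [Set.mem_singleton_iff]
        split_ifs with h1
        · rw [h1]
        · simp
    have hlamF : ∀ γ : IrrCharacter (fixedSub φ), lamFun φ γ F = if γ = β then 1 else 0 := by
      intro γ
      rw [lamFun, show (fun c : fixedSub φ => F c) = blockCoeff {β} from funext hFval,
        omegaFun_blockCoeff]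
      simp [Set.mem_singleton_iff]
    have key : ∀ γ : IrrCharacter (fixedSub φ), MemLocalIdeal M
        (omegaFun χ F * lamChar φ χ γ - (if γ = β then 1 else 0) * lamChar φ χ γ) := by
      intro γ
      have h := lamFun_conv φ hM hS γ hFc (blockCoeff_conj_invariant {χ}) hFR
        (blockCoeff_singleton_memRing hM hpG χ) hFS (inv_blockCoeff φ hχ)
      rw [hconv, hlamF] at h
      have h2 : lamFun φ γ (fun g => omegaFun χ F * blockCoeff {χ} g) =
          omegaFun χ F * lamChar φ χ γ := by
        simp only [lamChar, lamFun, omegaFun, Finset.sum_mul, Finset.mul_sum, Finset.sum_div,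
          mul_assoc]
        exact Finset.sum_congr rfl fun g _ => Finset.sum_congr rfl fun _ _ => by ring
      rwa [h2] at h
    have hw : MemLocalRing M (omegaFun χ F) :=
      omegaFun_memRing hM χ (congr_of_conj_invariant hFc) hFR
    have k1 := key β
    rw [if_pos rfl, ← sub_mul] at k1
    have k2 := key β'
    rw [if_neg hne, zero_mul, sub_zero] at k2
    have hw0 : MemLocalIdeal M (omegaFun χ F) := by
      by_contra h
      exact not_memIdeal_mul hM hw (lamChar_memRing φ hM hpG χ β') h hβ' k2
    have hw1 : ¬ MemLocalIdeal M (omegaFun χ F - 1) := fun h =>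
      not_memIdeal_one hM (by simpa using memIdeal_sub hM hw0 h)
    exact not_memIdeal_mul hM (memRing_sub hM hw (memRing_one hM))
      (lamChar_memRing φ hM hpG χ β) hw1 hβ k1
  refine ⟨β, hβ, huniq, fun c => ?_⟩
  have hrel : ∀ d : fixedSub φ, MemLocalIdeal M (r d - blockCoeff {β} d) := by
    intro d
    have : r d - blockCoeff {β} d =
        ∑ γ, (omegaFun γ r - if γ = β then 1 else 0) * blockCoeff {γ} d := by
      simp only [sub_mul, Finset.sum_sub_distrib, ite_mul, one_mul, zero_mul, Finset.sum_ite_eq',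
        Finset.mem_univ, if_true]
      rw [← congrFun hexp d]
    rw [this]
    refine memIdeal_sum hM _ fun γ _ =>
      memIdeal_mul_right hM ?_ (blockCoeff_singleton_memRing hM hpC γ d)
    split_ifs with hγ
    · subst hγ; exact lamChar_dichotomy φ hM hS hpG hχ γ hβ
    · rw [sub_zero]
      by_contra h
      exact hγ (huniq γ h)
  have h1 := hrel c⁻¹
  simp only [hr, blockCoeff_singleton, Subgroup.coe_inv, char_inv, Complex.conj_conj] at h1
  -- clear the group orders, congruent mod p
  have hcards : MemLocalIdeal M ((Nat.card G : ℂ) - (Nat.card (fixedSub φ) : ℂ)) := by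
    have h := Nat.modEq_iff_dvd.1 (card_congr_fixed φ hS).symm
    have h' := (memIdeal_intCast_iff hM _).2 h
    push_cast at h'
    exact h'
  have hG0 : (Nat.card G : ℂ) ≠ 0 := by exact_mod_cast Nat.card_pos.ne'
  have hC0 : (Nat.card (fixedSub φ) : ℂ) ≠ 0 := by exact_mod_cast Nat.card_pos.ne'
  have heq : (χ : G → ℂ) 1 * (χ : G → ℂ) c - (β : fixedSub φ → ℂ) 1 * (β : fixedSub φ → ℂ) c =
      (Nat.card G : ℂ) * ((χ : G → ℂ) 1 * (χ : G → ℂ) c / (Nat.card G : ℂ) -
        (β : fixedSub φ → ℂ) 1 * (β : fixedSub φ → ℂ) c / (Nat.card (fixedSub φ) : ℂ)) +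
      ((Nat.card G : ℂ) - (Nat.card (fixedSub φ) : ℂ)) *
        ((β : fixedSub φ → ℂ) 1 * (β : fixedSub φ → ℂ) c * (Nat.card (fixedSub φ) : ℂ)⁻¹) := by
    field_simp
    ring
  rw [heq]
  exact memIdeal_add hM (memIdeal_mul_left hM (memRing_natCast hM _) h1)
    (memIdeal_mul_right hM hcards (memRing_mul hM
      (memRing_mul hM (memRing_char hM β 1) (memRing_char hM β c)) (memRing_inv_natCast hM hpC)))

end CfsgLib.Glauberman
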