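import Cfsg.Agent.Lib.Glauberman.LayerCorr
import Cfsg.Agent.Lib.LocalStr.Basic
import Cfsg.Agent.Lib.Blk83.ItoMichler
import Cfsg.Agent.Lib.BlockReg.Integral
import Cfsg.Agent.Lib.CharTools.Basic
import Cfsg.Agent.S0867
import Cfsg.Prelude.Def_Transfer

/-!
# The degrees prime to `p` with determinantal order prime to `p`

They restrict bijectively to the invariant characters of degree prime to `p` of the `p`-residual.
-/

set_option autoImplicit false

namespace CfsgLib.Glauberman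

open Cfsg CfsgLib CfsgLib.BlockReg

universe u

variable {G : Type u} [Group G] [Finite G] {p : ℕ} [Fact p.Prime]

omit [Finite G] in
/-- The determinantal character of a linear character is the character itself. -/
theorem detChar_linear [Finite G] (f : G →* ℂˣ) :
    detChar (fun g => (f g : ℂ)) = fun g => (f g : ℂ) := by
  obtain ⟨n, ρ, hρ, he⟩ := Char.isIrrCharacter_linear f
  have hn : n = 1 := by
    have := congrFun he 1
    rw [Representation.char_one, Module.finrank_fin_fun] at this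
    simp only [map_one, Units.val_one] at this
    exact_mod_cast this
  subst hn
  rw [← he, CharDeep.Cover.detChar_eq]
  funext g
  show _ = LinearMap.trace ℂ (Fin 1 → ℂ) (ρ g)
  rw [LinearMap.trace_eq_matrix_trace ℂ (Pi.basisFun ℂ (Fin 1)),
    ← LinearMap.det_toMatrix (Pi.basisFun ℂ (Fin 1)), Matrix.det_fin_one, Matrix.trace]
  simp

/-- The determinantal order of a character of the `p`-residual is prime to `p`. -/
theorem not_dvd_detOrder_residual (N : Subgroup G) (hN : N = pResidual p G) {θ : N → ℂ}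
    (hθ : IsIrrCharacter N θ) [N.Normal] : ¬ p ∣ detOrder θ := by
  obtain ⟨δ, hδ⟩ := CharDeep.Extend.exists_det_hom N θ hθ
  rw [detOrder, hδ, CharDeep.Lin.orderOf_coe]
  intro hd
  have ho : 0 < orderOf δ := orderOf_pos_iff.2 (isOfFinOrder_iff_pow_eq_one.2 ⟨Nat.card N,
    Nat.card_pos, MonoidHom.ext fun x => by
      rw [MonoidHom.pow_apply, ← map_pow, pow_card_eq_one', map_one, MonoidHom.one_apply]⟩)
  set δ' := δ ^ (orderOf δ / p) with hδ'
  have hord : orderOf δ' = p := by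
    rw [hδ', orderOf_pow_of_dvd (Nat.div_pos (Nat.le_of_dvd ho hd)
      (Fact.out : p.Prime).pos).ne' (Nat.div_dvd_of_dvd hd)]
    exact Nat.div_div_self hd ho.ne'
  have hone : ∀ (g : G) (hg : g ∈ N), δ' ⟨g, hg⟩ = 1 := by
    let K : Subgroup G := δ'.ker.map N.subtype
    have hle : pResidual p G ≤ K := by
      rw [pResidual, Subgroup.closure_le]
      intro g hg
      have hgN : g ∈ N := by rw [hN]; exact Subgroup.subset_closure hg
      refine ⟨⟨g, hgN⟩, MonoidHom.mem_ker.2 ?_, rfl⟩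
      have h1 : (δ' ⟨g, hgN⟩) ^ orderOf g = 1 := by
        rw [← map_pow, show (⟨g, hgN⟩ : N) ^ orderOf g = 1 from
          Subtype.ext (by simp [pow_orderOf_eq_one]), map_one]
      have h2 : (δ' ⟨g, hgN⟩) ^ p = 1 := by
        rw [← MonoidHom.pow_apply, ← hord, pow_orderOf_eq_one, MonoidHom.one_apply]
      exact pow_gcd_eq_one.2 ⟨h1, h2⟩ |> fun h => by rwa [hg, pow_one] at h
    intro g hg
    obtain ⟨x, hx, hxe⟩ := hle (by rw [← hN]; exact hg : g ∈ pResidual p G)
    rw [show (⟨g, hg⟩ : N) = x from Subtype.ext hxe.symm]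
    exact MonoidHom.mem_ker.1 hx
  have h1 : δ' = 1 := MonoidHom.ext fun x => hone x x.2
  rw [h1, orderOf_one] at hord
  exact (Fact.out : p.Prime).ne_one hord.symm

/-- The character above an invariant character of degree prime to `p`. -/
theorem existsUnique_above (N : Subgroup G) (hN : N = pResidual p G) [N.Normal] {k : ℕ}
    (hk : N.index = p ^ k) (θ : IrrCharacter N)
    (hinv : ∀ g, CharTwist.conjFun N (θ : N → ℂ) g = (θ : N → ℂ))
    (hdeg : ¬ p ∣ charDegree (θ : N → ℂ)) :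
    ∃ χ : IrrCharacter G, (∀ x : N, (χ : G → ℂ) x = (θ : N → ℂ) x) ∧
      ¬ p ∣ detOrder (χ : G → ℂ) ∧ ∀ χ' : IrrCharacter G,
        (∀ x : N, (χ' : G → ℂ) x = (θ : N → ℂ) x) → ¬ p ∣ detOrder (χ' : G → ℂ) → χ' = χ := by
  have hp : p.Prime := Fact.out
  obtain ⟨χ, ⟨hχ, hres, hdet⟩, huniq⟩ := Cfsg.Agent.S0867.result N (θ : N → ℂ) θ.2
    (fun g x => congrFun (hinv g) x) _ (Blk83.one_eq θ) (by
      rw [hk]
      exact (Nat.Coprime.pow_left k ((hp.coprime_iff_not_dvd).2 fun h =>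
        (hp.dvd_mul.1 h).elim (not_dvd_detOrder_residual N hN θ.2) hdeg)))
  refine ⟨⟨χ, hχ⟩, hres, ?_, fun χ' h1 h2 => Subtype.ext (huniq χ' χ'.2 h1 ?_)⟩
  · show ¬ p ∣ detOrder χ
    rw [hdet]
    exact not_dvd_detOrder_residual N hN θ.2
  · rw [hk]
    exact (hp.coprime_iff_not_dvd.2 h2).pow_left k

/-- The congruence for the order of the `p`-residual. -/
theorem card_residual_modEq :
    (Nat.card (pResidual p G) : ℤ) ≡ (∑ᶠ χ ∈ {χ : IrrCharacter G |
      ¬ p ∣ charDegree (χ : G → ℂ) ∧ ¬ p ∣ detOrder (χ : G → ℂ)},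
      (charDegree (χ : G → ℂ) : ℤ) ^ 2) [ZMOD p] := by
  classical
  haveI := Fintype.ofFinite G
  have hp : p.Prime := Fact.out
  set N := pResidual p G with hN
  haveI : N.Normal := LocalStr.pResidual_normal G p
  haveI := Fintype.ofFinite N
  obtain ⟨k, hk⟩ := IsPGroup.iff_card.1 (LocalStr.isPGroup_quotient_pResidual G p)
  have hk : N.index = p ^ k := hk
  -- the action on the characters of `N`
  letI : MulAction G (IrrCharacter N) :=
    { smul := fun g θ => irrEquiv (MulAut.conjNormal (H := N) g⁻¹) θ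
      one_smul := fun θ => Subtype.ext (funext fun n =>
        congrArg (θ : N → ℂ) (Subtype.ext (by simp)))
      mul_smul := fun g h θ => Subtype.ext (funext fun n =>
        congrArg (θ : N → ℂ) (Subtype.ext (by simp [mul_assoc]))) }
  have hfix : ∀ θ : IrrCharacter N, (∀ g : G, g • θ = θ) ↔
      ∀ g, CharTwist.conjFun N (θ : N → ℂ) g = (θ : N → ℂ) := by
    intro θ
    refine ⟨fun h g => ?_, fun h g => Subtype.ext (h g⁻¹)⟩
    have h1 := congrArg Subtype.val (h g⁻¹)
    refine Eq.trans (funext fun n => congrArg (θ : N → ℂ) (Subtype.ext ?_)) h1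
    simp
  obtain ⟨M, hM⟩ := exists_isPModular hp
  have key := sum_sub_sum_fixed_of_pow hM (T := G) (α := IrrCharacter N)
    (fun g => ⟨k, fun θ => Subtype.ext (funext fun n => by
      have hg : g ^ p ^ k ∈ N := hk ▸ Subgroup.pow_index_mem N g
      exact (congrArg (θ : N → ℂ) (Subtype.ext (by simp [← map_pow]))).trans
        (Char.IsIrrCharacter.isClassFunction θ.2 n ⟨(g ^ p ^ k)⁻¹, inv_mem hg⟩))⟩)
    (fun θ => (((charDegree (θ : N → ℂ) : ℤ) ^ 2 : ℤ) : ℂ))
    (fun θ => memRing_intCast hM _)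
    (fun g θ => by
      show (((charDegree ((θ : N → ℂ) ∘ MulAut.conjNormal (H := N) g⁻¹) : ℤ) ^ 2 : ℤ) : ℂ) = _
      simp only [charDegree, Function.comp_apply, map_one])
  rw [← Int.cast_sum, ← Int.cast_sum, ← Int.cast_sub, memIdeal_intCast_iff hM] at key
  have hNsum : ∑ θ : IrrCharacter N, (charDegree (θ : N → ℂ) : ℤ) ^ 2 = (Nat.card N : ℤ) := by
    exact_mod_cast CharTools.sum_degree_sq' (G := N)
  rw [hNsum] at key
  -- restriction
  set X : Finset (IrrCharacter N) := Finset.univ.filter fun θ =>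
    (∀ g, CharTwist.conjFun N (θ : N → ℂ) g = (θ : N → ℂ)) ∧ ¬ p ∣ charDegree (θ : N → ℂ) with hX
  have hmod : (∑ θ ∈ Finset.univ.filter (fun θ : IrrCharacter N => ∀ g : G, g • θ = θ),
      (charDegree (θ : N → ℂ) : ℤ) ^ 2) ≡ ∑ θ ∈ X, (charDegree (θ : N → ℂ) : ℤ) ^ 2 [ZMOD p] := by
    rw [← Finset.sum_filter_add_sum_filter_not
      (Finset.univ.filter (fun θ : IrrCharacter N => ∀ g : G, g • θ = θ))
      (fun θ => ¬ p ∣ charDegree (θ : N → ℂ)), Finset.filter_filter, Finset.filter_filter]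
    have h1 : Finset.univ.filter (fun θ : IrrCharacter N =>
        (∀ g : G, g • θ = θ) ∧ ¬ p ∣ charDegree (θ : N → ℂ)) = X :=
      Finset.filter_congr fun θ _ => by rw [hfix]
    rw [h1]
    conv_rhs => rw [← add_zero (∑ θ ∈ X, (charDegree (θ : N → ℂ) : ℤ) ^ 2)]
    refine Int.ModEq.add_left _ (Int.modEq_zero_iff_dvd.2 (Finset.dvd_sum fun θ hθ => ?_))
    have h2 := not_not.1 (Finset.mem_filter.1 hθ).2.2
    exact dvd_pow (Int.natCast_dvd_natCast.2 h2) two_ne_zero
  have hcongr : (Nat.card N : ℤ) ≡ ∑ θ ∈ X, (charDegree (θ : N → ℂ) : ℤ) ^ 2 [ZMOD p] := by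
    refine Int.ModEq.trans ?_ hmod
    rw [Int.modEq_iff_dvd]
    rw [← dvd_neg, neg_sub]
    exact key
  refine hcongr.trans (Eq.subst (motive := fun z => _ ≡ z [ZMOD p]) ?_ (Int.ModEq.refl _))
  rw [finsum_mem_eq_toFinset_sum]
  have hXmem : ∀ θ ∈ X, ∃ χ : IrrCharacter G, (∀ x : N, (χ : G → ℂ) x = (θ : N → ℂ) x) ∧
      ¬ p ∣ detOrder (χ : G → ℂ) ∧ ∀ χ' : IrrCharacter G,
        (∀ x : N, (χ' : G → ℂ) x = (θ : N → ℂ) x) → ¬ p ∣ detOrder (χ' : G → ℂ) → χ' = χ :=
    fun θ hθ => existsUnique_above N hN hk θ (Finset.mem_filter.1 hθ).2.1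
      (Finset.mem_filter.1 hθ).2.2
  choose ext hext using hXmem
  have hdeg : ∀ θ (hθ : θ ∈ X), charDegree (ext θ hθ : G → ℂ) = charDegree (θ : N → ℂ) := by
    intro θ hθ
    have h := (hext θ hθ).1 1
    rw [OneMemClass.coe_one] at h
    rw [charDegree, charDegree, h]
  refine Finset.sum_bij (fun θ hθ => ext θ hθ) (fun θ hθ => ?_) (fun θ hθ θ' hθ' he => ?_)
    (fun χ hχ => ?_) (fun θ hθ => by rw [hdeg])
  · rw [Set.mem_toFinset]
    exact ⟨by rw [hdeg]; exact (Finset.mem_filter.1 hθ).2.2, (hext θ hθ).2.1⟩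
  · refine Subtype.ext (funext fun x => ?_)
    rw [← (hext θ hθ).1 x, he, (hext θ' hθ').1]
  · obtain ⟨hd, hdet⟩ := Set.mem_toFinset.1 hχ
    obtain ⟨θ, hθ, hcon⟩ := Clifford.exists_constituent_res N χ.2
    have hdvd := Blk83.dvd_of_constituent N χ ⟨θ, hθ⟩ hcon
    have hNI : N ≤ CharTwist.inertia N θ := fun x hx => CharTwist.mem_inertia.2 (funext fun m =>
      (congrArg θ (Subtype.ext rfl)).trans
        (Char.IsIrrCharacter.isClassFunction hθ m ⟨x, hx⟩))
    have ht : (CharTwist.inertia N θ).index = 1 :=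
      Nat.eq_one_of_dvd_coprimes ((hp.coprime_iff_not_dvd.2 hd).pow_left k).symm
        ((dvd_mul_left _ _).trans hdvd) (hk ▸ Subgroup.index_dvd_of_le hNI)
    have hinv : ∀ g, CharTwist.conjFun N θ g = θ := fun g => CharTwist.mem_inertia.1 (by
      rw [Subgroup.index_eq_one.1 ht]; trivial)
    obtain ⟨b, d, hd1, hd2, hd3⟩ := CharDeep.Extend.degree_dvd N θ hθ
      (fun g x => congrFun (hinv g) x) χ χ.2 hcon
    have hχd : charDegree (χ : G → ℂ) = b * d := by
      rw [charDegree, hd2, Complex.natCast_re, Nat.floor_natCast]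
    have hb : b = 1 := Nat.eq_one_of_dvd_coprimes ((hp.coprime_iff_not_dvd.2 hd).pow_left k).symm
      ⟨d, hχd⟩ (hk ▸ hd3)
    obtain ⟨e, -, he⟩ := CharDeep.Cliff.res_eq_smul N χ.2 hθ hinv hcon
    have he1 := congrFun he 1
    simp only [Pi.smul_apply, smul_eq_mul, OneMemClass.coe_one] at he1
    rw [hd2, hd1, hb, one_mul] at he1
    have hd0 : (d : ℂ) ≠ 0 := hd1 ▸ Char.IsIrrCharacter.apply_one_ne_zero hθ
    have he2 : (e : ℂ) = 1 := by
      refine mul_right_cancel₀ hd0 ?_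
      rw [one_mul, ← he1]
    have hres : ∀ x : N, (χ : G → ℂ) x = θ x := fun x => by
      have := congrFun he x
      rwa [Pi.smul_apply, smul_eq_mul, he2, one_mul] at this
    have hmem : (⟨θ, hθ⟩ : IrrCharacter N) ∈ X := Finset.mem_filter.2 ⟨Finset.mem_univ _, hinv, by
      have h := hres 1
      rw [OneMemClass.coe_one] at h
      show ¬ p ∣ charDegree θ
      rwa [charDegree, ← h]⟩
    exact ⟨_, hmem, ((hext _ hmem).2.2 χ hres hdet).symm⟩

/-- If every nonlinear degree is divisible by `p`, the residual has order prime to `p`. -/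
theorem not_dvd_card_residual
    (hdeg : ∀ χ : IrrCharacter G, charDegree (χ : G → ℂ) ≠ 1 → p ∣ charDegree (χ : G → ℂ)) :
    ¬ p ∣ Nat.card (pResidual p G) := by
  classical
  have hp : p.Prime := Fact.out
  let Λ : Subgroup (G →* ℂˣ) :=
    { carrier := {f | ¬ p ∣ orderOf f}
      one_mem' := by simp [orderOf_one, hp.ne_one]
      mul_mem' := fun {a b} ha hb h => by
        have h1 := h.trans ((Commute.all a b).orderOf_mul_dvd_lcm.trans (Nat.lcm_dvd_mul _ _))
        exact (hp.dvd_mul.1 h1).elim ha hb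
      inv_mem' := fun {a} ha => by simpa using ha }
  have hΛ : ¬ p ∣ Nat.card Λ := fun h => by
    obtain ⟨x, hx⟩ := exists_prime_orderOf_dvd_card' p h
    exact x.2 (by rw [Subgroup.orderOf_coe, hx])
  intro hN
  refine hΛ (Int.natCast_dvd_natCast.1 (Int.modEq_zero_iff_dvd.1 ?_))
  have h1 := (card_residual_modEq (G := G) (p := p))
  refine Int.ModEq.trans ?_ (h1.symm.trans (Int.modEq_zero_iff_dvd.2 (Int.natCast_dvd_natCast.2 hN)))
  rw [finsum_mem_eq_toFinset_sum]
  refine (Int.modEq_of_dvd (a := (Nat.card Λ : ℤ)) ?_)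
  rw [sub_eq_zero.2 ?_]
  · exact dvd_zero _
  haveI := Fintype.ofFinite Λ
  rw [Nat.card_eq_fintype_card, ← Finset.card_univ, Finset.cast_card]
  refine (Finset.sum_bij
    (fun (f : Λ) _ => (⟨_, Char.isIrrCharacter_linear (f : G →* ℂˣ)⟩ : IrrCharacter G))
    (fun f _ => ?_) (fun f _ f' _ he => ?_) (fun χ hχ => ?_) (fun f _ => ?_)).symm
  · rw [Set.mem_toFinset]
    refine ⟨by simp [charDegree, hp.ne_one], ?_⟩
    show ¬ p ∣ detOrder fun g => (((f : G →* ℂˣ) g : ℂˣ) : ℂ)
    rw [detOrder, detChar_linear, CharDeep.Lin.orderOf_coe]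
    exact f.2
  · exact Subtype.ext (CharDeep.Lin.coeFun_injective (congrArg Subtype.val he))
  · obtain ⟨hd, hdet⟩ := Set.mem_toFinset.1 hχ
    have h1 : charDegree (χ : G → ℂ) = 1 := by_contra fun h => hd (hdeg χ h)
    obtain ⟨f, hf⟩ := Char.IsCharacter.exists_linear (Char.IsIrrCharacter.isCharacter χ.2)
      (by rw [Blk83.one_eq χ, h1, Nat.cast_one])
    have he : (χ : G → ℂ) = fun g => (f g : ℂ) := funext hf
    rw [he, detOrder, detChar_linear, CharDeep.Lin.orderOf_coe] at hdet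
    exact ⟨⟨f, hdet⟩, Finset.mem_univ _, Subtype.ext he.symm⟩
  · simp [charDegree]

end CfsgLib.Glauberman
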