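import Cfsg.Agent.Lib.Glauberman.Correspondence
import Cfsg.Agent.Lib.Char.Twist
import Cfsg.Agent.Lib.Char.Clifford

/-!
# Transport of characters along isomorphisms; the action of a normalising subgroup
-/

set_option autoImplicit false

namespace CfsgLib.Glauberman

open Cfsg

universe u v w

section Equiv

variable {H : Type u} [Group H] {K : Type v} [Group K]

/-- Irreducible characters of isomorphic groups correspond. -/
noncomputable def irrEquiv (e : H ≃* K) : IrrCharacter K ≃ IrrCharacter H where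
  toFun χ := ⟨(χ : K → ℂ) ∘ e, CfsgLib.CharTwist.isIrrCharacter_comp_equiv χ.2 e⟩
  invFun χ := ⟨(χ : H → ℂ) ∘ e.symm, CfsgLib.CharTwist.isIrrCharacter_comp_equiv χ.2 e.symm⟩
  left_inv χ := Subtype.ext (funext fun g => by simp)
  right_inv χ := Subtype.ext (funext fun g => by simp)

theorem irrEquiv_apply (e : H ≃* K) (χ : IrrCharacter K) (h : H) :
    ((irrEquiv e χ : IrrCharacter H) : H → ℂ) h = (χ : K → ℂ) (e h) := rfl

end Equiv

variable {Γ : Type u} [Group Γ]

/-- Conjugation of `S` on a subgroup `G` it normalises. -/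
def conjHom (G S : Subgroup Γ) (hnorm : ∀ s ∈ S, ∀ g ∈ G, s * g * s⁻¹ ∈ G) : S →* MulAut G where
  toFun s :=
    { toFun := fun g => ⟨s * g * (s : Γ)⁻¹, hnorm s s.2 g g.2⟩
      invFun := fun g => ⟨(s : Γ)⁻¹ * g * s, by simpa using hnorm _ (inv_mem s.2) g g.2⟩
      left_inv := fun g => Subtype.ext (by simp [mul_assoc])
      right_inv := fun g => Subtype.ext (by simp [mul_assoc])
      map_mul' := fun a b => Subtype.ext (by simp [mul_assoc]) }
  map_one' := by ext g; simp
  map_mul' s t := by ext g; simp [mul_assoc]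

variable (G S : Subgroup Γ) (hnorm : ∀ s ∈ S, ∀ g ∈ G, s * g * s⁻¹ ∈ G)

theorem conjHom_apply (s : S) (g : G) : ((conjHom G S hnorm s g : G) : Γ) = s * g * (s : Γ)⁻¹ := rfl

theorem inv_conjHom_iff (f : G → ℂ) :
    (∀ s ∈ S, ∀ g g' : G, (g' : Γ) = s * g * s⁻¹ → f g' = f g) ↔ Inv (conjHom G S hnorm) f :=
  ⟨fun h s g => h s s.2 g _ (conjHom_apply G S hnorm s g), fun h s hs g g' he => by
    have : g' = conjHom G S hnorm ⟨s, hs⟩ g := Subtype.ext he
    rw [this, h]⟩

theorem mem_fixedSub_conjHom (g : G) :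
    g ∈ fixedSub (conjHom G S hnorm) ↔ (g : Γ) ∈ Subgroup.centralizer (S : Set Γ) := by
  rw [mem_fixedSub, Subgroup.mem_centralizer_iff]
  constructor
  · intro h s hs
    have h1 := congrArg (fun x : G => (x : Γ)) (h ⟨s, hs⟩)
    simp only [conjHom_apply] at h1
    rwa [mul_inv_eq_iff_eq_mul] at h1
  · intro h s
    refine Subtype.ext ?_
    rw [conjHom_apply, mul_inv_eq_iff_eq_mul]
    exact h s s.2

/-- The fixed points as a subgroup of the ambient group. -/
def fixedEquiv (C : Subgroup Γ) (hC : C = G ⊓ Subgroup.centralizer (S : Set Γ)) :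
    C ≃* fixedSub (conjHom G S hnorm) where
  toFun c := ⟨⟨c, (hC ▸ c.2 : (c : Γ) ∈ G ⊓ Subgroup.centralizer (S : Set Γ)).1⟩,
    (mem_fixedSub_conjHom G S hnorm _).2 (hC ▸ c.2 : (c : Γ) ∈ G ⊓ Subgroup.centralizer (S : Set Γ)).2⟩
  invFun x := ⟨((x : G) : Γ), hC.symm ▸ ⟨(x : G).2, (mem_fixedSub_conjHom G S hnorm _).1 x.2⟩⟩
  left_inv _ := rfl
  right_inv _ := rfl
  map_mul' _ _ := rfl

end CfsgLib.Glauberman
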